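import Mathlib

/-!
An automorphism `σ` of prime order `r` of a finite group of order prime to `r`: fixed points in
invariant sets, invariant Sylow 2-subgroups and their conjugacy under fixed elements.
-/

set_option autoImplicit false
set_option linter.all false

open Subgroup

namespace H41.Shult

variable {G : Type*} [Group G]

/-- `H` is invariant under `σ`. -/
def SInv (σ : MulAut G) (H : Subgroup G) : Prop := ∀ x ∈ H, σ x ∈ H

/-- `P` is a Sylow 2-subgroup of `H` (up to conjugacy in `H`). -/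
def IsSylTwo (H P : Subgroup G) : Prop :=
  P ≤ H ∧ IsPGroup 2 P ∧
    ∀ T : Subgroup G, T ≤ H → IsPGroup 2 T → ∃ h ∈ H, ∀ t ∈ T, h * t * h⁻¹ ∈ P

variable [Finite G] {σ : MulAut G} {r : ℕ}

theorem SInv.mem_iff {H : Subgroup G} (h : SInv σ H) {x : G} : σ x ∈ H ↔ x ∈ H := by
  refine ⟨fun hx => ?_, fun hx => h x hx⟩
  obtain ⟨⟨y, hy⟩, he⟩ := (Finite.injective_iff_surjective
    (f := fun z : H => (⟨σ z, h z z.2⟩ : H))).mp
    (fun a b e => Subtype.ext (σ.injective (congrArg Subtype.val e))) ⟨σ x, hx⟩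
  have : σ y = σ x := congrArg Subtype.val he
  rwa [← σ.injective this]

theorem SInv.inf {H K : Subgroup G} (h : SInv σ H) (h' : SInv σ K) : SInv σ (H ⊓ K) :=
  fun x hx => ⟨h x hx.1, h' x hx.2⟩

theorem sInv_centralizer {x : G} (hx : σ x = x) : SInv σ (centralizer ({x} : Set G)) := by
  intro y hy
  rw [mem_centralizer_singleton_iff] at hy ⊢
  calc σ y * x = σ y * σ x := by rw [hx]
    _ = σ (y * x) := (map_mul σ y x).symm
    _ = σ (x * y) := by rw [hy]
    _ = x * σ y := by rw [map_mul, hx]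

theorem pow_fix {x : G} (hx : σ x = x) (i : ℕ) : (σ ^ i) x = x := by
  induction i with
  | zero => rfl
  | succ n ih => rw [pow_succ, MulAut.mul_apply, hx, ih]

/-- An invariant set of size prime to `r` contains a fixed point. -/
theorem exists_fixed (hr : r.Prime) (hσ : σ ^ r = 1) {X : Type*} [Finite X] (f : X → X)
    (hf : ∀ x, f^[r] x = x) (hX : ¬ r ∣ Nat.card X) : ∃ x, f x = x := by
  haveI := Fact.mk hr
  let e : Equiv.Perm X :=
    { toFun := f
      invFun := f^[r - 1]
      left_inv := fun x => by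
        show f^[r - 1] (f x) = x
        rw [← Function.iterate_succ_apply, Nat.succ_eq_add_one, Nat.sub_add_cancel hr.one_le, hf]
      right_inv := fun x => by
        show f (f^[r - 1] x) = x
        rw [← Function.iterate_succ_apply' f, Nat.succ_eq_add_one, Nat.sub_add_cancel hr.one_le, hf] }
  have he : e ^ r = 1 := Equiv.ext fun x => by
    rw [Equiv.Perm.coe_pow]; exact hf x
  have hp : IsPGroup r (zpowers e) := by
    rintro ⟨_, i, rfl⟩
    refine ⟨1, Subtype.ext ?_⟩
    show (e ^ i) ^ r ^ 1 = 1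
    rw [pow_one, ← zpow_natCast (e ^ i), ← zpow_mul, mul_comm, zpow_mul, zpow_natCast, he, one_zpow]
  obtain ⟨x, hx⟩ := hp.nonempty_fixed_point_of_prime_not_dvd_card X hX
  exact ⟨x, hx ⟨e, mem_zpowers e⟩⟩

theorem iter_eq_pow (σ : MulAut G) (n : ℕ) (x : G) : (⇑σ)^[n] x = (σ ^ n) x := by
  induction n generalizing x with
  | zero => rfl
  | succ n ih => rw [Function.iterate_succ_apply, ih, pow_succ]; rfl

/-- An invariant coset of an invariant subgroup contains a fixed point. -/
theorem exists_fixed_coset (hr : r.Prime) (hσ : σ ^ r = 1) (hcop : ¬ r ∣ Nat.card G)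
    {H : Subgroup G} (hH : SInv σ H) {g : G} (hg : g⁻¹ * σ g ∈ H) :
    ∃ h ∈ H, σ (g * h) = g * h := by
  let f : H → H := fun h => ⟨g⁻¹ * σ g * σ h, mul_mem hg (hH h h.2)⟩
  have hit : ∀ (n : ℕ) (h : H), g * ((f^[n] h : H) : G) = (σ ^ n) (g * h) := by
    intro n
    induction n with
    | zero => intro h; rfl
    | succ n ih =>
      intro h
      rw [Function.iterate_succ_apply, ih, pow_succ, MulAut.mul_apply]
      congr 1
      show g * (g⁻¹ * σ g * σ h) = σ (g * h)
      rw [map_mul]; group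
  obtain ⟨h, hh⟩ := exists_fixed hr hσ f (fun h => Subtype.ext (mul_left_cancel (a := g) (by
    rw [hit, hσ]; rfl))) (fun hd => hcop (hd.trans (card_subgroup_dvd_card H)))
  refine ⟨h, h.2, ?_⟩
  have := hit 1 h
  rw [Function.iterate_one, hh, pow_one] at this
  exact this.symm

/-- The set of elements carrying one invariant subgroup into another contains a fixed element. -/
theorem exists_fixed_conj (hr : r.Prime) (hσ : σ ^ r = 1) (hcop : ¬ r ∣ Nat.card G)
    {H P Q : Subgroup G} (hH : SInv σ H) (hP : SInv σ P) (hQ : SInv σ Q) (hcard : Nat.card P = Nat.card Q)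
    {h : G} (hh : h ∈ H) (hc : ∀ x ∈ P, h * x * h⁻¹ ∈ Q) :
    ∃ c ∈ H, σ c = c ∧ ∀ x ∈ P, c * x * c⁻¹ ∈ Q := by
  set N : Subgroup G := H ⊓ normalizer (P : Set G) with hN
  have hmap : ∀ (a : G), (∀ x ∈ P, a * x * a⁻¹ ∈ Q) → ∀ y ∈ Q, a⁻¹ * y * a ∈ P := by
    intro a ha y hy
    obtain ⟨⟨x, hx⟩, he⟩ := (Function.Injective.bijective_of_nat_card_le
      (f := fun x : P => (⟨a * x * a⁻¹, ha x x.2⟩ : Q))
      (fun u v e => Subtype.ext (by simpa using congrArg Subtype.val e)) hcard.ge).2 ⟨y, hy⟩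
    have : a * x * a⁻¹ = y := congrArg Subtype.val he
    rw [← this]; simpa [mul_assoc] using hx
  have hσc : ∀ x ∈ P, σ h * x * (σ h)⁻¹ ∈ Q := by
    intro x hx
    rw [← σ.apply_symm_apply x, ← map_inv, ← map_mul, ← map_mul]
    refine hQ _ (hc _ ?_)
    rw [← hP.mem_iff, σ.apply_symm_apply]; exact hx
  have hNinv : SInv σ N := by
    intro n hn
    refine ⟨hH n hn.1, mem_normalizer_iff.mpr fun x => ?_⟩
    obtain ⟨x', rfl⟩ := σ.surjective x
    rw [← map_inv, ← map_mul, ← map_mul, hP.mem_iff, hP.mem_iff]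
    exact mem_normalizer_iff.mp hn.2 x'
  have hg : h⁻¹ * σ h ∈ N := by
    refine ⟨mul_mem (H.inv_mem hh) (hH h hh), mem_normalizer_iff.mpr fun x => ⟨fun hx => ?_, fun hx => ?_⟩⟩
    · have := hmap h hc _ (hσc x hx)
      simpa [mul_assoc] using this
    · have h1 := hmap (σ h) hσc _ (hc _ hx)
      simpa [mul_assoc] using h1
  obtain ⟨n, hn, hfix⟩ := exists_fixed_coset hr hσ hcop hNinv hg
  refine ⟨h * n, mul_mem hh hn.1, hfix, fun x hx => ?_⟩
  have := hc _ ((mem_normalizer_iff.mp hn.2 x).mp hx)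
  simpa [mul_assoc] using this

theorem IsSylTwo.card_le {H P T : Subgroup G} (hP : IsSylTwo H P) (hT : T ≤ H) (hT2 : IsPGroup 2 T) :
    Nat.card T ≤ Nat.card P := by
  obtain ⟨h, -, hc⟩ := hP.2.2 T hT hT2
  exact Nat.card_le_card_of_injective (fun t : T => (⟨h * t * h⁻¹, hc t t.2⟩ : P))
    fun u v e => Subtype.ext (by simpa using congrArg Subtype.val e)

/-- An invariant 2-subgroup lies in an invariant Sylow 2-subgroup. -/
theorem exists_inv_syl_ge (hr : r.Prime) (hσ : σ ^ r = 1) (hcop : ¬ r ∣ Nat.card G)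
    {H Q : Subgroup G} (hH : SInv σ H) (hQ : SInv σ Q) (hQH : Q ≤ H) (hQ2 : IsPGroup 2 Q) :
    ∃ P : Subgroup G, SInv σ P ∧ Q ≤ P ∧ IsSylTwo H P := by
  classical
  haveI : Fact (Nat.Prime 2) := ⟨Nat.prime_two⟩
  haveI := Fact.mk hr
  obtain ⟨P, hQP, hmax⟩ := Finite.exists_le_maximal
    (p := fun P : Subgroup G => SInv σ P ∧ P ≤ H ∧ IsPGroup 2 P) ⟨hQ, hQH, hQ2⟩
  obtain ⟨hPi, hPH, hP2⟩ := hmax.prop
  obtain ⟨T, hT⟩ := (hP2.of_equiv (subgroupOfEquivOfLe hPH).symm).exists_le_sylow
  refine ⟨P, hPi, hQP, hPH, hP2, fun R hR hR2 => ?_⟩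
  obtain ⟨T', hT'⟩ := (hR2.of_equiv (subgroupOfEquivOfLe hR).symm).exists_le_sylow
  obtain ⟨e, he⟩ := MulAction.exists_smul_eq H T' T
  suffices hPT : P = (T : Subgroup H).map H.subtype by
    refine ⟨e, e.2, fun x hx => ?_⟩
    rw [hPT]
    refine ⟨e * ⟨x, hR hx⟩ * e⁻¹, ?_, rfl⟩
    rw [← he]
    exact ⟨⟨x, hR hx⟩, hT' hx, rfl⟩
  by_contra hne
  have hPle : P ≤ (T : Subgroup H).map H.subtype := fun x hx => ⟨⟨x, hPH hx⟩, hT hx, rfl⟩
  have hlt : Nat.card P < Nat.card ((T : Subgroup H).map H.subtype) :=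
    lt_of_le_of_ne (Subgroup.card_le_of_le hPle) fun e' => hne (eq_of_le_of_card_ge hPle e'.ge)
  -- work in the invariant normaliser
  set N : Subgroup G := H ⊓ normalizer (P : Set G) with hN
  have hNinv : SInv σ N := by
    intro n hn
    refine ⟨hH n hn.1, mem_normalizer_iff.mpr fun x => ?_⟩
    obtain ⟨x', rfl⟩ := σ.surjective x
    rw [← map_inv, ← map_mul, ← map_mul, hPi.mem_iff, hPi.mem_iff]
    exact mem_normalizer_iff.mp hn.2 x'
  set T₀ : Subgroup G := (T : Subgroup H).map H.subtype with hT₀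
  have hT₀2 : IsPGroup 2 T₀ := T.2.map _
  have hgrow : ∃ R : Subgroup G, R ≤ N ∧ IsPGroup 2 R ∧ P < R := by
    refine ⟨T₀ ⊓ normalizer (P : Set G), inf_le_inf_right _ (map_subtype_le _),
      hT₀2.to_le inf_le_left, lt_of_le_of_ne (le_inf hPle le_normalizer) ?_⟩
    intro e'
    have hnc : NormalizerCondition T₀ := by
      haveI := hT₀2.isNilpotent
      exact normalizerCondition_of_isNilpotent
    have hlt' : P.subgroupOf T₀ < ⊤ := by
      refine lt_top_iff_ne_top.mpr fun ht => ?_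
      rw [subgroupOf_eq_top] at ht
      exact absurd (Subgroup.card_le_of_le ht) (not_le.mpr hlt)
    obtain ⟨x, hx, hxP⟩ := SetLike.exists_of_lt (hnc _ hlt')
    apply hxP
    show (x : G) ∈ P
    rw [e']
    refine ⟨x.2, mem_normalizer_iff.mpr fun y => ⟨fun hy => ?_, fun hy => ?_⟩⟩
    · exact (mem_normalizer_iff.mp hx ⟨y, hPle hy⟩).mp hy
    · have hyT : y ∈ T₀ := by
        have := mul_mem (mul_mem (inv_mem x.2) (hPle hy)) x.2
        simpa [mul_assoc] using this
      exact (mem_normalizer_iff.mp hx ⟨y, hyT⟩).mpr hy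
  obtain ⟨R₀, hR₀N, hR₀2, hPR₀⟩ := hgrow
  -- a fixed Sylow subgroup of `N`
  let f : Sylow 2 N → Sylow 2 N := fun S =>
    Sylow.ofCard (((S : Subgroup N).map N.subtype).map σ.toMonoidHom |>.subgroupOf N) (by
      rw [Nat.card_congr (subgroupOfEquivOfLe (by
        rintro _ ⟨_, ⟨a, -, rfl⟩, rfl⟩; exact hNinv _ a.2)).toEquiv,
        card_map_of_injective σ.injective, card_map_of_injective N.subtype_injective]
      exact S.card_eq_multiplicity)
  have hf : ∀ (n : ℕ) (S : Sylow 2 N),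
      (((f^[n] S : Sylow 2 N) : Subgroup N).map N.subtype : Subgroup G) =
        ((S : Subgroup N).map N.subtype).map (σ ^ n).toMonoidHom := by
    intro n
    induction n with
    | zero =>
      intro S
      ext x
      simp
    | succ n ih =>
      intro S
      rw [Function.iterate_succ_apply, ih, pow_succ]
      have : ((f S : Sylow 2 N) : Subgroup N).map N.subtype =
          ((S : Subgroup N).map N.subtype).map σ.toMonoidHom := by
        show ((((S : Subgroup N).map N.subtype).map σ.toMonoidHom).subgroupOf N).map N.subtype = _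
        rw [subgroupOf_map_subtype, inf_eq_left]
        rintro _ ⟨_, ⟨a, -, rfl⟩, rfl⟩; exact hNinv _ a.2
      rw [this, map_map]
      rfl
  obtain ⟨S, hS⟩ := exists_fixed hr hσ f (fun S => Sylow.ext (map_injective N.subtype_injective (by
      rw [hf, hσ]
      ext x
      simp))) (fun hd => hcop ((hd.trans (Sylow.card_dvd_index (default : Sylow 2 N))).trans
        ((index_dvd_card _).trans (card_subgroup_dvd_card N))))
  set S' : Subgroup G := (S : Subgroup N).map N.subtype with hS'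
  have hS'N : S' ≤ N := map_subtype_le _
  have hS'2 : IsPGroup 2 S' := S.2.map _
  have hS'inv : SInv σ S' := by
    intro x hx
    have := hf 1 S
    rw [Function.iterate_one, hS, pow_one] at this
    rw [hS', this]
    exact ⟨x, hx, rfl⟩
  have hPN : P ≤ N := le_inf hPH le_normalizer
  have hPS' : P ≤ S' := by
    haveI : (P.subgroupOf N).Normal := normal_subgroupOf_of_le_normalizer inf_le_right
    have := IsPGroup.le_sylow_of_normal (hP2.of_equiv (subgroupOfEquivOfLe hPN).symm) S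
    exact fun x hx => ⟨⟨x, hPN hx⟩, this hx, rfl⟩
  have hPeq : P = S' := le_antisymm hPS' (hmax.le_of_ge ⟨hS'inv, hS'N.trans inf_le_left, hS'2⟩ hPS')
  have hR₀card : Nat.card R₀ ≤ Nat.card S' := by
    obtain ⟨S₁, hS₁⟩ := (hR₀2.of_equiv (subgroupOfEquivOfLe hR₀N).symm).exists_le_sylow
    calc Nat.card R₀ = Nat.card (R₀.subgroupOf N) :=
          (Nat.card_congr (subgroupOfEquivOfLe hR₀N).toEquiv).symm
      _ ≤ Nat.card (S₁ : Subgroup N) := Subgroup.card_le_of_le hS₁
      _ = Nat.card (S : Subgroup N) := by rw [S₁.card_eq_multiplicity, S.card_eq_multiplicity]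
      _ = Nat.card S' := (card_map_of_injective N.subtype_injective).symm
  rw [← hPeq] at hR₀card
  exact absurd (eq_of_le_of_card_ge hPR₀.le hR₀card) hPR₀.ne

end H41.Shult
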