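import Cfsg.Agent.H41.Shult.BigFusion
import Cfsg.Agent.H85.BrauerSuzuki
import Cfsg.Agent.H29.SEB.Main

/-!
Shult's fixed point theorem, fixed points outside `M`: the involutions of `S` lie in `Z`, `M` is
strongly embedded, and counting the fixed points gives a contradiction.
-/

set_option autoImplicit false
set_option linter.all false

open Subgroup MulAction

namespace H41.Shult

/-- The orbit count for a subgroup transitive on the cosets other than its own. -/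
theorem index_eq_of_transitive {X : Type*} [Group X] [Finite X] (H : Subgroup X) {g : X}
    (hg : g ∉ H) (htr : ∀ g' : X, g' ∉ H → ∃ x ∈ H, g'⁻¹ * (x * g) ∈ H) :
    H.index = 1 + (H ⊓ H.map (MulAut.conj g).toMonoidHom).relIndex H := by
  classical
  haveI : Fintype (X ⧸ H) := Fintype.ofFinite _
  have hstab : (H ⊓ H.map (MulAut.conj g).toMonoidHom).subgroupOf H =
      stabilizer H ((g : X) : X ⧸ H) := by
    ext x
    rw [mem_subgroupOf, mem_stabilizer_iff]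
    show (x : X) ∈ H ⊓ H.map (MulAut.conj g).toMonoidHom ↔ (x : X) • ((g : X ⧸ H)) = g
    rw [Quotient.smul_coe, smul_eq_mul, QuotientGroup.eq]
    constructor
    · rintro ⟨-, y, hy, hxy⟩
      have hxy' : g * y * g⁻¹ = x := hxy
      rw [← hxy', show (g * y * g⁻¹ * g)⁻¹ * g = y⁻¹ by group]
      exact inv_mem hy
    · intro h
      refine ⟨x.2, g⁻¹ * x * g, ?_, show g * (g⁻¹ * x * g) * g⁻¹ = x by group⟩
      have := inv_mem h
      rwa [show (((x : X) * g)⁻¹ * g)⁻¹ = g⁻¹ * x * g by group] at this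
  have horb : orbit H ((g : X) : X ⧸ H) = ({((1 : X) : X ⧸ H)} : Set (X ⧸ H))ᶜ := by
    ext q
    obtain ⟨g', rfl⟩ := QuotientGroup.mk_surjective q
    rw [mem_orbit_iff, Set.mem_compl_iff, Set.mem_singleton_iff]
    constructor
    · rintro ⟨x, hx⟩ he
      have hx' : ((x : X) • (g : X ⧸ H)) = g' := hx
      rw [he, Quotient.smul_coe, smul_eq_mul, QuotientGroup.eq, mul_one] at hx'
      exact hg (by simpa using mul_mem (inv_mem x.2) (inv_mem hx'))
    · intro hne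
      obtain ⟨x, hx, hm⟩ := htr g' (fun h => hne (QuotientGroup.eq.mpr (by simpa using inv_mem h)))
      refine ⟨⟨x, hx⟩, ?_⟩
      show (x : X) • (g : X ⧸ H) = g'
      rw [Quotient.smul_coe, smul_eq_mul, QuotientGroup.eq]
      have := inv_mem hm
      rwa [show (g'⁻¹ * (x * g))⁻¹ = (x * g)⁻¹ * g' by group] at this
  unfold Subgroup.relIndex
  rw [hstab, MulAction.index_stabilizer, horb]
  have h := Set.ncard_add_ncard_compl ({((1 : X) : X ⧸ H)} : Set (X ⧸ H))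
  rw [Set.ncard_singleton] at h
  exact h.symm

universe u

variable {G : Type u} [Group G] [Finite G]

theorem sInv_oddCore (σ : MulAut G) : SInv σ (Cfsg.pPrimeCore 2 G) := by
  haveI := H1.pPrimeCore_normal' 2 G
  intro x hx
  haveI : ((Cfsg.pPrimeCore 2 G).map σ.toMonoidHom).Normal :=
    Subgroup.Normal.map inferInstance _ σ.surjective
  refine H1.le_pPrimeCore (p := 2) (N := (Cfsg.pPrimeCore 2 G).map σ.toMonoidHom) ?_ ⟨x, hx, rfl⟩
  rw [card_map_of_injective σ.injective]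
  exact H1.card_pPrimeCore_coprime 2 G

namespace Cfg

variable {σ : MulAut G} {p r m : ℕ} {M K R S U Z : Subgroup G}
  (B : Cfg σ p r m M K R S U Z) (hI : B.Irr) {h : G} (hh : σ h = h) (hhM : h ∉ M)

include B hI hh hhM

theorem four_le : 4 ≤ Nat.card Z := by
  haveI : Fact (Nat.Prime 2) := ⟨Nat.prime_two⟩
  by_contra hlt
  have hZ2 : IsPGroup 2 Z := B.hS2.to_le (B.hZU.trans B.hUS)
  obtain ⟨k, hk⟩ := hZ2.exists_card_eq
  have h2 := B.two_le_card
  have hcard : Nat.card Z = 2 := by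
    rcases k with - | - | k
    · omega
    · exact hk
    · rw [hk] at hlt
      exact absurd (show 4 ≤ 2 ^ (k + 1 + 1) by
        rw [pow_succ, pow_succ]; have := Nat.one_le_two_pow (n := k); omega) hlt
  obtain ⟨e, he, he1⟩ := B.exists_ne
  obtain ⟨y, -, hy⟩ := (Nat.card_eq_two_iff' (1 : Z)).mp hcard
  have huniq : ∀ z ∈ Z, z ≠ 1 → z = e := fun z hz hz1 => congrArg Subtype.val
    ((hy ⟨z, hz⟩ fun a => hz1 (congrArg Subtype.val a)).trans
      (hy ⟨e, he⟩ fun a => he1 (congrArg Subtype.val a)).symm)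
  let P : Sylow 2 G :=
    { toSubgroup := S
      isPGroup' := B.hS2
      is_maximal' := fun {Q} hQ hle =>
        (eq_of_le_of_card_ge hle (B.hS.card_le le_top hQ)).symm }
  have hiso : Cfsg.IsIsolatedInvolution e := by
    refine H85.isolated_of_sylow P (orderOf_eq_prime (by rw [pow_two]; exact B.sqZ e he) he1)
      (B.hUS (B.hZU he)) fun g hg => ?_
    have hgM := B.mem_of_conj hI hh hhM he he1 (B.hSM hg)
    exact huniq _ (B.conjM_Z hgM he hg) fun a => he1 (by simpa using a)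
  haveI := H1.pPrimeCore_normal' 2 G
  have hO : Cfsg.pPrimeCore 2 G ≤ M := B.hOdd _ inferInstance (sInv_oddCore σ)
    (Nat.coprime_two_right.mp (H1.card_pPrimeCore_coprime 2 G))
  refine hhM (B.mem_of_conj hI hh hhM he he1 ?_)
  have h1 := mul_mem (inv_mem (hO (H85.zStar hiso h))) (B.hZM he)
  rwa [show (e * h * e⁻¹ * h⁻¹)⁻¹ * e = h * e * h⁻¹ by group] at h1

/-- The centraliser of an involution of `S` outside `Z` lies in `M`. -/
theorem cent_outside_le {x : G} (hx : x ∈ S) (hx2 : x * x = 1) (hxZ : x ∉ Z) :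
    centralizer ({x} : Set G) ≤ M := by
  haveI : Fact (Nat.Prime 2) := ⟨Nat.prime_two⟩
  haveI := Fact.mk B.hp
  obtain ⟨e, he, he1⟩ := B.exists_ne
  set L := centralizer ({x} : Set G) with hL
  have hZL : Z ≤ L := fun z hz => mem_centralizer_singleton_iff.mpr (B.Z_central hI hx hz).symm
  obtain ⟨P, hP⟩ := ((B.hS2.to_le (inf_le_left : S ⊓ L ≤ S)).of_equiv
    (subgroupOfEquivOfLe (inf_le_right : S ⊓ L ≤ L)).symm).exists_le_sylow
  have hZP : ∀ z (hz : z ∈ Z), (⟨z, hZL hz⟩ : L) ∈ (P : Subgroup L) := fun z hz =>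
    hP (show (⟨z, hZL hz⟩ : L) ∈ (S ⊓ L).subgroupOf L from ⟨B.hUS (B.hZU hz), hZL hz⟩)
  set P' := (P : Subgroup L).map L.subtype with hP'
  have hP2 : IsPGroup 2 P' := P.2.map _
  have heP : e ∈ P' := ⟨⟨e, hZL he⟩, hZP e he, rfl⟩
  have hPM : P' ≤ M := by
    by_contra hne
    have hlt : (P' ⊓ M).subgroupOf P' < ⊤ := by
      refine lt_top_iff_ne_top.mpr fun ht => hne ?_
      rw [subgroupOf_eq_top] at ht
      exact ht.trans inf_le_right
    haveI := hP2.isNilpotent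
    obtain ⟨y, hy, hyT⟩ := SetLike.exists_of_lt (normalizerCondition_of_isNilpotent _ hlt)
    have h1 := (mem_normalizer_iff.mp hy ⟨e, heP⟩).mp ⟨heP, B.hZM he⟩
    exact hyT ⟨y.2, B.mem_of_conj hI hh hhM he he1 h1.2⟩
  have hiso : Cfsg.IsIsolatedInvolution (⟨e, hZL he⟩ : L) := by
    refine H85.isolated_of_sylow P (orderOf_eq_prime (Subtype.ext (by
      show e ^ 2 = 1
      rw [pow_two]; exact B.sqZ e he)) (fun a => he1 (congrArg Subtype.val a))) (hZP e he)
      fun g hg => ?_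
    obtain ⟨g, hgL⟩ := g
    refine Subtype.ext ?_
    show g * e * g⁻¹ = e
    have hgP : g * e * g⁻¹ ∈ P' := ⟨_, hg, rfl⟩
    have hgM : g ∈ M := B.mem_of_conj hI hh hhM he he1 (hPM hgP)
    have hxg : g * x = x * g := mem_centralizer_singleton_iff.mp hgL
    -- write `g` as a fixed normalising element times one of `K`
    obtain ⟨k₀, hk₀, hfix₀⟩ := exists_fixed_coset B.hr B.hσ B.hcop B.sInv_K (B.hMK g hgM)
    obtain ⟨c, hc, hσc, hnU⟩ := B.exists_normalising (mul_mem hgM (B.hKM hk₀)) hfix₀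
    set n := c * (g * k₀) with hn
    have hnM : n ∈ M := mul_mem (B.hKM hc) (mul_mem hgM (B.hKM hk₀))
    have hσn : σ n = n := by rw [hn, map_mul, hσc, hfix₀]
    obtain ⟨k, hk, hgk⟩ : ∃ k ∈ K, g = n * k := by
      refine ⟨n⁻¹ * g, ?_, by group⟩
      rw [hn, show (c * (g * k₀))⁻¹ * g = k₀⁻¹ * (g⁻¹ * c⁻¹ * g⁻¹⁻¹) by group]
      exact mul_mem (inv_mem hk₀) (B.hKn _ (inv_mem hgM) _ (inv_mem hc))
    obtain ⟨ρ, hρ, u', hu', hkd⟩ := B.hKdec k hk
    obtain ⟨c₀, hc₀, hσc₀, u₀, hu₀, hxd⟩ := B.decomp hx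
    set v := x⁻¹ * σ x with hv
    have hvU : v ∈ U := B.hmov x hx
    have hvu : v = u₀⁻¹ * σ u₀ := by rw [hv, hxd, map_mul, hσc₀]; group
    have hvZ : v ∉ Z := by
      intro hvZ
      refine hxZ (B.fixed_invol_mem hI hh hhM hx ?_ hx2)
      have : u₀ ∈ Z := by
        by_contra hu
        exact (B.mov_notMem hu₀ hu).2 (hvu ▸ hvZ)
      rw [hxd, map_mul, hσc₀, B.fixZ this]
    obtain ⟨z₁, hz₁, hz₁e⟩ : ∃ z₁ ∈ Z, u' * x = z₁ * x * u' := by
      refine ⟨_, B.comm u' hu' u₀ hu₀, ?_⟩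
      have hcz := B.Z_central hI hc₀ (B.comm u' hu' u₀ hu₀)
      rw [hxd, ← mul_assoc u' c₀, ← B.cent_of_fixed hI hc₀ hσc₀ u' hu',
        ← mul_assoc (u' * u₀ * u'⁻¹ * u₀⁻¹) c₀, ← hcz]
      group
    obtain ⟨ρ₁, hρ₁, hY⟩ : ∃ ρ₁ ∈ R, n⁻¹ * x * n = ρ₁ * (z₁ * x) := by
      refine ⟨ρ * (z₁ * x * ρ⁻¹ * (z₁ * x)⁻¹), mul_mem hρ
        (B.hRn _ (mul_mem (B.hZM hz₁) (B.hSM hx)) _ (inv_mem hρ)), ?_⟩
      have e1 : n⁻¹ * x * n = k * x * k⁻¹ := by
        rw [show n = g * k⁻¹ by rw [hgk]; group,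
          show (g * k⁻¹)⁻¹ * x * (g * k⁻¹) = k * g⁻¹ * (x * g) * k⁻¹ by group, ← hxg]
        group
      rw [e1, hkd, show ρ * u' * x * (ρ * u')⁻¹ = ρ * (u' * x) * u'⁻¹ * ρ⁻¹ by group, hz₁e]
      group
    have hnv : n * v * n⁻¹ = v := by
      have e2 : n⁻¹ * v * n = (z₁ * x)⁻¹ * (ρ₁⁻¹ * σ ρ₁) * (z₁ * x) * v := by
        have h1 := congrArg (fun t => t⁻¹ * σ t) hY
        simp only [map_mul, map_inv, hσn, B.fixZ hz₁] at h1
        calc n⁻¹ * v * n = (n⁻¹ * x * n)⁻¹ * (n⁻¹ * σ x * n) := by rw [hv]; group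
          _ = (ρ₁ * (z₁ * x))⁻¹ * (σ ρ₁ * (z₁ * σ x)) := h1
          _ = _ := by rw [hv]; group
      set ρ₂ := (z₁ * x)⁻¹ * (ρ₁⁻¹ * σ ρ₁) * (z₁ * x) with hρ₂
      have hρ₂R : ρ₂ ∈ R := by
        have := B.hRn (z₁ * x)⁻¹ (inv_mem (mul_mem (B.hZM hz₁) (B.hSM hx))) _
          (mul_mem (inv_mem hρ₁) (B.hRinv ρ₁ hρ₁))
        rwa [inv_inv] at this
      have e3 : n * ρ₂ * n⁻¹ = v * (n * v * n⁻¹)⁻¹ := by
        rw [show ρ₂ = n⁻¹ * v * n * v⁻¹ by rw [e2]; group]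
        group
      have h4 := B.RS (B.hRn n hnM ρ₂ hρ₂R)
        (by rw [e3]; exact B.hUS (mul_mem hvU (inv_mem (hnU v hvU))))
      rw [e3, mul_inv_eq_one] at h4
      exact h4.symm
    have hne : n * e * n⁻¹ = e := by
      have hW := B.trivial_mod hI hσn hnU hvU hvZ (by rw [hnv, mul_inv_cancel]; exact one_mem Z)
      rw [B.centU hI hσn hnU hW e (B.hZU he)]; group
    have hR' : g * e * g⁻¹ * e⁻¹ ∈ R := by
      have e4 : g * e * g⁻¹ * e⁻¹ = n * (ρ * (e * ρ⁻¹ * e⁻¹)) * n⁻¹ := by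
        conv_lhs => enter [2]; rw [← hne]
        rw [hgk, hkd, show n * (ρ * u') * e * (n * (ρ * u'))⁻¹ * (n * e * n⁻¹)⁻¹
          = n * ρ * (u' * e) * u'⁻¹ * ρ⁻¹ * e⁻¹ * n⁻¹ by group, B.cen e he u' hu']
        group
      rw [e4]
      exact B.hRn n hnM _ (mul_mem hρ (B.hRn e (B.hZM he) _ (inv_mem hρ)))
    exact mul_inv_eq_one.mp (eq_one_of_two_of_p B.hp B.hp2 B.hRp hP2 hR'
      (mul_mem hgP (inv_mem heP)))
  haveI := H1.pPrimeCore_normal' 2 L
  set N := (Cfsg.pPrimeCore 2 L).map L.subtype with hN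
  have hNn : ∀ a ∈ L, ∀ y ∈ N, a * y * a⁻¹ ∈ N := by
    rintro a ha _ ⟨y, hy, rfl⟩
    exact ⟨⟨a, ha⟩ * y * ⟨a, ha⟩⁻¹, Subgroup.Normal.conj_mem inferInstance y hy _, rfl⟩
  have hNM : N ≤ M := by
    refine H8.generation_elements (p := 2) (A := Z) (K := N) ⟨⟨⟨fun a b => ?_⟩⟩, ?_⟩
      (by have := B.four_le hI hh hhM; omega) ?_ ?_ ?_
    · exact Subtype.ext (B.cen _ b.2 _ (B.hZU a.2))
    · intro a ha
      rw [pow_two]; exact B.sqZ a ha
    · intro a ha
      refine mem_normalizer_iff.mpr fun y => ⟨fun hy => hNn a (hZL ha) y hy, fun hy => ?_⟩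
      have := hNn a⁻¹ (inv_mem (hZL ha)) _ hy
      simpa [mul_assoc] using this
    · rw [hN, card_map_of_injective (subtype_injective _)]
      intro hd
      exact absurd (Nat.eq_one_of_dvd_coprimes (H1.card_pPrimeCore_coprime 2 L) hd dvd_rfl)
        (by norm_num)
    · intro a ha ha1
      exact inf_le_right.trans (B.centZ_le ha ha1)
  intro g hg
  have hmem : e * g * e⁻¹ * g⁻¹ ∈ N := ⟨_, H85.zStar hiso ⟨g, hg⟩, rfl⟩
  refine B.mem_of_conj hI hh hhM he he1 ?_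
  have h1 := mul_mem (inv_mem (hNM hmem)) (B.hZM he)
  rwa [show (e * g * e⁻¹ * g⁻¹)⁻¹ * e = g * e * g⁻¹ by group] at h1

/-- All involutions of `S` lie in `Z`. -/
theorem invol_mem {x : G} (hx : x ∈ S) (hx2 : x * x = 1) : x ∈ Z := by
  by_contra hxZ
  have hx1 : x ≠ 1 := fun e => hxZ (e ▸ one_mem Z)
  obtain ⟨e, he, he1⟩ := B.exists_ne
  have hL := B.cent_outside_le hI hh hhM hx hx2 hxZ
  obtain ⟨a, ha⟩ : ∃ y, y = h * e * h⁻¹ := ⟨_, rfl⟩
  have ha2 : a * a = 1 := by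
    rw [ha, show h * e * h⁻¹ * (h * e * h⁻¹) = h * (e * e) * h⁻¹ by group, B.sqZ e he]; group
  have hai : a⁻¹ = a := inv_eq_of_mul_eq_one_right ha2
  obtain ⟨t, ht⟩ : ∃ y, y = a * x := ⟨_, rfl⟩
  have hxt : x = a * t := by rw [ht, ← mul_assoc, ha2, one_mul]
  have hinv : a * t * a⁻¹ = t⁻¹ := by
    rw [ht, mul_inv_rev, inv_eq_of_mul_eq_one_right hx2, hai,
      show a * (a * x) * a = a * a * x * a by group, ha2, one_mul]
  have hpow : ∀ k : ℕ, a * t ^ k * a⁻¹ = (t ^ k)⁻¹ := fun k => by rw [← conj_pow, hinv, inv_pow]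
  rcases Nat.even_or_odd (orderOf t) with ⟨l, hl⟩ | ⟨l, hl⟩
  · obtain ⟨w, hw⟩ : ∃ y, y = t ^ l := ⟨_, rfl⟩
    have hw2 : w * w = 1 := by rw [hw, ← pow_add, ← hl, pow_orderOf_eq_one]
    have hw1 : w ≠ 1 := by
      have hpos : 0 < orderOf t := orderOf_pos t
      rw [hw]
      exact pow_ne_one_of_lt_orderOf (by omega) (by omega)
    have hwa : w * a = a * w := by
      have := hpow l
      rw [← hw, inv_eq_of_mul_eq_one_right hw2, mul_inv_eq_iff_eq_mul] at this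
      exact this.symm
    have hwx : w * x = x * w := by
      have h1 : w * t = t * w := by rw [hw, ← pow_succ, ← pow_succ']
      rw [hxt, ← mul_assoc, hwa, mul_assoc, h1, mul_assoc]
    have hwM : w ∈ M := hL (mem_centralizer_singleton_iff.mpr hwx)
    obtain ⟨n, hn, hnS⟩ := B.sylM.2.2 (zpowers w) (zpowers_le.mpr hwM)
      (isPGroup_zpowers_of_sq hw2)
    have hw'S : n * w * n⁻¹ ∈ S := hnS w (mem_zpowers w)
    have hw'2 : n * w * n⁻¹ * (n * w * n⁻¹) = 1 := by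
      rw [show n * w * n⁻¹ * (n * w * n⁻¹) = n * (w * w) * n⁻¹ by group, hw2]; group
    have hle : centralizer ({n * w * n⁻¹} : Set G) ≤ M := by
      by_cases hz : n * w * n⁻¹ ∈ Z
      · exact B.centZ_le hz fun q => hw1 (by simpa using q)
      · exact B.cent_outside_le hI hh hhM hw'S hw'2 hz
    have h1 := hle (mem_centralizer_singleton_iff.mpr
      (show n * a * n⁻¹ * (n * w * n⁻¹) = n * w * n⁻¹ * (n * a * n⁻¹) by
        rw [show n * a * n⁻¹ * (n * w * n⁻¹) = n * (a * w) * n⁻¹ by group, ← hwa]; group))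
    have haM : a ∈ M := by simpa [mul_assoc] using mul_mem (mul_mem (inv_mem hn) h1) hn
    exact hhM (B.mem_of_fixed hh he he1 (ha ▸ haM))
  · obtain ⟨c, hc⟩ : ∃ y, y = t ^ (l + 1) := ⟨_, rfl⟩
    have h1 : a * c⁻¹ * a = c := by
      have := congrArg (fun y => y⁻¹) (hpow (l + 1))
      simp only [mul_inv_rev, inv_inv, ← hc, hai] at this
      rw [← mul_assoc] at this
      exact this
    have e1 : c⁻¹ * a * c = x := by
      rw [show c⁻¹ * a * c = a * (a⁻¹ * c⁻¹ * a) * c by group, hai, h1, hxt, mul_assoc, hc,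
        ← pow_add, show l + 1 + (l + 1) = orderOf t + 1 by omega, pow_succ, pow_orderOf_eq_one,
        one_mul]
    have e2 : c⁻¹ * h * e * (c⁻¹ * h)⁻¹ = x := by rw [← e1, ha]; group
    have hM := B.mem_of_conj hI hh hhM he he1 (show c⁻¹ * h * e * (c⁻¹ * h)⁻¹ ∈ M by
      rw [e2]; exact B.hSM hx)
    exact hxZ (e2 ▸ B.conjM_Z hM he (e2.symm ▸ hx))

theorem card_Z_eq : Nat.card Z = 2 ^ m := by
  rw [← Nat.card_congr (subgroupOfEquivOfLe B.hZU).toEquiv]
  exact B.forms.card_eq (fun ε hε => (hI ε hε).1) (B.index_Z hI)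
    fun v hv => B.invol_mem hI hh hhM (B.hUS v.2) (congrArg Subtype.val hv)

theorem mem_of_invol {g y : G} (hy : y * y = 1) (hy1 : y ≠ 1) (hyM : y ∈ M)
    (hg : g * y * g⁻¹ ∈ M) : g ∈ M := by
  obtain ⟨n, hn, hnS⟩ := B.sylM.2.2 (zpowers y) (zpowers_le.mpr hyM) (isPGroup_zpowers_of_sq hy)
  have hz := B.invol_mem hI hh hhM (hnS y (mem_zpowers y))
    (by rw [show n * y * n⁻¹ * (n * y * n⁻¹) = n * (y * y) * n⁻¹ by group, hy]; group)
  have h1 := B.mem_of_conj hI hh hhM (g := g * n⁻¹) hz (fun q => hy1 (by simpa using q))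
    (by rwa [show g * n⁻¹ * (n * y * n⁻¹) * (g * n⁻¹)⁻¹ = g * y * g⁻¹ by group])
  simpa using mul_mem h1 hn

theorem stronglyEmbedded : Cfsg.IsStronglyEmbedded M := by
  obtain ⟨e, he, he1⟩ := B.exists_ne
  refine ⟨B.hMtop, ?_, fun g hg => ?_⟩
  · have h2 : orderOf (⟨e, B.hZM he⟩ : M) = 2 := orderOf_eq_prime
      (Subtype.ext (by show e ^ 2 = 1; rw [pow_two]; exact B.sqZ e he))
      (fun a => he1 (congrArg Subtype.val a))
    rw [even_iff_two_dvd, ← h2]
    exact orderOf_dvd_natCard _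
  · rw [← Nat.not_even_iff_odd, even_iff_two_dvd]
    intro hd
    haveI : Fact (Nat.Prime 2) := ⟨Nat.prime_two⟩
    obtain ⟨q, hq⟩ := exists_prime_orderOf_dvd_card' 2 hd
    obtain ⟨x, hxq⟩ : ∃ x, x = (q : G) := ⟨_, rfl⟩
    have hx : orderOf x = 2 := by rw [hxq, Subgroup.orderOf_coe]; exact hq
    have hxM : x ∈ M := hxq ▸ q.2.1
    obtain ⟨y, hyM, hyx⟩ := hxq ▸ q.2.2
    have hyx' : g * y * g⁻¹ = x := hyx
    have hy : orderOf y = 2 := by
      rw [← hx, ← hyx']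
      exact (orderOf_injective (MulAut.conj g).toMonoidHom (MulAut.conj g).injective y).symm
    refine hg (B.mem_of_invol hI hh hhM (g := g) ?_ ?_ hyM (hyx'.symm ▸ hxM))
    · rw [← pow_two, ← hy]; exact pow_orderOf_eq_one y
    · intro q; rw [q, orderOf_one] at hy; omega

theorem false_of_fixed_outside : False := by
  haveI := Fact.mk B.hp
  haveI : Fact (Nat.Prime 2) := ⟨Nat.prime_two⟩
  have hSE := B.stronglyEmbedded hI hh hhM
  have hz4 := B.four_le hI hh hhM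
  obtain ⟨e, he, he1⟩ := B.exists_ne
  obtain ⟨e', he', he'1, hee'⟩ : ∃ e' ∈ Z, e' ≠ 1 ∧ e' ≠ e := by
    by_contra hno
    push Not at hno
    have hle : Nat.card Z ≤ Nat.card Bool := by
      classical
      refine Nat.card_le_card_of_injective (fun z : Z => decide ((z : G) = 1))
        fun a b hab => Subtype.ext ?_
      rw [decide_eq_decide] at hab
      by_cases h1 : (a : G) = 1
      · rw [h1, hab.mp h1]
      · rw [hno a a.2 h1, hno b b.2 fun q => h1 (hab.mpr q)]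
    simp at hle
    omega
  have htr : ∀ g₁ g₂ : G, g₁ ∉ M → g₂ ∉ M → ∃ x ∈ M, g₂⁻¹ * (x * g₁) ∈ M := fun g₁ g₂ h₁ h₂ =>
    H29SEB.transitive_off hSE (orderOf_eq_prime (by rw [pow_two]; exact B.sqZ e he) he1)
      (orderOf_eq_prime (by rw [pow_two]; exact B.sqZ e' he') he'1) hee'.symm
      (show e * e' = e' * e from B.cen e' he' e (B.hZU he)) h₁ h₂
  have hRcore : ∀ g : G, ∀ ρ ∈ R, g * ρ * g⁻¹ ∈ M := by
    haveI : Fintype (G ⧸ M) := Fintype.ofFinite _
    have hmod := B.hRp.card_modEq_card_fixedPoints (G ⧸ M)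
    rw [← Subgroup.index_eq_card] at hmod
    have hmod := (Nat.modEq_iff_dvd' (Finite.card_subtype_le _)).mp hmod.symm
    have hd : p ∣ Nat.card (fixedPoints R (G ⧸ M)) := by
      have hle : Nat.card (fixedPoints R (G ⧸ M)) ≤ M.index := Finite.card_subtype_le _
      have : p ∣ M.index - (M.index - Nat.card (fixedPoints R (G ⧸ M))) :=
        Nat.dvd_sub B.hidx hmod
      rwa [Nat.sub_sub_self hle] at this
    have hone : ((1 : G) : G ⧸ M) ∈ fixedPoints R (G ⧸ M) := fun ρ => by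
      show (ρ : G) • ((1 : G) : G ⧸ M) = ((1 : G) : G ⧸ M)
      rw [Quotient.smul_coe, smul_eq_mul, QuotientGroup.eq]
      simpa using B.hKM (B.hRK ρ.2)
    have hne : Nat.card (fixedPoints R (G ⧸ M)) ≠ 1 := fun q => by
      rw [q, Nat.dvd_one] at hd
      exact B.hp.ne_one hd
    haveI : Nonempty (fixedPoints R (G ⧸ M)) := ⟨⟨_, hone⟩⟩
    have hpos : 0 < Nat.card (fixedPoints R (G ⧸ M)) := Nat.card_pos
    haveI : Nontrivial (fixedPoints R (G ⧸ M)) := Finite.one_lt_card_iff_nontrivial.mp (by omega)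
    obtain ⟨⟨q, hq⟩, hqne⟩  := _root_.exists_ne (⟨_, hone⟩ : fixedPoints R (G ⧸ M))
    obtain ⟨g₀, rfl⟩ := QuotientGroup.mk_surjective q
    have hg₀ : g₀ ∉ M := fun q => hqne (Subtype.ext (QuotientGroup.eq.mpr
      (by simpa using inv_mem q)))
    have hfix : ∀ ρ ∈ R, g₀⁻¹ * ρ * g₀ ∈ M := fun ρ hρ => by
      have h1 : ρ • (g₀ : G ⧸ M) = g₀ := hq ⟨ρ, hρ⟩
      rw [Quotient.smul_coe, smul_eq_mul, QuotientGroup.eq] at h1
      have := inv_mem h1
      rwa [show ((ρ * g₀)⁻¹ * g₀)⁻¹ = g₀⁻¹ * ρ * g₀ by group] at this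
    intro g ρ hρ
    by_cases hg : g ∈ M
    · exact mul_mem (mul_mem hg (B.hKM (B.hRK hρ))) (inv_mem hg)
    have hg' : g⁻¹ ∉ M := fun q => hg (by simpa using inv_mem q)
    obtain ⟨x, hx, hm⟩ := htr g₀ g⁻¹ hg₀ hg'
    have h1 := mul_mem (mul_mem hm (hfix _ (B.hRn x⁻¹ (inv_mem hx) ρ hρ))) (inv_mem hm)
    convert h1 using 1
    group
  have hR1 : ∀ ρ ∈ R, ρ = 1 := by
    set C₀ := normalClosure (R : Set G) with hC₀
    have hC₀M : C₀ ≤ M := by
      refine (Subgroup.closure_le _).mpr fun y hy => ?_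
      obtain ⟨ρ, hρ, hc⟩ := Group.mem_conjugatesOfSet_iff.mp hy
      obtain ⟨g, rfl⟩ := isConj_iff.mp hc
      exact hRcore g ρ hρ
    have hbot : C₀ = ⊥ := B.hOp C₀ inferInstance (by
      let P : Sylow p C₀ := default
      refine (P.2.map C₀.subtype).to_le ((Subgroup.closure_le _).mpr fun y hy => ?_)
      obtain ⟨ρ, hρ, hc⟩ := Group.mem_conjugatesOfSet_iff.mp hy
      obtain ⟨g, rfl⟩ := isConj_iff.mp hc
      set Rg := R.map (MulAut.conj g).toMonoidHom with hRg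
      have hle : Rg ≤ C₀ := by
        rintro _ ⟨a, ha, rfl⟩
        exact (normalClosure_normal (s := (R : Set G))).conj_mem a (subset_normalClosure ha) g
      haveI : (Rg.subgroupOf C₀).Normal := ⟨fun a ha b => by
        obtain ⟨c, hc', hca⟩ := ha
        have hca' : g * c * g⁻¹ = (a : G) := hca
        refine ⟨(g⁻¹ * (b : G) * g) * c * (g⁻¹ * (b : G) * g)⁻¹, B.hRn _ ?_ c hc', ?_⟩
        · refine hC₀M ?_
          have := (normalClosure_normal (s := (R : Set G))).conj_mem (b : G) b.2 g⁻¹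
          rwa [inv_inv] at this
        · show g * _ * g⁻¹ = ((b : G) * (a : G) * (b : G)⁻¹)
          rw [← hca']
          group⟩
      have hmem := IsPGroup.le_sylow_of_normal ((B.hRp.map _).of_equiv
        (subgroupOfEquivOfLe hle).symm) P
      exact ⟨⟨g * ρ * g⁻¹, hle ⟨ρ, hρ, rfl⟩⟩, hmem ⟨ρ, hρ, rfl⟩, rfl⟩)
    intro ρ hρ
    have : ρ ∈ C₀ := subset_normalClosure hρ
    rwa [hbot, mem_bot] at this
  have hKU : ∀ k ∈ K, k ∈ U := fun k hk => by
    obtain ⟨ρ, hρ, u, hu, rfl⟩ := B.hKdec k hk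
    rw [hR1 ρ hρ, one_mul]; exact hu
  -- the stabiliser of a fixed point
  set D := M ⊓ M.map (MulAut.conj h).toMonoidHom with hD
  have hDodd : Odd (Nat.card D) := hSE.2.2 h hhM
  have hDfix : ∀ x ∈ D, σ x = x := by
    intro x hx
    set u := x⁻¹ * σ x with hu
    have huU : u ∈ U := hKU _ (B.hMK x hx.1)
    have huh : h⁻¹ * u * h ∈ M := by
      obtain ⟨y, hy, hyx⟩ := hx.2
      have hyx' : h * y * h⁻¹ = x := hyx
      rw [hu, ← hyx', map_mul, map_mul, map_inv, hh]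
      convert mul_mem (inv_mem hy) (B.hMinv y hy) using 1
      group
    by_contra hne
    have hu1 : u ≠ 1 := fun q => hne (inv_mul_eq_one.mp q).symm
    have hinv : ∀ w : G, w * w = 1 → w ≠ 1 → w ∈ M → h⁻¹ * w * h ∈ M → False := by
      intro w h2 h1 hw hwh
      refine hhM ?_
      have := B.mem_of_invol hI hh hhM (g := h⁻¹) h2 h1 hw (by rwa [inv_inv])
      simpa using inv_mem this
    by_cases h2 : u * u = 1
    · exact hinv u h2 hu1 (B.hUM huU) huh
    · refine hinv (u * u) (B.sqZ _ (B.sq u huU)) h2 (mul_mem (B.hUM huU) (B.hUM huU)) ?_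
      convert mul_mem huh huh using 1
      group
  -- the fixed points
  let C : Subgroup G :=
    { carrier := {x | σ x = x}
      one_mem' := map_one σ
      mul_mem' := fun {a b} ha hb => by
        show σ (a * b) = a * b
        rw [map_mul, show σ a = a from ha, show σ b = b from hb]
      inv_mem' := fun {a} ha => by
        show σ a⁻¹ = a⁻¹
        rw [map_inv, show σ a = a from ha] }
  set CM := M.subgroupOf C with hCM
  have hn := index_eq_of_transitive M hhM fun g' hg' => htr h g' hhM hg'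
  have hf := index_eq_of_transitive CM (g := (⟨h, hh⟩ : C)) hhM (by
    rintro ⟨g', hσg'⟩ hg'
    obtain ⟨x, hx, hm⟩ := htr h g' hhM hg'
    have hDinv : SInv σ D := fun y hy => by rw [hDfix y hy]; exact hy
    have hxD : x⁻¹ * σ x ∈ D := by
      refine ⟨mul_mem (M.inv_mem hx) (B.hMinv x hx), (g'⁻¹ * (x * h))⁻¹ * σ (g'⁻¹ * (x * h)),
        mul_mem (inv_mem hm) (B.hMinv _ hm), ?_⟩
      show h * _ * h⁻¹ = _
      rw [map_mul, map_mul, map_inv, show σ g' = g' from hσg', hh]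
      group
    obtain ⟨d, hd, hfix⟩ := exists_fixed_coset B.hr B.hσ B.hcop hDinv hxD
    refine ⟨⟨x * d, hfix⟩, mul_mem hx hd.1, ?_⟩
    show g'⁻¹ * (x * d * h) ∈ M
    obtain ⟨y, hy, hyd⟩ := hd.2
    have hyd' : h * y * h⁻¹ = d := hyd
    rw [← hyd', show g'⁻¹ * (x * (h * y * h⁻¹) * h) = g'⁻¹ * (x * h) * y by group]
    exact mul_mem hm hy)
  set DC := CM ⊓ CM.map (MulAut.conj (⟨h, hh⟩ : C)).toMonoidHom with hDC
  have hDcard : Nat.card DC = Nat.card D := by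
    refine Nat.card_congr ⟨fun x => ⟨((x : C) : G), x.2.1, ?_⟩,
      fun x => ⟨⟨x, hDfix x x.2⟩, x.2.1, ?_⟩, fun x => rfl, fun x => rfl⟩
    · obtain ⟨y, hy, hyx⟩ := x.2.2
      exact ⟨(y : C), hy, congrArg Subtype.val hyx⟩
    · obtain ⟨y, hy, hyx⟩ := x.2.2
      have hyx' : h * y * h⁻¹ = (x : G) := hyx
      have hσy : σ y = y := by
        have h1 := hDfix x x.2
        rw [← hyx', map_mul, map_mul, map_inv, hh] at h1
        exact mul_left_cancel (mul_right_cancel h1)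
      exact ⟨⟨y, hσy⟩, hy, Subtype.ext hyx'⟩
  set f₁ := DC.relIndex CM with hf₁
  set n₁ := D.relIndex M with hn₁
  have hcf : f₁ * Nat.card D = Nat.card CM := by
    rw [← hDcard, hf₁, ← Nat.card_congr (subgroupOfEquivOfLe (inf_le_left : DC ≤ CM)).toEquiv]
    exact Subgroup.index_mul_card _
  have hcn : n₁ * Nat.card D = Nat.card M := by
    rw [hn₁, ← Nat.card_congr (subgroupOfEquivOfLe (inf_le_left : D ≤ M)).toEquiv]
    exact Subgroup.index_mul_card _
  -- the order of `M`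
  have hMcard : Nat.card M = Nat.card CM * 2 ^ (2 * m) := by
    haveI : (U.subgroupOf M).Normal := ⟨fun a ha b => hKU _ (B.hKn b b.2 a (B.hUK ha))⟩
    let φ : CM →* M ⧸ U.subgroupOf M := (QuotientGroup.mk' (U.subgroupOf M)).comp
      { toFun := fun x => ⟨((x : C) : G), x.2⟩
        map_one' := rfl
        map_mul' := fun a b => rfl }
    have hsurj : Function.Surjective φ := by
      intro q
      obtain ⟨⟨x, hx⟩, rfl⟩ := QuotientGroup.mk_surjective q
      obtain ⟨u, hu, hfix⟩ :=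
        exists_fixed_coset B.hr B.hσ B.hcop B.hUinv (hKU _ (B.hMK x hx))
      refine ⟨⟨⟨x * u, hfix⟩, mul_mem hx (B.hUM hu)⟩, ?_⟩
      show QuotientGroup.mk' (U.subgroupOf M) ⟨x * u, _⟩ = _
      rw [QuotientGroup.mk'_apply, QuotientGroup.eq]
      show (x * u)⁻¹ * x ∈ U
      rw [show (x * u)⁻¹ * x = u⁻¹ by group]
      exact inv_mem hu
    have hker : Nat.card φ.ker = Nat.card Z := by
      have hmem : ∀ x : CM, x ∈ φ.ker ↔ ((x : C) : G) ∈ U := fun x => by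
        rw [MonoidHom.mem_ker]
        exact QuotientGroup.eq_one_iff _
      exact Nat.card_congr
        ⟨fun x => ⟨(((x : CM) : C) : G), (B.fix _ ((hmem x).mp x.2)).mp ((x : CM) : C).2⟩,
          fun z => ⟨⟨⟨z, B.fixZ z.2⟩, B.hZM z.2⟩, (hmem _).mpr (B.hZU z.2)⟩,
          fun x => rfl, fun x => rfl⟩
    have h1 := Subgroup.index_mul_card φ.ker
    rw [Subgroup.index_ker, MonoidHom.range_eq_top.mpr hsurj, Subgroup.card_top, hker] at h1
    have h2 := Subgroup.card_eq_card_quotient_mul_card_subgroup (U.subgroupOf M)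
    rw [Nat.card_congr (subgroupOfEquivOfLe B.hUM).toEquiv, B.card_U hI] at h2
    rw [← h1, h2]
    ring
  have hCM0 : 0 < Nat.card CM := Nat.card_pos
  have hn' : n₁ = f₁ * 2 ^ (2 * m) := by
    refine Nat.eq_of_mul_eq_mul_right (Nat.card_pos (α := D)) ?_
    rw [hcn, hMcard, ← hcf]
    ring
  have hz := B.card_Z_eq hI hh hhM
  have h2f : 2 ^ m ∣ f₁ := by
    have hd : 2 ^ m ∣ Nat.card CM := by
      rw [← hz]
      let ι : Z →* CM :=
        { toFun := fun z => ⟨⟨z, B.fixZ z.2⟩, B.hZM z.2⟩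
          map_one' := rfl
          map_mul' := fun a b => rfl }
      exact Subgroup.card_dvd_of_injective ι fun a b e =>
        Subtype.ext (congrArg (fun x : CM => ((x : C) : G)) e)
    rw [← hcf] at hd
    exact (Nat.Coprime.pow_left m (Nat.coprime_two_left.mpr hDodd)).dvd_of_dvd_mul_right hd
  have hdvd : CM.index * Nat.card CM ∣ M.index * Nat.card M := by
    rw [Subgroup.index_mul_card, Subgroup.index_mul_card]
    exact card_subgroup_dvd_card C
  rw [hMcard, ← mul_assoc, mul_right_comm] at hdvd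
  have hdiv : CM.index ∣ M.index * 2 ^ (2 * m) := Nat.dvd_of_mul_dvd_mul_right hCM0 hdvd
  have hfr : ¬ r ∣ CM.index := fun hd => B.hcop
    ((hd.trans (index_dvd_card CM)).trans (card_subgroup_dvd_card C))
  rw [hf] at hdiv hfr
  rw [hn, hn'] at hdiv
  change 1 + f₁ ∣ (1 + f₁ * 2 ^ (2 * m)) * 2 ^ (2 * m) at hdiv
  change ¬ r ∣ 1 + f₁ at hfr
  have hf0 : 0 < f₁ := by
    rcases Nat.eq_zero_or_pos f₁ with q | q
    · rw [q, zero_mul] at hcf; omega
    · exact q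
  have hfodd : Odd (1 + f₁) := by
    have : 2 ∣ f₁ := (dvd_pow_self 2 B.m_pos.ne').trans h2f
    rw [Nat.odd_iff]
    omega
  have hdiv1 : 1 + f₁ ∣ 1 + f₁ * 2 ^ (2 * m) :=
    (Nat.Coprime.pow_right _ (Nat.coprime_two_right.mpr hfodd)).dvd_of_dvd_mul_right hdiv
  have hdiv2 : 1 + f₁ ∣ 2 ^ (2 * m) - 1 := by
    have h1 : 1 + f₁ ∣ (1 + f₁) * 2 ^ (2 * m) := dvd_mul_right _ _
    have h2 := Nat.dvd_sub h1 hdiv1
    rwa [add_mul, one_mul, show 2 ^ (2 * m) + f₁ * 2 ^ (2 * m) - (1 + f₁ * 2 ^ (2 * m))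
      = 2 ^ (2 * m) - 1 by omega] at h2
  have hfac : 2 ^ (2 * m) - 1 = r * (2 ^ m - 1) := by
    rw [B.hrm]
    have h1 := Nat.sq_sub_sq (2 ^ m) 1
    rw [one_pow, ← pow_mul, mul_comm m 2] at h1
    exact h1
  rw [hfac] at hdiv2
  have hdiv3 : 1 + f₁ ∣ 2 ^ m - 1 :=
    ((B.hr.coprime_iff_not_dvd.mpr hfr).symm).dvd_of_dvd_mul_left hdiv2
  have h2m : 2 ≤ 2 ^ m := by
    calc 2 = 2 ^ 1 := rfl
      _ ≤ 2 ^ m := Nat.pow_le_pow_right two_pos B.m_pos
  have hle := Nat.le_of_dvd (by omega) hdiv3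
  have hle2 := Nat.le_of_dvd hf0 h2f
  omega

end Cfg

/-- The fixed points of `σ` lie in `M`. -/
theorem fixed_mem {σ : MulAut G} {p r m : ℕ} {M K R S U Z : Subgroup G}
    (B : Cfg σ p r m M K R S U Z) (hsep : B.Separated) {h : G} (hh : σ h = h) : h ∈ M := by
  by_contra hhM
  exact B.false_of_fixed_outside (B.irr_of_separated hsep hh hhM) hh hhM

end H41.Shult
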