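import Mathlib

/-!
The commutator and squaring maps `U → Z` of a 2-group `U` with elementary central `Z` and an
automorphism `σ` of prime order `r = 2 ^ m + 1` with fixed group `Z`, tested against the characters
of `Z`: radicals of distinct nondegenerate blocks, Gauss sums, order of `Z`, isotropic subgroups.
-/

set_option autoImplicit false
set_option linter.all false

open Subgroup

namespace H41.Shult

variable {U : Type*} [Group U]

/-- The configuration on `U`. -/
structure FormData (Z : Subgroup U) (σ : MulAut U) (r m : ℕ) : Prop where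
  hr : r.Prime
  hrm : r = 2 ^ m + 1
  m_pos : 0 < m
  hσ : σ ^ r = 1
  sqZ : ∀ z ∈ Z, z * z = 1
  cen : ∀ z ∈ Z, ∀ u : U, u * z = z * u
  sq : ∀ u : U, u * u ∈ Z
  comm : ∀ u v : U, u * v * u⁻¹ * v⁻¹ ∈ Z
  fix : ∀ u : U, σ u = u ↔ u ∈ Z

namespace FormData

variable {Z : Subgroup U} {σ : MulAut U} {r m : ℕ} (D : FormData Z σ r m)
include D

/-- The commutator with values in `Z`. -/
def cm (u v : U) : Z := ⟨u * v * u⁻¹ * v⁻¹, D.comm u v⟩

/-- The square with values in `Z`. -/
def sv (u : U) : Z := ⟨u * u, D.sq u⟩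

theorem inv_eq {z : U} (hz : z ∈ Z) : z⁻¹ = z := inv_eq_of_mul_eq_one_right (D.sqZ z hz)

theorem cm_mul_left (u u' v : U) : D.cm (u * u') v = D.cm u v * D.cm u' v := by
  apply Subtype.ext
  show u * u' * v * (u * u')⁻¹ * v⁻¹ = u * v * u⁻¹ * v⁻¹ * (u' * v * u'⁻¹ * v⁻¹)
  have h := D.cen _ (D.comm u' v) (u * v * u⁻¹ * v⁻¹)
  have h' := D.cen _ (D.comm u' v) u
  calc u * u' * v * (u * u')⁻¹ * v⁻¹
      = (u * (u' * v * u'⁻¹ * v⁻¹)) * v * u⁻¹ * v⁻¹ := by group
    _ = ((u' * v * u'⁻¹ * v⁻¹) * u) * v * u⁻¹ * v⁻¹ := by rw [h']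
    _ = (u' * v * u'⁻¹ * v⁻¹) * (u * v * u⁻¹ * v⁻¹) := by group
    _ = _ := h.symm

theorem cm_comm (u v : U) : D.cm u v = D.cm v u := by
  apply Subtype.ext
  show u * v * u⁻¹ * v⁻¹ = v * u * v⁻¹ * u⁻¹
  rw [← D.inv_eq (D.comm u v)]
  group

theorem cm_mul_right (u v v' : U) : D.cm u (v * v') = D.cm u v * D.cm u v' := by
  rw [D.cm_comm, D.cm_mul_left, D.cm_comm v u, D.cm_comm v' u]

theorem cm_of_mem {z : U} (hz : z ∈ Z) (v : U) : D.cm z v = 1 := by
  apply Subtype.ext
  show z * v * z⁻¹ * v⁻¹ = 1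
  rw [← D.cen z hz v]; group

theorem cm_self (u : U) : D.cm u u = 1 := by
  apply Subtype.ext
  show u * u * u⁻¹ * u⁻¹ = 1
  group

theorem sv_mul (u v : U) : D.sv (u * v) = D.sv u * D.sv v * D.cm v u := by
  apply Subtype.ext
  show u * v * (u * v) = u * u * (v * v) * (v * u * v⁻¹ * u⁻¹)
  have h := D.cen _ (D.comm v u) u
  have e : u * v * (u * v) = (u * (v * u * v⁻¹ * u⁻¹)) * u * (v * v) := by group
  rw [e, h]
  have h2 := D.cen _ (D.comm v u) (u * u * (v * v))
  rw [h2]; group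

theorem sv_of_mem {z : U} (hz : z ∈ Z) : D.sv z = 1 := Subtype.ext (D.sqZ z hz)

theorem cm_sigma (u v : U) : D.cm (σ u) (σ v) = D.cm u v := by
  apply Subtype.ext
  show σ u * σ v * (σ u)⁻¹ * (σ v)⁻¹ = u * v * u⁻¹ * v⁻¹
  rw [← map_inv, ← map_inv, ← map_mul, ← map_mul, ← map_mul]
  exact (D.fix _).mpr (D.comm u v)

theorem sv_sigma (u : U) : D.sv (σ u) = D.sv u := by
  apply Subtype.ext
  show σ u * σ u = u * u
  rw [← map_mul]
  exact (D.fix _).mpr (D.sq u)

/-- The radical of the commutator form composed with a character. -/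
def rad (ε : Z →* ℤˣ) : Subgroup U where
  carrier := {u | ∀ v, ε (D.cm u v) = 1}
  one_mem' := fun v => by rw [D.cm_of_mem (one_mem _), map_one]
  mul_mem' := fun {a b} ha hb v => by rw [D.cm_mul_left, map_mul, ha v, hb v, one_mul]
  inv_mem' := fun {a} ha v => by
    have h := D.cm_mul_left a a⁻¹ v
    rw [mul_inv_cancel, D.cm_of_mem (one_mem _)] at h
    have := congrArg ε h
    rw [map_one, map_mul, ha v, one_mul] at this
    exact this.symm

theorem le_rad (ε : Z →* ℤˣ) : Z ≤ D.rad ε := fun _ hz v => by rw [D.cm_of_mem hz, map_one]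

theorem rad_normal (ε : Z →* ℤˣ) : (D.rad ε).Normal where
  conj_mem := fun u hu g => by
    have e : g * u * g⁻¹ = (g * u * g⁻¹ * u⁻¹) * u := by group
    rw [e]
    exact mul_mem (D.le_rad ε (D.comm g u)) hu

/-- A nondegenerate block: radical of index `2 ^ (2 m)` with irreducible quotient. -/
def Blk (ε : Z →* ℤˣ) : Prop :=
  (D.rad ε).index = 2 ^ (2 * m) ∧
    ∀ H : Subgroup U, (∀ u ∈ H, σ u ∈ H) → D.rad ε ≤ H → H = D.rad ε ∨ H = ⊤

theorem sigma_rad {ε : Z →* ℤˣ} {u : U} (hu : u ∈ D.rad ε) : σ u ∈ D.rad ε := fun v => by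
  rw [← σ.apply_symm_apply v, D.cm_sigma]
  exact hu _

variable [Finite U]

/-- If two blocks and their product are nondegenerate, the radicals agree. -/
theorem blk_eq {ε η : Z →* ℤˣ} (hε : D.Blk ε) (hη : D.Blk η) (hεη : D.Blk (ε * η)) :
    D.rad ε = D.rad η := by
  haveI := D.rad_normal ε
  haveI := D.rad_normal η
  by_contra hne
  have hinv : ∀ u ∈ D.rad ε ⊔ D.rad η, σ u ∈ D.rad ε ⊔ D.rad η := by
    intro u hu
    obtain ⟨a, ha, b, hb, rfl⟩ := mem_sup_of_normal_right.mp hu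
    rw [map_mul]
    exact mul_mem (mem_sup_left (D.sigma_rad ha)) (mem_sup_right (D.sigma_rad hb))
  have hpos : (0 : ℕ) < 2 ^ (2 * m) := by positivity
  have htop : D.rad ε ⊔ D.rad η = ⊤ := by
    refine (hε.2 _ hinv le_sup_left).resolve_left fun h => hne ?_
    have hle : D.rad η ≤ D.rad ε := le_sup_right.trans h.le
    refine (eq_of_le_of_card_ge hle ?_).symm
    have h1 := (D.rad ε).card_mul_index
    have h2 := (D.rad η).card_mul_index
    rw [hε.1] at h1
    rw [hη.1] at h2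
    exact (Nat.eq_of_mul_eq_mul_right hpos (h1.trans h2.symm)).le
  have hrad : D.rad (ε * η) = D.rad ε ⊓ D.rad η := by
    refine le_antisymm (fun u hu => ?_) (fun u hu v => by
      rw [MonoidHom.mul_apply, hu.1 v, hu.2 v, one_mul])
    have key : ∀ (α β : Z →* ℤˣ), D.rad α ⊔ D.rad β = ⊤ →
        (∀ v, α (D.cm u v) * β (D.cm u v) = 1) → u ∈ D.rad β := by
      intro α β ht h v
      haveI := D.rad_normal β
      obtain ⟨a, ha, b, hb, rfl⟩ := mem_sup_of_normal_right.mp (ht.ge (mem_top v))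
      have h1 : β (D.cm u a) = 1 := by
        have := h a
        rw [D.cm_comm u a, ha u, one_mul] at this
        rw [D.cm_comm u a]; exact this
      have h2 : β (D.cm u b) = 1 := by rw [D.cm_comm u b]; exact hb u
      rw [D.cm_mul_right, map_mul, h1, h2, one_mul]
    exact ⟨key η ε (by rw [sup_comm]; exact htop) (fun v => by rw [mul_comm]; exact hu v),
      key ε η htop (fun v => hu v)⟩
  have h4 := hεη.1
  rw [hrad] at h4
  have h5 : (D.rad ε ⊓ D.rad η).relIndex (D.rad η) * (D.rad η).index =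
      (D.rad ε ⊓ D.rad η).index := relIndex_mul_index inf_le_right
  have h6 : (D.rad ε ⊓ D.rad η).relIndex (D.rad η) = (D.rad ε).index := by
    rw [inf_relIndex_right, ← relIndex_top_right, ← htop, relIndex_sup_left]
  rw [h6, hε.1, hη.1, h4] at h5
  have hlt : 1 < 2 ^ (2 * m) := Nat.one_lt_pow (by have := D.m_pos; omega) (by omega)
  nlinarith

omit D in
theorem sum_char {A : Type*} [Group A] [Fintype A] {χ : A →* ℤˣ} (h : χ ≠ 1) :
    ∑ a : A, ((χ a : ℤˣ) : ℤ) = 0 := by
  obtain ⟨b, hb⟩ : ∃ b, χ b ≠ 1 := by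
    by_contra hc
    push Not at hc
    exact h (MonoidHom.ext hc)
  have hb' : χ b = -1 := (Int.units_eq_one_or (χ b)).resolve_left hb
  have h1 : ∑ a : A, ((χ a : ℤˣ) : ℤ) = ∑ a : A, ((χ (b * a) : ℤˣ) : ℤ) :=
    (Equiv.sum_comp (Equiv.mulLeft b) fun a => ((χ a : ℤˣ) : ℤ)).symm
  have h2 : ∀ a, ((χ (b * a) : ℤˣ) : ℤ) = -((χ a : ℤˣ) : ℤ) := fun a => by
    rw [map_mul, hb']; simp
  rw [Finset.sum_congr rfl (fun a _ => h2 a), Finset.sum_neg_distrib] at h1
  linarith

/-- The dual group of `Z` has the order of `Z`. -/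
theorem card_dual : Nat.card (Z →* ℤˣ) = Nat.card Z := by
  letI : CommGroup Z := { (inferInstance : Group Z) with
    mul_comm := fun a b => Subtype.ext (D.cen b b.2 a) }
  have hexp : Monoid.exponent Z ∣ 2 := Monoid.exponent_dvd_of_forall_pow_eq_one fun a =>
    Subtype.ext (by rw [pow_two]; exact D.sqZ a a.2)
  haveI : HasEnoughRootsOfUnity ℤ 2 :=
    ⟨⟨-1, by
      rw [IsPrimitiveRoot.iff_def]
      refine ⟨by norm_num, fun l hl => ?_⟩
      rcases Nat.even_or_odd l with he | ho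
      · exact even_iff_two_dvd.mp he
      · rw [ho.neg_one_pow] at hl; omega⟩, inferInstance⟩
  haveI : HasEnoughRootsOfUnity ℤ (Monoid.exponent Z) := HasEnoughRootsOfUnity.of_dvd ℤ hexp
  exact CommGroup.card_monoidHom_of_hasEnoughRootsOfUnity Z ℤ

theorem exists_char {a : Z} (ha : a ≠ 1) : ∃ ε : Z →* ℤˣ, ε a ≠ 1 := by
  letI : CommGroup Z := { (inferInstance : Group Z) with
    mul_comm := fun a b => Subtype.ext (D.cen b b.2 a) }
  have hexp : Monoid.exponent Z ∣ 2 := Monoid.exponent_dvd_of_forall_pow_eq_one fun a =>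
    Subtype.ext (by rw [pow_two]; exact D.sqZ a a.2)
  haveI : HasEnoughRootsOfUnity ℤ 2 :=
    ⟨⟨-1, by
      rw [IsPrimitiveRoot.iff_def]
      refine ⟨by norm_num, fun l hl => ?_⟩
      rcases Nat.even_or_odd l with he | ho
      · exact even_iff_two_dvd.mp he
      · rw [ho.neg_one_pow] at hl; omega⟩, inferInstance⟩
  haveI : HasEnoughRootsOfUnity ℤ (Monoid.exponent Z) := HasEnoughRootsOfUnity.of_dvd ℤ hexp
  exact CommGroup.exists_apply_ne_one_of_hasEnoughRootsOfUnity Z ℤ ha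

theorem sum_dual [Fintype (Z →* ℤˣ)] (a : Z) [Decidable (a = 1)] :
    ∑ ε : Z →* ℤˣ, ((ε a : ℤˣ) : ℤ) = if a = 1 then (Nat.card Z : ℤ) else 0 := by
  split
  · subst a
    simp [← D.card_dual, Nat.card_eq_fintype_card]
  · next ha =>
    obtain ⟨δ, hδ⟩ := D.exists_char ha
    have hδ' : δ a = -1 := (Int.units_eq_one_or (δ a)).resolve_left hδ
    have h1 := Equiv.sum_comp (Equiv.mulLeft δ) fun ε : Z →* ℤˣ => ((ε a : ℤˣ) : ℤ)
    have h2 : ∀ ε : Z →* ℤˣ, (((Equiv.mulLeft δ ε) a : ℤˣ) : ℤ) = -((ε a : ℤˣ) : ℤ) := fun ε => by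
      rw [Equiv.coe_mulLeft, MonoidHom.mul_apply, hδ']; simp
    rw [Finset.sum_congr rfl (fun ε _ => h2 ε), Finset.sum_neg_distrib] at h1
    linarith

/-- A nonempty set of nontrivial characters invariant under a group transitive on `Z#` is full. -/
theorem all_of_transitive {P : (Z →* ℤˣ) → Prop} (hne : ∃ ε, ε ≠ 1 ∧ P ε)
    (htr : ∀ a b : Z, a ≠ 1 → b ≠ 1 →
      ∃ f : Z ≃* Z, f a = b ∧ ∀ ε, P ε ↔ P (ε.comp f.toMonoidHom)) :
    ∀ η : Z →* ℤˣ, η ≠ 1 → P η := by
  classical
  haveI : Fintype U := Fintype.ofFinite U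
  haveI : Fintype Z := Fintype.ofFinite Z
  haveI : Finite (Z →* ℤˣ) := Finite.of_injective _ DFunLike.coe_injective
  haveI : Fintype (Z →* ℤˣ) := Fintype.ofFinite _
  set O := Finset.univ.filter (fun ε : Z →* ℤˣ => ε ≠ 1 ∧ P ε) with hO
  set g : Z → ℤ := fun a => ∑ ε ∈ O, ((ε a : ℤˣ) : ℤ) with hg
  have hg1 : g 1 = O.card := by simp [hg]
  have hconst : ∀ a b : Z, a ≠ 1 → b ≠ 1 → g a = g b := by
    intro a b ha hb
    obtain ⟨f, hf, hP⟩ := htr a b ha hb
    have hne1 : ∀ ε : Z →* ℤˣ, ε.comp f.toMonoidHom = 1 ↔ ε = 1 := fun ε =>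
      ⟨fun h => MonoidHom.ext fun x => by
        have := DFunLike.congr_fun h (f.symm x); simpa using this,
       fun h => by subst h; rfl⟩
    refine Finset.sum_nbij' (fun ε => ε.comp f.symm.toMonoidHom) (fun ε => ε.comp f.toMonoidHom)
      ?_ ?_ ?_ ?_ ?_
    · intro ε hε
      simp only [hO, Finset.mem_coe, Finset.mem_filter, Finset.mem_univ, true_and] at hε ⊢
      have e : (ε.comp f.symm.toMonoidHom).comp f.toMonoidHom = ε :=
        MonoidHom.ext fun x => by simp
      refine ⟨fun h => hε.1 ?_, (hP _).mpr (by rw [e]; exact hε.2)⟩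
      rw [← e, h]; rfl
    · intro ε hε
      simp only [hO, Finset.mem_coe, Finset.mem_filter, Finset.mem_univ, true_and] at hε ⊢
      exact ⟨fun h => hε.1 ((hne1 ε).mp h), (hP ε).mp hε.2⟩
    · intro ε _; exact MonoidHom.ext fun x => by simp
    · intro ε _; exact MonoidHom.ext fun x => by simp
    · intro ε _; simp [← hf]
  have hkey : ∀ η : Z →* ℤˣ, ∑ a : Z, g a * ((η a : ℤˣ) : ℤ) =
      if η ∈ O then (Nat.card Z : ℤ) else 0 := by
    intro η
    simp only [hg, Finset.sum_mul]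
    rw [Finset.sum_comm]
    have hs : ∀ ε : Z →* ℤˣ, ∑ a : Z, ((ε a : ℤˣ) : ℤ) * ((η a : ℤˣ) : ℤ) =
        if ε = η then (Nat.card Z : ℤ) else 0 := by
      intro ε
      split
      · next h =>
        subst h
        simp [← Units.val_mul, Int.units_mul_self, Nat.card_eq_fintype_card]
      · next h =>
        have hne : ε * η ≠ 1 := fun e => h (MonoidHom.ext fun x => by
          have := DFunLike.congr_fun e x
          rw [MonoidHom.mul_apply, MonoidHom.one_apply] at this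
          rw [eq_inv_of_mul_eq_one_left this, Int.units_inv_eq_self])
        simpa [Units.val_mul] using sum_char hne
    rw [Finset.sum_congr rfl fun ε _ => hs ε, Finset.sum_ite_eq']
  intro η hη
  by_contra hPη
  obtain ⟨ε, hε1, hεP⟩ := hne
  obtain ⟨b, hb⟩ : ∃ b, η b ≠ 1 := by
    by_contra hc
    push Not at hc
    exact hη (MonoidHom.ext hc)
  have hb1 : b ≠ 1 := fun h => hb (by rw [h, map_one])
  have hval : ∀ χ : Z →* ℤˣ, χ ≠ 1 → ∑ a : Z, g a * ((χ a : ℤˣ) : ℤ) = g 1 - g b := by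
    intro χ hχ
    have e : ∀ a : Z, g a * ((χ a : ℤˣ) : ℤ) =
        g b * ((χ a : ℤˣ) : ℤ) + if a = 1 then g 1 - g b else 0 := by
      intro a
      split
      · next h => subst h; simp
      · next h => rw [hconst a b h hb1]; ring
    rw [Finset.sum_congr rfl fun a _ => e a, Finset.sum_add_distrib, ← Finset.mul_sum, sum_char hχ]
    simp
  have h1 := (hval η hη).symm.trans (hkey η)
  have h2 := (hval ε hε1).symm.trans (hkey ε)
  rw [if_neg (by simp [hO, hPη])] at h1
  rw [if_pos (by simp [hO, hε1, hεP]), h1] at h2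
  have := Nat.card_pos (α := Z)
  omega

/-- If all nontrivial characters are blocks, every radical is `Z`. -/
theorem rad_eq (h4 : 4 ≤ Nat.card Z) (hall : ∀ ε, ε ≠ 1 → D.Blk ε)
    (hcenter : ∀ u : U, (∀ v, D.cm u v = 1) → u ∈ Z) {ε : Z →* ℤˣ} (hε : ε ≠ 1) :
    D.rad ε = Z := by
  refine le_antisymm (fun u hu => ?_) (D.le_rad ε)
  refine hcenter u fun v => ?_
  by_contra hne
  obtain ⟨η, hη⟩ := D.exists_char hne
  have hη1 : η ≠ 1 := fun h => hη (by rw [h]; rfl)
  by_cases heq : ε = η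
  · exact hη (heq ▸ hu v)
  have hprod : ε * η ≠ 1 := fun e => heq (MonoidHom.ext fun x => by
    have := DFunLike.congr_fun e x
    rw [MonoidHom.mul_apply, MonoidHom.one_apply] at this
    rw [eq_inv_of_mul_eq_one_left this, Int.units_inv_eq_self])
  rw [D.blk_eq (hall ε hε) (hall η hη1) (hall _ hprod)] at hu
  exact hη (hu v)

theorem sum_sq [Fintype U] [DecidablePred (· ∈ Z)] {ε : Z →* ℤˣ} (hrad : D.rad ε = Z) (a : U) :
    ∑ u : U, ((ε (D.cm a u) : ℤˣ) : ℤ) = if a ∈ Z then (Nat.card U : ℤ) else 0 := by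
  split
  · next h => simp [D.cm_of_mem h, Nat.card_eq_fintype_card]
  · next h =>
    let χ : U →* ℤˣ :=
      { toFun := fun u => ε (D.cm a u)
        map_one' := by rw [D.cm_comm, D.cm_of_mem (one_mem _), map_one]
        map_mul' := fun x y => by rw [D.cm_mul_right, map_mul] }
    have : χ ≠ 1 := fun e => h (hrad ▸ fun v => DFunLike.congr_fun e v)
    exact sum_char (χ := χ) this

/-- The Gauss sum of a block with radical `Z`. -/
theorem gauss [Fintype U] {ε : Z →* ℤˣ} (hrad : D.rad ε = Z)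
    (hidx : Z.index = 2 ^ (2 * m)) :
    ∑ u : U, ((ε (D.sv u) : ℤˣ) : ℤ) = -((2 : ℤ) ^ m * (Nat.card Z : ℤ)) := by
  classical
  set T := ∑ u : U, ((ε (D.sv u) : ℤˣ) : ℤ) with hT
  have hU : (Nat.card U : ℤ) = (2 : ℤ) ^ (2 * m) * (Nat.card Z : ℤ) := by
    have := Z.card_mul_index
    rw [hidx] at this
    exact_mod_cast (this.symm.trans (Nat.mul_comm _ _))
  have hTT : T * T = (Nat.card U : ℤ) * (Nat.card Z : ℤ) := by
    rw [hT, Finset.sum_mul]
    have e : ∀ u : U, ((ε (D.sv u) : ℤˣ) : ℤ) * ∑ v : U, ((ε (D.sv v) : ℤˣ) : ℤ) =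
        ∑ a : U, ((ε (D.sv a) : ℤˣ) : ℤ) * ((ε (D.cm a u) : ℤˣ) : ℤ) := by
      intro u
      rw [Finset.mul_sum]
      refine ((Equiv.sum_comp (Equiv.mulLeft u) _).symm).trans (Finset.sum_congr rfl fun a _ => ?_)
      rw [Equiv.coe_mulLeft, D.sv_mul, map_mul, map_mul, Units.val_mul, Units.val_mul]
      have : ((ε (D.sv u) : ℤˣ) : ℤ) * ((ε (D.sv u) : ℤˣ) : ℤ) = 1 := by
        rw [← Units.val_mul, Int.units_mul_self]; rfl
      linear_combination (((ε (D.sv a) : ℤˣ) : ℤ) * ((ε (D.cm a u) : ℤˣ) : ℤ)) * this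
    rw [Finset.sum_congr rfl fun u _ => e u, Finset.sum_comm]
    simp_rw [← Finset.mul_sum, D.sum_sq hrad, mul_ite, mul_zero]
    rw [← Finset.sum_filter, Finset.sum_congr rfl (g := fun _ => (Nat.card U : ℤ))]
    · rw [Finset.sum_const, nsmul_eq_mul, mul_comm]
      congr 2
      rw [Nat.card_eq_fintype_card, Fintype.card_subtype]
    · intro a ha
      rw [Finset.mem_filter] at ha
      rw [D.sv_of_mem ha.2, map_one, Units.val_one, one_mul]
  -- congruence modulo `r`
  have hmod : (T : ℤ) ≡ (Nat.card Z : ℤ) [ZMOD (r : ℤ)] := by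
    set A := Finset.univ.filter (fun u : U => ε (D.sv u) = 1) with hA
    have h1 : T = 2 * (A.card : ℤ) - (Nat.card U : ℤ) := by
      have e : ∀ u : U, ((ε (D.sv u) : ℤˣ) : ℤ) = 2 * (if ε (D.sv u) = 1 then (1 : ℤ) else 0) - 1 :=
        fun u => by rcases Int.units_eq_one_or (ε (D.sv u)) with h | h <;> simp [h]
      rw [hT, Finset.sum_congr rfl fun u _ => e u, Finset.sum_sub_distrib, ← Finset.mul_sum]
      simp [hA, Nat.card_eq_fintype_card]
    have h2 : ∀ B : Finset U, (∀ u, u ∈ B ↔ σ u ∈ B) → (∀ z ∈ Z, z ∈ B) →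
        (B.card : ℤ) ≡ (Nat.card Z : ℤ) [ZMOD (r : ℤ)] := by
      intro B hB hZB
      haveI := Fact.mk D.hr
      have hp : IsPGroup r (zpowers σ) := IsPGroup.of_card (n := Nat.factorization (orderOf σ) r) (by
        rw [Nat.card_zpowers]
        rcases D.hr.eq_one_or_self_of_dvd _ (orderOf_dvd_of_pow_eq_one D.hσ) with h | h <;> rw [h] <;>
          simp [D.hr.factorization_self])
      have hinv : ∀ (s : zpowers σ) (u : U), u ∈ B → (s : MulAut U) u ∈ B := by
        rintro ⟨s, hs⟩ u hu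
        obtain ⟨i, -, rfl⟩ := (IsOfFinOrder.mem_zpowers_iff_mem_range_orderOf
          (isOfFinOrder_of_finite σ)).mp hs |> Finset.mem_image.mp
        induction i with
        | zero => simpa using hu
        | succ i ih =>
          show (σ ^ (i + 1)) u ∈ B
          rw [pow_succ', MulAut.mul_apply]
          exact (hB _).mp (ih (pow_mem (mem_zpowers σ) i))
      letI act : MulAction (zpowers σ) B :=
        { smul := fun s u => ⟨(s : MulAut U) u, hinv s u u.2⟩
          one_smul := fun u => Subtype.ext rfl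
          mul_smul := fun s t u => Subtype.ext rfl }
      have h := hp.card_modEq_card_fixedPoints B
      rw [Nat.card_eq_fintype_card, Fintype.card_coe] at h
      have hfix : Nat.card (MulAction.fixedPoints (zpowers σ) B) = Nat.card Z := by
        refine Nat.card_congr
          { toFun := fun u => ⟨(u.1 : U), (D.fix _).mp
              (congrArg Subtype.val (u.2 ⟨σ, mem_zpowers σ⟩))⟩
            invFun := fun z => ⟨⟨z, hZB z z.2⟩, fun s => Subtype.ext ?_⟩
            left_inv := fun u => rfl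
            right_inv := fun z => rfl }
        obtain ⟨s, i, rfl⟩ := s
        show (σ ^ i) (z : U) = z
        have hz : σ • (z : U) = (z : U) := (D.fix _).mpr z.2
        exact MulAction.mem_stabilizer_iff.mp
          (zpow_mem (MulAction.mem_stabilizer_iff.mpr hz) i)
      rw [hfix] at h
      exact_mod_cast h
    have hAc := h2 A (fun u => by simp [hA, D.sv_sigma]) (fun z hz => by simp [hA, D.sv_of_mem hz])
    have hUc := h2 Finset.univ (fun u => by simp) (fun z _ => Finset.mem_univ _)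
    rw [Finset.card_univ, ← Nat.card_eq_fintype_card] at hUc
    rw [h1]
    have := ((hAc.mul_left 2).sub hUc)
    rwa [show (2 : ℤ) * (Nat.card Z : ℤ) - (Nat.card Z : ℤ) = (Nat.card Z : ℤ) by ring] at this
  have hsq : T * T = ((2 : ℤ) ^ m * (Nat.card Z : ℤ)) * ((2 : ℤ) ^ m * (Nat.card Z : ℤ)) := by
    rw [hTT, hU, two_mul m, pow_add]; ring
  rcases mul_self_eq_mul_self_iff.mp hsq with h | h
  · exfalso
    rw [h] at hmod
    have hd : (r : ℤ) ∣ (2 : ℤ) * (Nat.card Z : ℤ) := by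
      have h3 := Int.ModEq.dvd hmod
      have h4 : (r : ℤ) ∣ (r : ℤ) * (Nat.card Z : ℤ) := dvd_mul_right _ _
      have := dvd_add h3 h4
      rw [D.hrm] at this
      push_cast at this ⊢
      rw [D.hrm]; push_cast
      rw [show (2 : ℤ) * (Nat.card Z : ℤ) = (Nat.card Z : ℤ) - 2 ^ m * (Nat.card Z : ℤ)
        + (2 ^ m + 1) * (Nat.card Z : ℤ) by ring]
      exact this
    have hd' : r ∣ 2 * Nat.card Z := by exact_mod_cast hd
    have hr2 : ¬ r ∣ 2 := fun h2 => by
      have := (Nat.prime_dvd_prime_iff_eq D.hr Nat.prime_two).mp h2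
      have h5 := D.hrm
      have : 2 ≤ 2 ^ m := Nat.le_self_pow (by have := D.m_pos; omega) 2
      omega
    rcases D.hr.dvd_mul.mp hd' with h2 | h2
    · exact hr2 h2
    · haveI := Fact.mk Nat.prime_two
      obtain ⟨k, hk⟩ := IsPGroup.iff_card.mp (show IsPGroup 2 Z from fun z =>
        ⟨1, Subtype.ext (by simpa [pow_two] using D.sqZ z z.2)⟩)
      rw [hk] at h2
      exact hr2 (D.hr.dvd_of_dvd_pow h2)
  · exact h

/-- Without involutions outside `Z`, `Z` has order `2 ^ m`. -/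
theorem card_eq (hrad : ∀ ε : Z →* ℤˣ, ε ≠ 1 → D.rad ε = Z) (hidx : Z.index = 2 ^ (2 * m))
    (hinv : ∀ u : U, u * u = 1 → u ∈ Z) : Nat.card Z = 2 ^ m := by
  classical
  haveI : Fintype U := Fintype.ofFinite U
  haveI : Finite (Z →* ℤˣ) := Finite.of_injective _ DFunLike.coe_injective
  haveI : Fintype (Z →* ℤˣ) := Fintype.ofFinite _
  set n : ℤ := (Nat.card Z : ℤ) with hn
  have hU : (Nat.card U : ℤ) = (2 : ℤ) ^ (2 * m) * n := by
    have := Z.card_mul_index
    rw [hidx] at this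
    rw [hn]
    exact_mod_cast (this.symm.trans (Nat.mul_comm _ _))
  have hA : ∑ ε : Z →* ℤˣ, ∑ u : U, ((ε (D.sv u) : ℤˣ) : ℤ) = n * n := by
    rw [Finset.sum_comm, Finset.sum_congr rfl fun u _ => D.sum_dual (D.sv u)]
    rw [← Finset.sum_filter, Finset.sum_const, nsmul_eq_mul]
    congr 1
    rw [hn, Nat.card_eq_fintype_card, Fintype.card_subtype]
    congr 2
    ext u
    simp only [Finset.mem_filter, Finset.mem_univ, true_and]
    exact ⟨fun h => hinv u (congrArg Subtype.val h), fun h => D.sv_of_mem h⟩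
  have hB : ∑ ε : Z →* ℤˣ, ∑ u : U, ((ε (D.sv u) : ℤˣ) : ℤ) =
      (Nat.card U : ℤ) + (n - 1) * (-((2 : ℤ) ^ m * n)) := by
    rw [← Finset.add_sum_erase Finset.univ _ (Finset.mem_univ (1 : Z →* ℤˣ))]
    rw [Finset.sum_congr rfl fun ε hε => D.gauss (hrad ε (Finset.ne_of_mem_erase hε)) hidx]
    rw [Finset.sum_const, nsmul_eq_mul, Finset.card_erase_of_mem (Finset.mem_univ _),
      Finset.card_univ, ← Nat.card_eq_fintype_card, D.card_dual,
      Nat.cast_sub Nat.card_pos, hn]
    simp [Nat.card_eq_fintype_card]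
  have h := hA.symm.trans hB
  rw [hU] at h
  have h' : n * ((n - (2 : ℤ) ^ m) * ((2 : ℤ) ^ m + 1)) = 0 := by
    rw [two_mul m, pow_add] at h
    linear_combination h
  have hn0 : n ≠ 0 := by rw [hn]; exact_mod_cast Nat.card_pos.ne'
  have hp0 : (2 : ℤ) ^ m + 1 ≠ 0 := by positivity
  have := (mul_eq_zero.mp ((mul_eq_zero.mp h').resolve_left hn0)).resolve_right hp0
  rw [hn, sub_eq_zero] at this
  exact_mod_cast this

/-- An elementary abelian subgroup above `Z` is small. -/
theorem card_lt_of_elementary {ε : Z →* ℤˣ} (hrad : D.rad ε = Z)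
    (hidx : Z.index = 2 ^ (2 * m)) {X : Subgroup U} (hZX : Z ≤ X)
    (hX : ∀ x ∈ X, x * x = 1) : Nat.card X < 2 ^ m * Nat.card Z := by
  classical
  haveI : Fintype U := Fintype.ofFinite U
  by_contra hbig
  push Not at hbig
  set P := Finset.univ.filter (fun u : U => ∀ x ∈ X, ε (D.cm u x) = 1) with hP
  have hXc : ∀ u ∈ X, ∀ x ∈ X, ε (D.cm u x) = 1 := fun u hu x hx => by
    have e : D.cm u x = 1 := by
      apply Subtype.ext
      show u * x * u⁻¹ * x⁻¹ = 1
      rw [inv_eq_of_mul_eq_one_right (hX u hu), inv_eq_of_mul_eq_one_right (hX x hx), mul_assoc]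
      exact hX _ (mul_mem hu hx)
    rw [e, map_one]
  have hrow : ∀ u : U, ∑ x : X, ((ε (D.cm u x) : ℤˣ) : ℤ) =
      if u ∈ P then (Nat.card X : ℤ) else 0 := by
    intro u
    split
    · next h =>
      rw [hP, Finset.mem_filter] at h
      rw [Finset.sum_congr rfl (g := fun _ => (1 : ℤ)) fun x _ => by rw [h.2 x x.2, Units.val_one]]
      simp [Nat.card_eq_fintype_card]
    · next h =>
      let χ : X →* ℤˣ :=
        { toFun := fun x => ε (D.cm u x)
          map_one' := by rw [OneMemClass.coe_one, D.cm_comm, D.cm_of_mem (one_mem _), map_one]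
          map_mul' := fun x y => by rw [Subgroup.coe_mul, D.cm_mul_right, map_mul] }
      refine sum_char (χ := χ) fun e => h ?_
      rw [hP, Finset.mem_filter]
      exact ⟨Finset.mem_univ _, fun x hx => DFunLike.congr_fun e ⟨x, hx⟩⟩
  have hcard : (Nat.card X : ℤ) * (P.card : ℤ) = (Nat.card Z : ℤ) * (Nat.card U : ℤ) := by
    have h1 : ∑ u : U, ∑ x : X, ((ε (D.cm u x) : ℤˣ) : ℤ) = (Nat.card X : ℤ) * (P.card : ℤ) := by
      rw [Finset.sum_congr rfl fun u _ => hrow u, ← Finset.sum_filter, Finset.sum_const, nsmul_eq_mul,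
        mul_comm]
      congr 3
      ext u; simp
    rw [← h1, Finset.sum_comm, Finset.sum_congr rfl (g := fun x : X =>
      if (x : U) ∈ Z then (Nat.card U : ℤ) else 0) fun x _ => by
        rw [← D.sum_sq hrad (x : U)]
        exact Finset.sum_congr rfl fun u _ => by rw [D.cm_comm]]
    rw [← Finset.sum_filter, Finset.sum_const, nsmul_eq_mul]
    congr 1
    rw [← Fintype.card_subtype, ← Nat.card_eq_fintype_card]
    exact_mod_cast (Nat.card_congr (Equiv.subtypeSubtypeEquivSubtype fun {u} hu => hZX hu))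
  have hXP : (X : Set U).toFinset ⊆ P := fun u hu => by
    rw [Set.mem_toFinset] at hu
    rw [hP, Finset.mem_filter]
    exact ⟨Finset.mem_univ _, hXc u hu⟩
  have hU : (Nat.card U : ℤ) = (2 : ℤ) ^ (2 * m) * (Nat.card Z : ℤ) := by
    have := Z.card_mul_index
    rw [hidx] at this
    exact_mod_cast (this.symm.trans (Nat.mul_comm _ _))
  have hXcard : (X : Set U).toFinset.card = Nat.card X := by
    rw [Set.toFinset_card, Nat.card_eq_fintype_card]; rfl
  have hle : (Nat.card X : ℤ) ≤ (P.card : ℤ) := by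
    exact_mod_cast hXcard ▸ Finset.card_le_card hXP
  have hbig' : (2 : ℤ) ^ m * (Nat.card Z : ℤ) ≤ (Nat.card X : ℤ) := by exact_mod_cast hbig
  have hpos : (0 : ℤ) < (2 : ℤ) ^ m * (Nat.card Z : ℤ) := by
    have := Nat.card_pos (α := Z); positivity
  have hPeq : (P.card : ℤ) = (Nat.card X : ℤ) := by
    rw [hU, two_mul m, pow_add] at hcard
    nlinarith
  have hPX : P = (X : Set U).toFinset :=
    (Finset.eq_of_subset_of_card_le hXP (by rw [hXcard]; exact_mod_cast hPeq.le)).symm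
  -- average the Gauss sum over `X`
  set T := ∑ u : U, ((ε (D.sv u) : ℤˣ) : ℤ) with hT
  have h2 : (Nat.card X : ℤ) * T = ∑ u : U, ((ε (D.sv u) : ℤˣ) : ℤ) *
      ∑ x : X, ((ε (D.cm u x) : ℤˣ) : ℤ) := by
    simp_rw [Finset.mul_sum]
    rw [Finset.sum_comm, Finset.sum_congr rfl (g := fun _ : X => T), Finset.sum_const, nsmul_eq_mul,
      Finset.card_univ, Nat.card_eq_fintype_card, mul_comm]
    intro x _
    rw [hT]
    refine (Finset.sum_congr rfl fun u _ => ?_).trans
      (Equiv.sum_comp (Equiv.mulRight (x : U)) fun u : U => ((ε (D.sv u) : ℤˣ) : ℤ))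
    rw [Equiv.coe_mulRight, D.sv_mul, map_mul, map_mul, Units.val_mul, Units.val_mul,
      D.cm_comm (x : U) u, show D.sv (x : U) = 1 from Subtype.ext (hX x x.2), map_one, Units.val_one,
      mul_one]
  rw [Finset.sum_congr rfl (g := fun u : U => if u ∈ P then (Nat.card X : ℤ) else 0) fun u _ => by
    rw [hrow u]
    split
    · next h =>
      rw [hPX, Set.mem_toFinset] at h
      rw [show D.sv u = 1 from Subtype.ext (hX u h), map_one, Units.val_one, one_mul]
    · rw [mul_zero]] at h2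
  rw [← Finset.sum_filter, Finset.sum_const, nsmul_eq_mul, hT, D.gauss hrad hidx] at h2
  nlinarith

end FormData

end H41.Shult
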