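import Cfsg.Agent.H41.Shult.Coprime
import Cfsg.Agent.H41.Shult.Forms
import Cfsg.Agent.H8.Coprime
import Cfsg.Prelude.Def_Transfer

/-!
Shult's fixed point theorem, the case where the fixed points of `σ` are not contained in the maximal
invariant subgroup `M`: the configuration, fixed elements moving an element of `U` outside `Z` into
`M`, centralisers of fixed involutions.
-/

set_option autoImplicit false
set_option linter.all false

open Subgroup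

namespace H41.Shult

variable {G : Type*} [Group G]

/-- The configuration: `σ` is coprime of prime order `r = 2 ^ m + 1`, `M` the largest invariant
proper overgroup of `U`, `K = R U` the normal subgroup of `M` containing `[M, σ]`, `S` an invariant
Sylow 2-subgroup, `Z` the fixed points of `U`. -/
structure Cfg (σ : MulAut G) (p r m : ℕ) (M K R S U Z : Subgroup G) : Prop where
  hr : r.Prime
  hrm : r = 2 ^ m + 1
  m_pos : 0 < m
  hσ : σ ^ r = 1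
  hcop : ¬ r ∣ Nat.card G
  hp : p.Prime
  hp2 : p ≠ 2
  hMtop : M ≠ ⊤
  hMinv : SInv σ M
  hMN : ∀ g : G, (∀ x ∈ M, g * x * g⁻¹ ∈ M) → g ∈ M
  hover : ∀ H : Subgroup G, SInv σ H → U ≤ H → H ≠ ⊤ → H ≤ M
  hinv1 : ∀ w : G, w * w = 1 → w ≠ 1 → centralizer ({w} : Set G) ≠ ⊤
  hS : IsSylTwo ⊤ S
  hSM : S ≤ M
  hSinv : SInv σ S
  hUS : U ≤ S
  hUinv : SInv σ U
  hUnorm : ∀ s ∈ S, ∀ u ∈ U, s * u * s⁻¹ ∈ U
  hmov : ∀ t ∈ S, t⁻¹ * σ t ∈ U
  hZU : Z ≤ U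
  fix : ∀ u ∈ U, (σ u = u ↔ u ∈ Z)
  sqZ : ∀ z ∈ Z, z * z = 1
  cen : ∀ z ∈ Z, ∀ u ∈ U, u * z = z * u
  sq : ∀ u ∈ U, u * u ∈ Z
  comm : ∀ u ∈ U, ∀ v ∈ U, u * v * u⁻¹ * v⁻¹ ∈ Z
  nab : ∀ u ∈ U, u ∉ Z → ∃ i j : ℕ, ¬ Commute ((σ ^ i) u) ((σ ^ j) u)
  hUZ : ∃ u ∈ U, u ∉ Z
  hKM : K ≤ M
  hKn : ∀ x ∈ M, ∀ k ∈ K, x * k * x⁻¹ ∈ K
  hRn : ∀ x ∈ M, ∀ k ∈ R, x * k * x⁻¹ ∈ R
  hRinv : SInv σ R
  hRK : R ≤ K
  hUK : U ≤ K
  hKdec : ∀ k ∈ K, ∃ ρ ∈ R, ∃ u ∈ U, k = ρ * u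
  hMK : ∀ x ∈ M, x⁻¹ * σ x ∈ K
  hRp : IsPGroup p R
  hstr : ∀ H : Subgroup G, SInv σ H → H ≠ ⊤ → ∃ N : Subgroup G, N ≤ H ∧ IsPGroup p N ∧
    (∀ h ∈ H, ∀ n ∈ N, h * n * h⁻¹ ∈ N) ∧
    ∀ Q : Subgroup G, SInv σ Q → IsSylTwo H Q → ∀ h ∈ H, h⁻¹ * σ h ∈ N ⊔ Q
  hOdd : ∀ N : Subgroup G, N.Normal → SInv σ N → Odd (Nat.card N) → N ≤ M
  hOp : ∀ N : Subgroup G, N.Normal → IsPGroup p N → N = ⊥
  hidx : p ∣ M.index

/-- The restriction of an automorphism to an invariant subgroup. -/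
noncomputable def restrict [Finite G] {σ : MulAut G} {U : Subgroup G} (h : SInv σ U) : MulAut U :=
  MulEquiv.ofBijective
    ({ toFun := fun u => ⟨σ u, h u u.2⟩
       map_one' := Subtype.ext (by simp)
       map_mul' := fun a b => Subtype.ext (by simp) } : U →* U)
    (Finite.injective_iff_bijective.mp fun a b e => Subtype.ext (σ.injective (congrArg Subtype.val e)))

theorem restrict_pow [Finite G] {σ : MulAut G} {U : Subgroup G} (h : SInv σ U) (n : ℕ) (u : U) :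
    (((restrict h) ^ n) u : G) = (σ ^ n) u := by
  induction n generalizing u with
  | zero => rfl
  | succ n ih =>
    rw [pow_succ, pow_succ, MulAut.mul_apply, MulAut.mul_apply, ih]
    rfl

theorem eq_one_of_two_of_p {p : ℕ} (hp : p.Prime) (hp2 : p ≠ 2) {R P : Subgroup G}
    (hR : IsPGroup p R) (hP : IsPGroup 2 P) {x : G} (hxR : x ∈ R) (hxP : x ∈ P) : x = 1 := by
  obtain ⟨a, ha⟩ := hR ⟨x, hxR⟩
  obtain ⟨b, hb⟩ := hP ⟨x, hxP⟩
  have h1 : x ^ p ^ a = 1 := by simpa using congrArg Subtype.val ha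
  have h2 : x ^ 2 ^ b = 1 := by simpa using congrArg Subtype.val hb
  rw [← orderOf_dvd_iff_pow_eq_one] at h1 h2
  exact orderOf_eq_one_iff.mp (Nat.eq_one_of_dvd_coprimes
    (Nat.Coprime.pow a b ((Nat.coprime_primes hp Nat.prime_two).mpr hp2)) h1 h2)

theorem isPGroup_zpowers_of_sq {w : G} (hw : w * w = 1) : IsPGroup 2 (zpowers w) := by
  rintro ⟨x, hx⟩
  obtain ⟨i, rfl⟩ := mem_zpowers_iff.mp hx
  refine ⟨1, Subtype.ext ?_⟩
  show (w ^ i) ^ 2 ^ 1 = 1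
  rw [pow_one, ← zpow_natCast, ← zpow_mul, mul_comm, zpow_mul, zpow_natCast, pow_two, hw, one_zpow]

theorem sInv_zpowers {σ : MulAut G} {w : G} (hw : σ w = w) : SInv σ (zpowers w) := by
  intro x hx
  obtain ⟨i, rfl⟩ := mem_zpowers_iff.mp hx
  rw [map_zpow, hw]
  exact zpow_mem_zpowers w i

namespace Cfg

variable [Finite G] {σ : MulAut G} {p r m : ℕ} {M K R S U Z : Subgroup G}
  (B : Cfg σ p r m M K R S U Z)
include B

theorem hS2 : IsPGroup 2 S := B.hS.2.1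

theorem hUM : U ≤ M := B.hUS.trans B.hSM

theorem hZM : Z ≤ M := B.hZU.trans B.hUM

theorem inv_eq {z : G} (hz : z ∈ Z) : z⁻¹ = z := inv_eq_of_mul_eq_one_right (B.sqZ z hz)

theorem fixZ {z : G} (hz : z ∈ Z) : σ z = z := (B.fix z (B.hZU hz)).mpr hz

theorem RS {x : G} (hR : x ∈ R) (hS : x ∈ S) : x = 1 :=
  eq_one_of_two_of_p B.hp B.hp2 B.hRp B.hS2 hR hS

theorem KS {k : G} (hk : k ∈ K) (hkS : k ∈ S) : k ∈ U := by
  obtain ⟨ρ, hρ, u, hu, rfl⟩ := B.hKdec k hk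
  have : ρ = 1 := B.RS hρ (by simpa [mul_assoc] using mul_mem hkS (inv_mem (B.hUS hu)))
  rw [this, one_mul]; exact hu

theorem pow_memU {u : G} (hu : u ∈ U) (i : ℕ) : (σ ^ i) u ∈ U := by
  induction i with
  | zero => exact hu
  | succ n ih => rw [pow_succ', MulAut.mul_apply]; exact B.hUinv _ ih

theorem sInv_K : SInv σ K := by
  intro k hk
  obtain ⟨ρ, hρ, u, hu, rfl⟩ := B.hKdec k hk
  rw [map_mul]
  exact mul_mem (B.hRK (B.hRinv ρ hρ)) (B.hUK (B.hUinv u hu))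

/-- The moved part of an element of `U` outside `Z` is outside `Z`. -/
theorem mov_notMem {u : G} (hu : u ∈ U) (hZ : u ∉ Z) : u⁻¹ * σ u ∈ U ∧ u⁻¹ * σ u ∉ Z := by
  refine ⟨mul_mem (inv_mem hu) (B.hUinv u hu), fun hz => hZ ?_⟩
  set z := u⁻¹ * σ u with hzd
  have hit : ∀ n : ℕ, (σ ^ n) u = u * z ^ n := by
    intro n
    induction n with
    | zero => simp
    | succ n ih =>
      rw [pow_succ', MulAut.mul_apply, ih, map_mul, map_pow, B.fixZ hz]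
      rw [show σ u = u * z by rw [hzd]; group, mul_assoc, ← pow_succ']
  have h1 : z ^ r = 1 := by
    have := hit r
    rw [B.hσ] at this
    simpa using this.symm
  have h2 : z ^ 2 = 1 := by rw [pow_two]; exact B.sqZ z hz
  have hodd : Nat.Coprime r 2 := by
    rw [B.hrm, Nat.coprime_two_right]
    exact Even.add_one ((Nat.even_pow).mpr ⟨even_two, B.m_pos.ne'⟩)
  have hz1 : z = 1 := by
    rw [← orderOf_dvd_iff_pow_eq_one] at h1 h2
    exact orderOf_eq_one_iff.mp (Nat.eq_one_of_dvd_coprimes hodd h1 h2)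
  refine (B.fix u hu).mp ?_
  rw [hzd] at hz1
  exact (inv_mul_eq_one.mp hz1).symm

theorem exists_ne : ∃ z ∈ Z, z ≠ 1 := by
  obtain ⟨u, hu, hZ⟩ := B.hUZ
  obtain ⟨i, j, hij⟩ := B.nab u hu hZ
  refine ⟨_, B.comm _ (B.pow_memU hu i) _ (B.pow_memU hu j), fun h => hij ?_⟩
  rw [mul_inv_eq_one, mul_inv_eq_iff_eq_mul] at h
  exact h

theorem two_le_card : 2 ≤ Nat.card Z := by
  obtain ⟨z, hz, hz1⟩ := B.exists_ne
  have : Nontrivial Z := ⟨⟨⟨z, hz⟩, 1, fun h => hz1 (congrArg Subtype.val h)⟩⟩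
  exact Finite.one_lt_card

/-- A fixed element carrying `U` into `M` lies in `M`. -/
theorem mem_of_conjU {g : G} (hg : σ g = g) (h : ∀ u ∈ U, g * u * g⁻¹ ∈ M) : g ∈ M := by
  set H := M.comap (MulAut.conj g).toMonoidHom with hH
  have hHinv : SInv σ H := by
    intro x hx
    show g * σ x * g⁻¹ ∈ M
    have := B.hMinv _ hx
    simp only [MulEquiv.coe_toMonoidHom, MulAut.conj_apply, map_mul, map_inv, hg] at this
    exact this
  have hHne : H ≠ ⊤ := by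
    intro e
    refine B.hMtop (eq_top_iff.mpr fun x _ => ?_)
    have : g⁻¹ * x * g ∈ H := by rw [e]; trivial
    have h2 : g * (g⁻¹ * x * g) * g⁻¹ ∈ M := this
    simpa [mul_assoc] using h2
  have hle : H ≤ M := B.hover H hHinv h hHne
  have : g⁻¹ ∈ M := B.hMN _ fun x hx => hle (by
    show g * (g⁻¹ * x * g⁻¹⁻¹) * g⁻¹ ∈ M
    simpa [mul_assoc] using hx)
  simpa using inv_mem this

/-- The centraliser of a fixed involution centralising `U` lies in `M`. -/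
theorem cent_le {w : G} (hw : σ w = w) (h2 : w * w = 1) (h1 : w ≠ 1)
    (hU : ∀ u ∈ U, w * u = u * w) : centralizer ({w} : Set G) ≤ M :=
  B.hover _ (sInv_centralizer hw)
    (fun u hu => mem_centralizer_singleton_iff.mpr (hU u hu).symm) (B.hinv1 w h2 h1)

theorem centZ_le {z : G} (hz : z ∈ Z) (hz1 : z ≠ 1) : centralizer ({z} : Set G) ≤ M :=
  B.cent_le (B.fixZ hz) (B.sqZ z hz) hz1 fun u hu => (B.cen z hz u hu).symm

theorem mem_of_ZZ {g e : G} (hg : σ g = g) (he : e ∈ Z) (he1 : e ≠ 1) (h : g * e * g⁻¹ ∈ Z) :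
    g ∈ M := by
  refine B.mem_of_conjU hg fun u hu => B.centZ_le h (fun hh => he1 ?_) ?_
  · simpa using hh
  · rw [mem_centralizer_singleton_iff]
    calc g * u * g⁻¹ * (g * e * g⁻¹) = g * (u * e) * g⁻¹ := by group
      _ = g * (e * u) * g⁻¹ := by rw [B.cen e he u hu]
      _ = g * e * g⁻¹ * (g * u * g⁻¹) := by group

theorem mem_of_ZK {g e : G} (hg : σ g = g) (he : e ∈ Z) (he1 : e ≠ 1) (h : g * e * g⁻¹ ∈ K) :
    g ∈ M := by
  obtain ⟨ρ, hρ, u, hu, heq⟩ := B.hKdec _ h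
  have hfix : σ (g * e * g⁻¹) = g * e * g⁻¹ := by simp only [map_mul, map_inv, hg, B.fixZ he]
  rw [heq, map_mul] at hfix
  have h1 : ρ⁻¹ * σ ρ = u * (σ u)⁻¹ := by
    rw [eq_mul_inv_iff_mul_eq, mul_assoc, hfix]; group
  have hone : ρ⁻¹ * σ ρ = 1 := B.RS (mul_mem (inv_mem hρ) (B.hRinv ρ hρ))
    (by rw [h1]; exact mul_mem (B.hUS hu) (inv_mem (B.hUS (B.hUinv u hu))))
  have hσρ : σ ρ = ρ := (inv_mul_eq_one.mp hone).symm
  have huZ : u ∈ Z := (B.fix u hu).mp (by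
    rw [h1] at hone
    exact (mul_inv_eq_one.mp hone).symm)
  have hsq : ρ * u * (ρ * u) = 1 := by
    rw [← heq, show g * e * g⁻¹ * (g * e * g⁻¹) = g * (e * e) * g⁻¹ by group, B.sqZ e he]
    group
  have hu1 : u ≠ 1 := by
    rintro rfl
    rw [mul_one] at hsq heq
    have : ρ = 1 := by
      obtain ⟨a, ha⟩ := B.hRp ⟨ρ, hρ⟩
      have h1 : ρ ^ p ^ a = 1 := by simpa using congrArg Subtype.val ha
      have h2 : ρ ^ 2 = 1 := by rw [pow_two]; exact hsq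
      rw [← orderOf_dvd_iff_pow_eq_one] at h1 h2
      exact orderOf_eq_one_iff.mp (Nat.eq_one_of_dvd_coprimes
        (Nat.Coprime.pow_left a ((Nat.coprime_primes B.hp Nat.prime_two).mpr B.hp2)) h1 h2)
    rw [this] at heq
    exact he1 (by simpa using heq)
  obtain ⟨ω, hω, hω2, hσω⟩ : ∃ ω, (u * ω⁻¹ = ω * u ∧ ω * ω = ρ) ∧ ω ∈ R ∧ σ ω = ω := by
    obtain ⟨a, ha⟩ := B.hRp ⟨ρ, hρ⟩
    have hpow : ρ ^ p ^ a = 1 := by simpa using congrArg Subtype.val ha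
    obtain ⟨k, hk⟩ : Odd (p ^ a) := (B.hp.odd_of_ne_two B.hp2).pow
    have hconj : u * ρ⁻¹ = ρ * u := by
      have e : u * (ρ * u * (ρ * u)) = u := by rw [hsq, mul_one]
      have hu2 : u * u = 1 := B.sqZ u huZ
      calc u * ρ⁻¹ = u * (ρ * u * (ρ * u)) * ρ⁻¹ := by rw [e]
        _ = u * ρ * u * (ρ * (u * ρ⁻¹)) := by group
        _ = ρ * u := by
          have e2 : ρ * u * ρ = u := by
            calc ρ * u * ρ = ρ * u * (ρ * u) * u⁻¹ := by group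
              _ = u⁻¹ := by rw [hsq, one_mul]
              _ = u := B.inv_eq huZ
          rw [show u * ρ * u * (ρ * (u * ρ⁻¹)) = u * (ρ * u * ρ) * u * ρ⁻¹ by group, e2,
            hu2, one_mul]
          exact eq_comm.mp (by
            calc ρ * u = ρ * u * ρ * ρ⁻¹ := by group
              _ = u * ρ⁻¹ := by rw [e2])
    refine ⟨ρ ^ (k + 1), ⟨?_, ?_⟩, pow_mem hρ _, by rw [map_pow, hσρ]⟩
    · have h' : SemiconjBy u ρ⁻¹ ρ := hconj
      have := (h'.pow_right (k + 1)).eq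
      rw [inv_pow] at this
      exact this
    · rw [← pow_add, show k + 1 + (k + 1) = p ^ a + 1 by omega, pow_succ, hpow, one_mul]
  have hkey : ω * u * ω⁻¹ = g * e * g⁻¹ := by
    rw [heq, mul_assoc, hω.1, ← mul_assoc, hω.2]
  have : ω⁻¹ * g ∈ M := by
    refine B.mem_of_ZZ (by rw [map_mul, map_inv, hσω, hg]) he he1 ?_
    rw [show ω⁻¹ * g * e * (ω⁻¹ * g)⁻¹ = ω⁻¹ * (g * e * g⁻¹) * ω by group, ← hkey]
    simpa [mul_assoc] using huZ
  simpa using mul_mem (B.hKM (B.hRK hω2)) this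

/-- A fixed element carrying some element of `U` outside `Z` into `M` lies in `M`. -/
theorem mem_of_moved {g v : G} (hg : σ g = g) (hv : v ∈ U) (hvZ : v ∉ Z) (h : g * v * g⁻¹ ∈ M) :
    g ∈ M := by
  have hK : ∀ x : G, g * x * g⁻¹ ∈ M → g * (x⁻¹ * σ x) * g⁻¹ ∈ K := by
    intro x hx
    have := B.hMK _ hx
    rw [map_mul, map_mul, map_inv, hg] at this
    rwa [show g * (x⁻¹ * σ x) * g⁻¹ = (g * x * g⁻¹)⁻¹ * (g * σ x * g⁻¹) by group]
  obtain ⟨hw, hwZ⟩ := B.mov_notMem hv hvZ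
  have hwK := hK v h
  set w := v⁻¹ * σ v
  obtain ⟨i, j, hij⟩ := B.nab w hw hwZ
  have hpow : ∀ n : ℕ, g * (σ ^ n) w * g⁻¹ ∈ K := by
    intro n
    induction n with
    | zero => exact hwK
    | succ n ih =>
      have := B.sInv_K _ ih
      rw [map_mul, map_mul, map_inv, hg] at this
      rwa [pow_succ', MulAut.mul_apply]
  refine B.mem_of_ZK hg (B.comm _ (B.pow_memU hw i) _ (B.pow_memU hw j)) (fun hh => hij ?_) ?_
  · rw [mul_inv_eq_one, mul_inv_eq_iff_eq_mul] at hh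
    exact hh
  · have := mul_mem (mul_mem (mul_mem (hpow i) (hpow j)) (inv_mem (hpow i))) (inv_mem (hpow j))
    convert this using 1
    group

/-- A fixed involution of `S` commutes with an element of `U` outside `Z`. -/
theorem exists_comm {x : G} (hx : x ∈ S) (hσx : σ x = x) (hx2 : x * x = 1) :
    ∃ v ∈ U, v ∉ Z ∧ x * v = v * x := by
  have hxi : x⁻¹ = x := inv_eq_of_mul_eq_one_right hx2
  obtain ⟨v, hv, hvZ, hc⟩ : ∃ v ∈ U, v ∉ Z ∧ x * v * x⁻¹ * v⁻¹ ∈ Z := by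
    obtain ⟨u, hu, huZ⟩ := B.hUZ
    by_cases h : x * u * x⁻¹ * u⁻¹ ∈ Z
    · exact ⟨u, hu, huZ, h⟩
    · have hu' := B.hUnorm x hx u hu
      refine ⟨u * (x * u * x⁻¹), mul_mem hu hu', fun hvZ => h ?_, ?_⟩
      · have e : x * u * x⁻¹ * u⁻¹ = u⁻¹ * (u * (x * u * x⁻¹)) * u * (u * u)⁻¹ := by group
        rw [e]
        refine mul_mem ?_ (inv_mem (B.sq u hu))
        rw [mul_assoc, ← B.cen _ hvZ u hu, inv_mul_cancel_left]
        exact hvZ
      · have hxx : x * (x * u * x⁻¹) * x⁻¹ = u := by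
          rw [hxi, show x * (x * u * x) * x = x * x * u * (x * x) by group, hx2]
          group
        rw [show x * (u * (x * u * x⁻¹)) * x⁻¹ = x * u * x⁻¹ * (x * (x * u * x⁻¹) * x⁻¹) by group,
          hxx, show x * u * x⁻¹ * u * (u * (x * u * x⁻¹))⁻¹
            = x * u * x⁻¹ * u * (x * u * x⁻¹)⁻¹ * u⁻¹ by group]
        exact B.comm _ hu' _ hu
  refine ⟨v⁻¹ * σ v, (B.mov_notMem hv hvZ).1, (B.mov_notMem hv hvZ).2, ?_⟩
  set z := x * v * x⁻¹ * v⁻¹ with hz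
  have e1 : x * v = z * v * x := by rw [hz]; group
  have e2 : x * σ v = z * σ v * x := by
    have := congrArg σ e1
    rwa [map_mul, map_mul, map_mul, hσx, B.fixZ hc] at this
  have e3 : x * v⁻¹ = v⁻¹ * (z⁻¹ * x) := by
    calc x * v⁻¹ = v⁻¹ * z⁻¹ * (z * v * x) * v⁻¹ := by group
      _ = v⁻¹ * z⁻¹ * (x * v) * v⁻¹ := by rw [e1]
      _ = v⁻¹ * (z⁻¹ * x) := by group
  calc x * (v⁻¹ * σ v) = x * v⁻¹ * σ v := by group
    _ = v⁻¹ * z⁻¹ * (x * σ v) := by rw [e3]; group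
    _ = v⁻¹ * σ v * x := by rw [e2]; group

theorem sylM : IsSylTwo M S := by
  haveI : Fact (Nat.Prime 2) := ⟨Nat.prime_two⟩
  refine ⟨B.hSM, B.hS2, fun T hT hT2 => ?_⟩
  obtain ⟨P1, hP1⟩ := (B.hS2.of_equiv (subgroupOfEquivOfLe B.hSM).symm).exists_le_sylow
  obtain ⟨P2, hP2⟩ := (hT2.of_equiv (subgroupOfEquivOfLe hT).symm).exists_le_sylow
  obtain ⟨h, hh⟩ := MulAction.exists_smul_eq M P2 P1
  have hPS : (P1 : Subgroup M).map M.subtype = S := by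
    have hle : S ≤ (P1 : Subgroup M).map M.subtype := fun s hs => ⟨⟨s, B.hSM hs⟩, hP1 hs, rfl⟩
    refine (eq_of_le_of_card_ge hle ?_).symm
    exact B.hS.card_le le_top (P1.2.map _)
  refine ⟨h, h.2, fun t ht => ?_⟩
  rw [← hPS]
  refine ⟨h * ⟨t, hT ht⟩ * h⁻¹, ?_, rfl⟩
  rw [← hh]
  exact ⟨⟨t, hT ht⟩, hP2 ht, rfl⟩

/-- Invariant 2-subgroups of `M` are conjugate into `S` by fixed elements of `M`. -/
theorem conj_into_S {T : Subgroup G} (hT : SInv σ T) (hTM : T ≤ M) (hT2 : IsPGroup 2 T) :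
    ∃ m' ∈ M, σ m' = m' ∧ ∀ t ∈ T, m' * t * m'⁻¹ ∈ S := by
  obtain ⟨P, hPi, hTP, hP⟩ := exists_inv_syl_ge B.hr B.hσ B.hcop B.hMinv hT hTM hT2
  obtain ⟨h, hh, hc⟩ := B.sylM.2.2 P hP.1 hP.2.1
  obtain ⟨c, hc1, hc2, hc3⟩ := exists_fixed_conj B.hr B.hσ B.hcop B.hMinv hPi B.hSinv
    (le_antisymm (B.sylM.card_le hP.1 hP.2.1) (hP.card_le B.hSM B.hS2)) hh hc
  exact ⟨c, hc1, hc2, fun t ht => hc3 t (hTP ht)⟩

theorem invol_into_S {w : G} (hw : σ w = w) (hwM : w ∈ M) (hw2 : w * w = 1) :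
    ∃ m' ∈ M, σ m' = m' ∧ m' * w * m'⁻¹ ∈ S := by
  obtain ⟨m', h1, h2, h3⟩ :=
    B.conj_into_S (sInv_zpowers hw) (zpowers_le.mpr hwM) (isPGroup_zpowers_of_sq hw2)
  exact ⟨m', h1, h2, h3 w (mem_zpowers w)⟩

/-- A fixed element carrying an involution of `Z` into `M` lies in `M`. -/
theorem mem_of_fixed {g e : G} (hg : σ g = g) (he : e ∈ Z) (he1 : e ≠ 1) (h : g * e * g⁻¹ ∈ M) :
    g ∈ M := by
  have hfix : σ (g * e * g⁻¹) = g * e * g⁻¹ := by simp only [map_mul, map_inv, hg, B.fixZ he]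
  have h2 : g * e * g⁻¹ * (g * e * g⁻¹) = 1 := by
    rw [show g * e * g⁻¹ * (g * e * g⁻¹) = g * (e * e) * g⁻¹ by group, B.sqZ e he]; group
  obtain ⟨m', hm, hσm, hmS⟩ := B.invol_into_S hfix h h2
  set x := m' * (g * e * g⁻¹) * m'⁻¹ with hx
  set k := m' * g with hk
  have hσk : σ k = k := by rw [hk, map_mul, hσm, hg]
  have hσx : σ x = x := by rw [hx, map_mul, map_mul, map_inv, hσm, hfix]
  have hx2 : x * x = 1 := by
    rw [hx, show m' * (g * e * g⁻¹) * m'⁻¹ * (m' * (g * e * g⁻¹) * m'⁻¹)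
      = m' * (g * e * g⁻¹ * (g * e * g⁻¹)) * m'⁻¹ by group, h2]
    group
  obtain ⟨v, hv, hvZ, hc⟩ := B.exists_comm hmS hσx hx2
  have hkv : k⁻¹ * v * k⁻¹⁻¹ ∈ M := by
    refine B.centZ_le he he1 (mem_centralizer_singleton_iff.mpr ?_)
    have ex : x = k * e * k⁻¹ := by rw [hx, hk]; group
    calc k⁻¹ * v * k⁻¹⁻¹ * e = k⁻¹ * (v * x) * k := by rw [ex]; group
      _ = k⁻¹ * (x * v) * k := by rw [hc]
      _ = e * (k⁻¹ * v * k⁻¹⁻¹) := by rw [ex]; group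
  have hkM : k⁻¹ ∈ M := B.mem_of_moved (by rw [map_inv, hσk]) hv hvZ hkv
  have : k ∈ M := by simpa using inv_mem hkM
  simpa [hk] using mul_mem (inv_mem hm) this

/-- The centraliser of a fixed involution of `S` centralising four elements of `Z` lies in `M`. -/
theorem cent_le_of_four {x : G} (hx : x ∈ S) (hσx : σ x = x) (hx2 : x * x = 1) (hx1 : x ≠ 1)
    (h4 : 4 ≤ Nat.card ↥(Z ⊓ centralizer ({x} : Set G))) : centralizer ({x} : Set G) ≤ M := by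
  haveI : Fact (Nat.Prime 2) := ⟨Nat.prime_two⟩
  haveI := Fact.mk B.hp
  set H := centralizer ({x} : Set G) with hH
  have hHinv : SInv σ H := sInv_centralizer hσx
  obtain ⟨N, hNH, hN, hNn, hdec⟩ := B.hstr H hHinv (B.hinv1 x hx2 hx1)
  have hNM : N ≤ M := by
    refine H8.generation_elements (p := 2) (A := Z ⊓ H) (K := N) ⟨⟨⟨fun a b => ?_⟩⟩, ?_⟩ (by omega)
      ?_ ?_ ?_
    · exact Subtype.ext (B.cen _ b.2.1 _ (B.hZU a.2.1))
    · intro a ha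
      rw [pow_two]; exact B.sqZ a ha.1
    · intro a ha
      refine mem_normalizer_iff.mpr fun n => ⟨fun hn => hNn a ha.2 n hn, fun hn => ?_⟩
      have := hNn a⁻¹ (inv_mem ha.2) _ hn
      simpa [mul_assoc] using this
    · intro hd
      obtain ⟨k, hk⟩ := hN.exists_card_eq
      rw [hk] at hd
      exact B.hp2 ((Nat.prime_dvd_prime_iff_eq Nat.prime_two B.hp).mp
        (Nat.prime_two.dvd_of_dvd_pow hd)).symm
    · intro a ha ha1
      exact inf_le_right.trans (B.centZ_le ha.1 ha1)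
  obtain ⟨v, hv, hvZ, hc⟩ := B.exists_comm hx hσx hx2
  have hvH : v ∈ H := mem_centralizer_singleton_iff.mpr hc.symm
  obtain ⟨Q, hQi, hQle, hQ⟩ := exists_inv_syl_ge B.hr B.hσ B.hcop hHinv (B.hUinv.inf hHinv)
    inf_le_right (B.hS2.to_le (inf_le_left.trans B.hUS))
  obtain ⟨P, hPi, hQP, hP⟩ := exists_inv_syl_ge B.hr B.hσ B.hcop
    (H := ⊤) (fun _ _ => trivial) hQi le_top hQ.2.1
  obtain ⟨h, hh, hhc⟩ := B.hS.2.2 P le_top hP.2.1
  obtain ⟨c, -, hσc, hcS⟩ := exists_fixed_conj B.hr B.hσ B.hcop (H := ⊤) (fun _ _ => trivial)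
    hPi B.hSinv (le_antisymm (B.hS.card_le le_top hP.2.1) (hP.card_le le_top B.hS2)) hh hhc
  have hcM : c ∈ M := B.mem_of_moved hσc hv hvZ (B.hSM (hcS v (hQP (hQle ⟨hv, hvH⟩))))
  have hQM : Q ≤ M := fun q hq => by
    have := mul_mem (mul_mem (inv_mem hcM) (B.hSM (hcS q (hQP hq)))) hcM
    simpa [mul_assoc] using this
  have hNQ : N ⊔ Q ≤ M := sup_le hNM hQM
  have hfixM : ∀ l ∈ H, σ l = l → l ∈ M := by
    intro l hl hσl
    obtain ⟨hw, hwZ⟩ := B.mov_notMem hv hvZ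
    refine B.mem_of_moved hσl hw hwZ ?_
    have := hNQ (hdec Q hQi hQ (l * v * l⁻¹) (mul_mem (mul_mem hl hvH) (inv_mem hl)))
    rw [map_mul, map_mul, map_inv, hσl] at this
    convert this using 1
    group
  intro g hg
  obtain ⟨n, hn, hfix⟩ := exists_fixed_coset B.hr B.hσ B.hcop (B.hMinv.inf hHinv) (g := g)
    ⟨hNQ (hdec Q hQi hQ g hg), mul_mem (H.inv_mem hg) (hHinv g hg)⟩
  simpa using mul_mem (hfixM _ (mul_mem hg hn.2) hfix) (inv_mem hn.1)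

end Cfg

end H41.Shult
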