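import Cfsg.Agent.H41.Shult.BigBasic

/-!
Shult's fixed point theorem, fixed points outside `M`: fusion in `Z` under fixed elements, the
centralised quotient `U / Z`, and closure of `Z`.
-/

set_option autoImplicit false
set_option linter.all false

open Subgroup

namespace H41.Shult

variable {G : Type*} [Group G] [Finite G]

namespace Cfg

variable {σ : MulAut G} {p r m : ℕ} {M K R S U Z : Subgroup G} (B : Cfg σ p r m M K R S U Z)
include B

theorem two_step {x : G} (hx : x * x = 1) : x⁻¹ = x := inv_eq_of_mul_eq_one_right hx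

theorem forms : FormData (Z.subgroupOf U) (restrict B.hUinv) r m where
  hr := B.hr
  hrm := B.hrm
  m_pos := B.m_pos
  hσ := MulEquiv.ext fun u => Subtype.ext (by rw [restrict_pow, B.hσ]; rfl)
  sqZ := fun z hz => Subtype.ext (B.sqZ _ hz)
  cen := fun z hz u => Subtype.ext (B.cen _ hz _ u.2)
  sq := fun u => B.sq _ u.2
  comm := fun u v => B.comm _ u.2 _ v.2
  fix := fun u => Subtype.ext_iff.trans (B.fix _ u.2)

omit B in
/-- The blocks separate `U` over `Z`. -/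
def Separated (B : Cfg σ p r m M K R S U Z) : Prop :=
  ∀ u : U, (u : G) ∉ Z →
    ∃ ε : (Z.subgroupOf U) →* ℤˣ, B.forms.Blk ε ∧ u ∉ B.forms.rad ε

omit B in
/-- Every nontrivial character gives one block, with radical `Z`. -/
def Irr (B : Cfg σ p r m M K R S U Z) : Prop :=
  ∀ ε : (Z.subgroupOf U) →* ℤˣ, ε ≠ 1 → B.forms.rad ε = Z.subgroupOf U ∧ B.forms.Blk ε

omit B in
/-- `b` is the image of `a` under a fixed element of `M` normalising `U`. -/
def Rel (_B : Cfg σ p r m M K R S U Z) (a b : G) : Prop :=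
  ∃ n ∈ M, σ n = n ∧ (∀ u ∈ U, n * u * n⁻¹ ∈ U) ∧ n * a * n⁻¹ = b

theorem rel_trans {a b c : G} (h : B.Rel a b) (h' : B.Rel b c) : B.Rel a c := by
  obtain ⟨n, hn, hσn, hnU, rfl⟩ := h
  obtain ⟨k, hk, hσk, hkU, rfl⟩ := h'
  refine ⟨k * n, mul_mem hk hn, by rw [map_mul, hσk, hσn], fun u hu => ?_, by group⟩
  have := hkU _ (hnU u hu)
  simpa [mul_assoc] using this

theorem rel_symm {a b : G} (h : B.Rel a b) : B.Rel b a := by
  obtain ⟨n, hn, hσn, hnU, rfl⟩ := h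
  refine ⟨n⁻¹, inv_mem hn, by rw [map_inv, hσn], fun u hu => ?_, by group⟩
  obtain ⟨⟨x, hx⟩, he⟩ := (Finite.injective_iff_surjective
    (f := fun x : U => (⟨n * x * n⁻¹, hnU x x.2⟩ : U))).mp
    (fun a b e => Subtype.ext (by simpa using congrArg Subtype.val e)) ⟨u, hu⟩
  have he' : n * x * n⁻¹ = u := congrArg Subtype.val he
  rw [← he', show n⁻¹ * (n * x * n⁻¹) * n⁻¹⁻¹ = x by group]
  exact hx

theorem fixed_conj_mem {n z : G} (hn : σ n = n) (hz : z ∈ Z) (h : n * z * n⁻¹ ∈ U) :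
    n * z * n⁻¹ ∈ Z :=
  (B.fix _ h).mp (by simp only [map_mul, map_inv, hn, B.fixZ hz])

/-- Fixed elements of `M` can be corrected to normalise `U`. -/
theorem exists_normalising {n : G} (hn : n ∈ M) (hσn : σ n = n) :
    ∃ c ∈ K, σ c = c ∧ ∀ u ∈ U, c * n * u * (c * n)⁻¹ ∈ U := by
  haveI : Fact (Nat.Prime 2) := ⟨Nat.prime_two⟩
  set P := U.map (MulAut.conj n).toMonoidHom with hP
  have hPinv : SInv σ P := by
    rintro _ ⟨u, hu, rfl⟩
    exact ⟨σ u, B.hUinv u hu, by simp [hσn]⟩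
  have hPK : P ≤ K := by
    rintro _ ⟨u, hu, rfl⟩
    exact B.hKn n hn u (B.hUK hu)
  have hP2 : IsPGroup 2 P := (B.hS2.to_le B.hUS).map _
  have hU : IsSylTwo K U := by
    refine ⟨B.hUK, B.hS2.to_le B.hUS, fun T hT hT2 => ?_⟩
    obtain ⟨h, hh, hc⟩ := B.sylM.2.2 T (hT.trans B.hKM) hT2
    haveI hKnor : (K.subgroupOf M).Normal :=
      ⟨fun x hx g => B.hKn g g.2 x hx⟩
    obtain ⟨Q, hQi, hTQ, hQ⟩ := exists_inv_syl_ge B.hr B.hσ B.hcop B.sInv_K B.hUinv B.hUK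
      (B.hS2.to_le B.hUS)
    have hQU : Q = U := by
      refine le_antisymm (fun q hq => ?_) hTQ
      obtain ⟨k, hk, hσk, hkS⟩ := B.conj_into_S hQi (hQ.1.trans B.hKM) hQ.2.1
      have hcard : Nat.card Q ≤ Nat.card U := Nat.card_le_card_of_injective
        (fun q : Q => (⟨k * q * k⁻¹, B.KS (B.hKn k hk _ (hQ.1 q.2)) (hkS q q.2)⟩ : U))
        fun a b e => Subtype.ext (by simpa using congrArg Subtype.val e)
      rw [eq_of_le_of_card_ge hTQ hcard]
      exact hq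
    rw [← hQU]
    exact hQ.2.2 T hT hT2
  have hcard : Nat.card P = Nat.card U := card_map_of_injective (MulAut.conj n).injective
  obtain ⟨k, hk, hc⟩ := hU.2.2 P hPK hP2
  obtain ⟨c, hcK, hσc, hcU⟩ :=
    exists_fixed_conj B.hr B.hσ B.hcop B.sInv_K hPinv B.hUinv hcard hk hc
  refine ⟨c, hcK, hσc, fun u hu => ?_⟩
  have := hcU _ ⟨u, hu, rfl⟩
  simpa [mul_assoc] using this

theorem fixed_K_conj {c z : G} (hc : c ∈ K) (hσc : σ c = c) (hz : z ∈ Z)
    (h : c * z * c⁻¹ ∈ U) : c * z * c⁻¹ = z := by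
  obtain ⟨ρ, hρ, u, hu, rfl⟩ := B.hKdec c hc
  have e : ρ * u * z * (ρ * u)⁻¹ * z⁻¹ = ρ * (z * ρ⁻¹ * z⁻¹) := by
    rw [show ρ * u * z * (ρ * u)⁻¹ * z⁻¹ = ρ * (u * z) * u⁻¹ * ρ⁻¹ * z⁻¹ by group, B.cen z hz u hu]
    group
  have : ρ * u * z * (ρ * u)⁻¹ * z⁻¹ = 1 := B.RS
    (by rw [e]; exact mul_mem hρ (B.hRn z (B.hZM hz) _ (inv_mem hρ)))
    (mul_mem (B.hUS h) (inv_mem (B.hUS (B.hZU hz))))
  exact mul_inv_eq_one.mp this

theorem rel_of_conj {n a b : G} (hn : n ∈ M) (hσn : σ n = n) (ha : a ∈ Z) (hb : b ∈ Z)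
    (h : n * a * n⁻¹ = b) : B.Rel a b := by
  obtain ⟨c, hc, hσc, hcU⟩ := B.exists_normalising hn hσn
  refine ⟨c * n, mul_mem (B.hKM hc) hn, by rw [map_mul, hσc, hσn], hcU, ?_⟩
  have h' := hcU a (B.hZU ha)
  have e : c * n * a * (c * n)⁻¹ = c * b * c⁻¹ := by rw [← h]; group
  rw [e] at h' ⊢
  exact B.fixed_K_conj hc hσc hb h'

/-- Conjugate or a central involution of the dihedral group. -/
theorem fuse {h a b : G} (hh : σ h = h) (hhM : h ∉ M) (ha : a ∈ Z) (ha1 : a ≠ 1) (hb : b ∈ M)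
    (hσb : σ b = b) (hb2 : b * b = 1) (hbC : centralizer ({b} : Set G) ≤ M)
    (hgood : ∀ w ∈ M, σ w = w → w * w = 1 → w ≠ 1 → w * b = b * w →
      centralizer ({w} : Set G) ≤ M) :
    ∃ n ∈ M, σ n = n ∧ n * a * n⁻¹ = b := by
  obtain ⟨a', ha'⟩ : ∃ y, y = h * a * h⁻¹ := ⟨_, rfl⟩
  have hσa : σ a' = a' := by rw [ha']; simp only [map_mul, map_inv, hh, B.fixZ ha]
  have ha2 : a' * a' = 1 := by
    rw [ha', show h * a * h⁻¹ * (h * a * h⁻¹) = h * (a * a) * h⁻¹ by group, B.sqZ a ha]; group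
  obtain ⟨t, ht⟩ : ∃ y, y = a' * b := ⟨_, rfl⟩
  have hσt : σ t = t := by rw [ht, map_mul, hσa, hσb]
  have hai : a'⁻¹ = a' := B.two_step ha2
  have hinv : a' * t * a'⁻¹ = t⁻¹ := by
    rw [ht, mul_inv_rev, B.two_step hb2, hai, show a' * (a' * b) * a' = a' * a' * b * a' by group,
      ha2, one_mul]
  have hbt : b = a' * t := by rw [ht, ← mul_assoc, ha2, one_mul]
  have hpow : ∀ k : ℕ, a' * t ^ k * a'⁻¹ = (t ^ k)⁻¹ := by
    intro k
    rw [← conj_pow, hinv, inv_pow]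
  rcases Nat.even_or_odd (orderOf t) with ⟨l, hl⟩ | ⟨l, hl⟩
  · exfalso
    obtain ⟨w, hw⟩ : ∃ y, y = t ^ l := ⟨_, rfl⟩
    have hw2 : w * w = 1 := by rw [hw, ← pow_add, ← hl, pow_orderOf_eq_one]
    have hw1 : w ≠ 1 := by
      rw [hw]
      refine pow_ne_one_of_lt_orderOf ?_ ?_
      · rintro rfl
        simp [orderOf_eq_zero_iff] at hl
        exact hl (isOfFinOrder_of_finite t)
      · have : 0 < orderOf t := orderOf_pos t
        omega
    have hwa : w * a' = a' * w := by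
      have := hpow l
      rw [← hw, B.two_step hw2, mul_inv_eq_iff_eq_mul] at this
      exact this.symm
    have hwb : w * b = b * w := by
      have h1 : w * t = t * w := by rw [hw, ← pow_succ, ← pow_succ']
      rw [hbt, ← mul_assoc, hwa, mul_assoc, h1, mul_assoc]
    have hwM : w ∈ M := hbC (mem_centralizer_singleton_iff.mpr hwb)
    have hσw : σ w = w := by rw [hw, map_pow, hσt]
    have ha'M : a' ∈ M := hgood w hwM hσw hw2 hw1 hwb (mem_centralizer_singleton_iff.mpr hwa.symm)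
    exact hhM (B.mem_of_fixed hh ha ha1 (ha' ▸ ha'M))
  · obtain ⟨c, hc⟩ : ∃ y, y = t ^ (l + 1) := ⟨_, rfl⟩
    have e : c⁻¹ * a' * c = b := by
      rw [show c⁻¹ * a' * c = a' * (a'⁻¹ * c⁻¹ * a') * c by group, hai]
      have h1 : a' * c⁻¹ * a' = c := by
        have := congrArg (fun x => x⁻¹) (hpow (l + 1))
        simp only [mul_inv_rev, inv_inv, ← hc, hai] at this
        rw [← mul_assoc] at this
        exact this
      rw [h1, hbt, mul_assoc, hc, ← pow_add, show l + 1 + (l + 1) = orderOf t + 1 by omega,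
        pow_succ, pow_orderOf_eq_one, one_mul]
    have hσn : σ (c⁻¹ * h) = c⁻¹ * h := by rw [map_mul, map_inv, hc, map_pow, hσt, hh]
    have e' : c⁻¹ * h * a * (c⁻¹ * h)⁻¹ = b := by rw [← e, ha']; group
    exact ⟨c⁻¹ * h, B.mem_of_fixed hσn ha ha1 (e' ▸ hb), hσn, e'⟩

theorem rel_or_swap {h a b : G} (hh : σ h = h) (hhM : h ∉ M) (ha : a ∈ Z) (ha1 : a ≠ 1)
    (hb : b ∈ Z) (hb1 : b ≠ 1) :
    B.Rel a b ∨ ∃ b', b' ∈ Z ∧ b' ≠ 1 ∧ B.Rel b b' ∧
      ∀ e ∈ Z, e ≠ 1 → e ≠ b' → B.Rel e (e * b') := by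
  by_cases hgood : ∀ w ∈ M, σ w = w → w * w = 1 → w ≠ 1 → w * b = b * w →
      centralizer ({w} : Set G) ≤ M
  · obtain ⟨n, hn, hσn, he⟩ :=
      B.fuse hh hhM ha ha1 (B.hZM hb) (B.fixZ hb) (B.sqZ b hb) (B.centZ_le hb hb1) hgood
    exact Or.inl (B.rel_of_conj hn hσn ha hb he)
  right
  push_neg at hgood
  obtain ⟨w, hwM, hσw, hw2, hw1, hwb, hbad⟩ := hgood
  have hbi := B.inv_eq hb
  let T : Subgroup G :=
    { carrier := {x | x = 1 ∨ x = w ∨ x = b ∨ x = w * b}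
      one_mem' := Or.inl rfl
      mul_mem' := by
        have a1 : ∀ x, w * (w * x) = x := fun x => by rw [← mul_assoc, hw2, one_mul]
        have a2 : ∀ x, b * (b * x) = x := fun x => by rw [← mul_assoc, B.sqZ b hb, one_mul]
        have a3 : ∀ x, b * (w * x) = w * (b * x) := fun x => by rw [← mul_assoc, ← hwb, mul_assoc]
        intro x y hx hy
        rcases hx with hx | hx | hx | hx <;> rcases hy with hy | hy | hy | hy <;>
          simp [hx, hy, Set.mem_setOf_eq, mul_assoc, hw2, B.sqZ b hb, ← hwb, a1, a2, a3]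
      inv_mem' := by
        intro x hx
        rcases hx with hx | hx | hx | hx <;>
          simp [hx, Set.mem_setOf_eq, B.two_step hw2, hbi, ← hwb] }
  have hTinv : SInv σ T := by
    intro x hx
    rcases hx with hx | hx | hx | hx
    · rw [hx, map_one]; exact one_mem T
    · rw [hx, hσw]; exact Or.inr (Or.inl rfl)
    · rw [hx, B.fixZ hb]; exact Or.inr (Or.inr (Or.inl rfl))
    · rw [hx, map_mul, hσw, B.fixZ hb]; exact Or.inr (Or.inr (Or.inr rfl))
  have hT2 : IsPGroup 2 T := by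
    rintro ⟨x, hx⟩
    refine ⟨1, Subtype.ext ?_⟩
    show x ^ 2 ^ 1 = 1
    rw [pow_one, pow_two]
    rcases hx with hx | hx | hx | hx <;> rw [hx]
    · simp
    · exact hw2
    · exact B.sqZ _ hb
    · rw [mul_assoc, ← mul_assoc b, ← hwb, mul_assoc w b, B.sqZ b hb, mul_one, hw2]
  have hTM : T ≤ M := by
    intro x hx
    rcases hx with hx | hx | hx | hx <;> rw [hx]
    exacts [one_mem _, hwM, B.hZM hb, mul_mem hwM (B.hZM hb)]
  obtain ⟨n, hn, hσn, hnS⟩ := B.conj_into_S hTinv hTM hT2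
  obtain ⟨x, hx⟩ : ∃ y, y = n * w * n⁻¹ := ⟨_, rfl⟩
  obtain ⟨b', hb'⟩ : ∃ y, y = n * b * n⁻¹ := ⟨_, rfl⟩
  have hxS : x ∈ S := hx ▸ hnS w (Or.inr (Or.inl rfl))
  have hb'Z : b' ∈ Z := hb' ▸ B.fixed_conj_mem hσn hb
    (B.KS (B.hKn n hn b (B.hUK (B.hZU hb))) (hnS b (Or.inr (Or.inr (Or.inl rfl)))))
  have hb'1 : b' ≠ 1 := fun h => hb1 (by simpa [hb'] using h)
  have hσx : σ x = x := by rw [hx, map_mul, map_mul, map_inv, hσn, hσw]
  have hx2 : x * x = 1 := by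
    rw [hx, show n * w * n⁻¹ * (n * w * n⁻¹) = n * (w * w) * n⁻¹ by group, hw2]; group
  have hx1 : x ≠ 1 := fun h => hw1 (by simpa [hx] using h)
  have hxb : x * b' = b' * x := by
    rw [hx, hb', show n * w * n⁻¹ * (n * b * n⁻¹) = n * (w * b) * n⁻¹ by group, hwb]; group
  refine ⟨b', hb'Z, hb'1, B.rel_of_conj hn hσn hb hb'Z hb'.symm, fun e he he1 heb => ?_⟩
  set C := Z ⊓ centralizer ({x} : Set G) with hC
  have hC4 : Nat.card C < 4 := by
    by_contra hbig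
    push Not at hbig
    refine hbad fun y hy => ?_
    rw [mem_centralizer_singleton_iff] at hy
    have h1 := B.cent_le_of_four hxS hσx hx2 hx1 hbig (mem_centralizer_singleton_iff.mpr
      (show n * y * n⁻¹ * x = x * (n * y * n⁻¹) by
        rw [hx, show n * y * n⁻¹ * (n * w * n⁻¹) = n * (y * w) * n⁻¹ by group, hy]; group))
    simpa [mul_assoc] using mul_mem (mul_mem (inv_mem hn) h1) hn
  have hsmall : ∀ y ∈ C, y = 1 ∨ y = b' := by
    intro y hy
    by_contra hne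
    push Not at hne
    have hb'C : b' ∈ C := ⟨hb'Z, mem_centralizer_singleton_iff.mpr hxb.symm⟩
    have n1 : b' * y ≠ 1 := fun h => hne.2 (by
      rw [← inv_eq_of_mul_eq_one_right h, B.inv_eq hb'Z])
    have n2 : b' * y ≠ b' := fun h => hne.1 (by simpa using h)
    have n3 : b' * y ≠ y := fun h => hb'1 (by simpa using h)
    classical
    have hcard : ({1, b', y, b' * y} : Finset G).card = 4 := by
      rw [Finset.card_insert_of_notMem, Finset.card_insert_of_notMem, Finset.card_pair n3.symm]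
      · simp only [Finset.mem_insert, Finset.mem_singleton, not_or]
        exact ⟨hne.2.symm, n2.symm⟩
      · simp only [Finset.mem_insert, Finset.mem_singleton, not_or]
        exact ⟨hb'1.symm, hne.1.symm, n1.symm⟩
    have hle := Nat.card_le_card_of_injective
      (fun q : ({1, b', y, b' * y} : Finset G) => (⟨q, by
        have := q.2
        simp only [Finset.mem_insert, Finset.mem_singleton] at this
        rcases this with h | h | h | h <;> rw [h]
        exacts [one_mem _, hb'C, hy, mul_mem hb'C hy]⟩ : C))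
      fun a b e => Subtype.ext (congrArg (fun t : C => (t : G)) e)
    rw [Nat.card_eq_fintype_card (α := ({1, b', y, b' * y} : Finset G)), Fintype.card_coe,
      hcard] at hle
    omega
  have hxU := B.hUnorm x hxS
  have hex : x * e * x⁻¹ ∈ Z := B.fixed_conj_mem hσx he (hxU e (B.hZU he))
  obtain ⟨f, hf⟩ : ∃ y, y = x * e * x⁻¹ := ⟨_, rfl⟩
  rw [← hf] at hex
  have hef : e * f ∈ C := by
    refine ⟨mul_mem he hex, mem_centralizer_singleton_iff.mpr ?_⟩
    have hfx : f * x = x * e := by rw [hf]; group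
    have hex' : e * x = x * f := by
      rw [hf, B.two_step hx2, show x * (x * e * x) = x * x * e * x by group, hx2, one_mul]
    calc e * f * x = e * x * e := by rw [mul_assoc, hfx, mul_assoc]
      _ = x * (f * e) := by rw [hex', mul_assoc]
      _ = x * (e * f) := by rw [B.cen e he f (B.hZU hex)]
  refine ⟨x, B.hSM hxS, hσx, hxU, ?_⟩
  rcases hsmall _ hef with h1 | h1
  · exfalso
    have hfe : f = e := by rw [← inv_eq_of_mul_eq_one_right h1, B.inv_eq he]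
    refine (hsmall e ⟨he, mem_centralizer_singleton_iff.mpr ?_⟩).elim he1 heb
    have hfx : f * x = x * e := by rw [hf]; group
    rw [hfe] at hfx
    exact hfx
  · show x * e * x⁻¹ = e * b'
    rw [← hf, ← h1, ← mul_assoc, B.sqZ e he, one_mul]

theorem transitive {h a b : G} (hh : σ h = h) (hhM : h ∉ M) (ha : a ∈ Z) (ha1 : a ≠ 1)
    (hb : b ∈ Z) (hb1 : b ≠ 1) : B.Rel a b := by
  rcases B.rel_or_swap hh hhM ha ha1 hb hb1 with h1 | ⟨b', hb', hb'1, hbb, hsw⟩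
  · exact h1
  rcases B.rel_or_swap hh hhM hb hb1 ha ha1 with h2 | ⟨a', ha', ha'1, haa, hsw'⟩
  · exact B.rel_symm h2
  by_cases heq : a' = b'
  · subst heq
    exact B.rel_trans haa (B.rel_symm hbb)
  have h1 := hsw a' ha' ha'1 heq
  have h2 := hsw' b' hb' hb'1 (Ne.symm heq)
  rw [← B.cen b' hb' a' (B.hZU ha')] at h2
  exact B.rel_trans haa (B.rel_trans h1 (B.rel_trans (B.rel_symm h2) (B.rel_symm hbb)))

omit B in
/-- Blocks are carried along an isomorphism commuting with the automorphism. -/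
theorem blk_comp {U' : Type*} [Group U'] [Finite U'] {Z' : Subgroup U'} {τ : MulAut U'} {r m : ℕ}
    (D : FormData Z' τ r m) (φ : U' ≃* U') (hφ : ∀ u, φ (τ u) = τ (φ u)) (f : Z' →* Z')
    (hf : ∀ z : Z', ((f z : Z') : U') = φ z) {ε : Z' →* ℤˣ} (h : D.Blk ε) :
    D.Blk (ε.comp f) := by
  have hrad : D.rad (ε.comp f) = (D.rad ε).comap φ.toMonoidHom := by
    ext u
    have key : ∀ v, f (D.cm u v) = D.cm (φ u) (φ v) := fun v => Subtype.ext (by
      rw [hf]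
      show φ (u * v * u⁻¹ * v⁻¹) = φ u * φ v * (φ u)⁻¹ * (φ v)⁻¹
      simp only [map_mul, map_inv])
    constructor
    · intro hu v
      have := hu (φ.symm v)
      rw [MonoidHom.comp_apply, key, φ.apply_symm_apply] at this
      exact this
    · intro hu v
      rw [MonoidHom.comp_apply, key]
      exact hu _
  refine ⟨?_, fun H hH hle => ?_⟩
  · rw [hrad, index_comap_of_surjective _ φ.surjective, h.1]
  · have hH' : ∀ u ∈ H.map φ.toMonoidHom, τ u ∈ H.map φ.toMonoidHom := by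
      rintro _ ⟨u, hu, rfl⟩
      exact ⟨τ u, hH u hu, hφ u⟩
    have hle' : D.rad ε ≤ H.map φ.toMonoidHom := by
      intro u hu
      refine ⟨φ.symm u, hle ?_, φ.apply_symm_apply u⟩
      rw [hrad]
      show φ (φ.symm u) ∈ D.rad ε
      rwa [φ.apply_symm_apply]
    rcases h.2 _ hH' hle' with h1 | h1
    · left
      rw [hrad, ← h1, comap_map_eq_self_of_injective φ.injective]
    · right
      rw [← comap_map_eq_self_of_injective (f := φ.toMonoidHom) φ.injective H, h1, comap_top]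

theorem blk_rel {a b : Z.subgroupOf U} (h : B.Rel ((a : U) : G) ((b : U) : G)) :
    ∃ f : (Z.subgroupOf U) ≃* (Z.subgroupOf U), f a = b ∧
      ∀ ε, B.forms.Blk ε ↔ B.forms.Blk (ε.comp f.toMonoidHom) := by
  obtain ⟨n, hn, hσn, hnU, he⟩ := h
  let φ : U ≃* U := MulEquiv.ofBijective
    ({ toFun := fun u => ⟨n * u * n⁻¹, hnU u u.2⟩
       map_one' := Subtype.ext (by simp)
       map_mul' := fun u v => Subtype.ext (by simp [mul_assoc]) } : U →* U)
    (Finite.injective_iff_bijective.mp fun u v e =>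
      Subtype.ext (by simpa using congrArg Subtype.val e))
  have hφv : ∀ u : U, (φ u : G) = n * u * n⁻¹ := fun u => rfl
  have hφZ : ∀ z : Z.subgroupOf U, φ z ∈ Z.subgroupOf U := fun z => by
    rw [mem_subgroupOf, hφv]
    exact B.fixed_conj_mem hσn z.2 (hnU _ (z : U).2)
  let f : (Z.subgroupOf U) ≃* (Z.subgroupOf U) := MulEquiv.ofBijective
    ({ toFun := fun z => ⟨φ z, hφZ z⟩
       map_one' := Subtype.ext (by simp)
       map_mul' := fun u v => Subtype.ext (by simp) } :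
      (Z.subgroupOf U) →* (Z.subgroupOf U))
    (Finite.injective_iff_bijective.mp fun u v e =>
      Subtype.ext (φ.injective (congrArg Subtype.val e)))
  have hcomm : ∀ u, φ (restrict B.hUinv u) = restrict B.hUinv (φ u) := fun u => Subtype.ext (by
    show n * σ u * n⁻¹ = σ (n * u * n⁻¹)
    simp only [map_mul, map_inv, hσn])
  refine ⟨f, Subtype.ext (Subtype.ext ?_), fun ε => ⟨fun hε => ?_, fun hε => ?_⟩⟩
  · show n * ((a : U) : G) * n⁻¹ = _
    exact he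
  · exact blk_comp B.forms φ hcomm f.toMonoidHom (fun z => rfl) hε
  · have hsymm : ∀ u, φ.symm (restrict B.hUinv u) = restrict B.hUinv (φ.symm u) := fun u => by
      rw [MulEquiv.symm_apply_eq, hcomm, φ.apply_symm_apply]
    have := blk_comp B.forms φ.symm hsymm f.symm.toMonoidHom (fun z => by
      apply φ.injective
      rw [φ.apply_symm_apply]
      exact congrArg Subtype.val (f.apply_symm_apply z)) hε
    convert this using 1
    exact MonoidHom.ext fun z => by simp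

theorem irr_of_separated (hsep : B.Separated) {h : G} (hh : σ h = h) (hhM : h ∉ M) : B.Irr := by
  have hall : ∀ η : (Z.subgroupOf U) →* ℤˣ, η ≠ 1 → B.forms.Blk η := by
    refine B.forms.all_of_transitive ?_ fun a b ha hb => ?_
    · obtain ⟨u, hu, huZ⟩ := B.hUZ
      obtain ⟨ε, hε, hεu⟩ := hsep ⟨u, hu⟩ huZ
      refine ⟨ε, fun e => hεu fun v => ?_, hε⟩
      rw [e]; rfl
    · exact B.blk_rel (B.transitive hh hhM a.2 (fun e => ha (Subtype.ext (Subtype.ext e)))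
        b.2 (fun e => hb (Subtype.ext (Subtype.ext e))))
  refine fun ε hε => ⟨le_antisymm (fun u hu => ?_) (B.forms.le_rad ε), hall ε hε⟩
  by_contra huZ
  obtain ⟨η, hη, hηu⟩ := hsep u huZ
  have hη1 : η ≠ 1 := fun e => hηu fun v => by rw [e]; rfl
  by_cases heq : ε = η
  · exact hηu (heq ▸ hu)
  have hprod : ε * η ≠ 1 := fun e => heq (MonoidHom.ext fun x => by
    have := DFunLike.congr_fun e x
    rw [MonoidHom.mul_apply, MonoidHom.one_apply] at this
    rw [eq_inv_of_mul_eq_one_left this, Int.units_inv_eq_self])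
  exact hηu (B.forms.blk_eq (hall ε hε) hη (hall _ hprod) ▸ hu)

theorem exists_char_ne : ∃ ε : (Z.subgroupOf U) →* ℤˣ, ε ≠ 1 := by
  obtain ⟨z, hz, hz1⟩ := B.exists_ne
  obtain ⟨ε, hε⟩ := B.forms.exists_char (a := (⟨⟨z, B.hZU hz⟩, hz⟩ : Z.subgroupOf U))
    (fun e => hz1 (congrArg (fun x : Z.subgroupOf U => ((x : U) : G)) e))
  exact ⟨ε, fun e => hε (by rw [e]; rfl)⟩

theorem index_Z (hI : B.Irr) : (Z.subgroupOf U).index = 2 ^ (2 * m) := by
  obtain ⟨ε, hε⟩ := B.exists_char_ne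
  rw [← (hI ε hε).1]
  exact (hI ε hε).2.1

theorem card_U (hI : B.Irr) : Nat.card U = 2 ^ (2 * m) * Nat.card Z := by
  rw [← B.index_Z hI, ← Nat.card_congr (subgroupOfEquivOfLe B.hZU).toEquiv,
    Subgroup.index_mul_card]

/-- An invariant subgroup meeting `U` outside `Z` and containing `Z` contains `U`. -/
theorem le_of_moved (hI : B.Irr) {F : Subgroup G} (hF : SInv σ F) (hZF : Z ≤ F) {u : G}
    (hu : u ∈ U) (huF : u ∈ F) (huZ : u ∉ Z) : U ≤ F := by
  obtain ⟨ε, hε⟩ := B.exists_char_ne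
  rcases (hI ε hε).2.2 (F.subgroupOf U) (fun x hx => hF _ hx)
    (by rw [(hI ε hε).1]; exact fun x hx => hZF hx) with h | h
  · exact absurd (show (⟨u, hu⟩ : U) ∈ Z.subgroupOf U by rw [← (hI ε hε).1, ← h]; exact huF) huZ
  · exact subgroupOf_eq_top.mp h

/-- The elements of `U` whose commutator with `n` lies in `Z`. -/
theorem trivial_mod (hI : B.Irr) {n v : G} (hn : σ n = n) (hnU : ∀ u ∈ U, n * u * n⁻¹ ∈ U)
    (hv : v ∈ U) (hvZ : v ∉ Z) (hnv : n * v * n⁻¹ * v⁻¹ ∈ Z) :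
    ∀ u ∈ U, n * u * n⁻¹ * u⁻¹ ∈ Z := by
  let F : Subgroup G :=
    { carrier := {u | u ∈ U ∧ n * u * n⁻¹ * u⁻¹ ∈ Z}
      one_mem' := ⟨one_mem _, by simp⟩
      mul_mem' := fun {a b} ha hb => ⟨mul_mem ha.1 hb.1, by
        rw [show n * (a * b) * n⁻¹ * (a * b)⁻¹
          = (n * a * n⁻¹) * (n * b * n⁻¹ * b⁻¹) * a⁻¹ by group,
          B.cen _ hb.2 _ (hnU a ha.1), mul_assoc]
        exact mul_mem hb.2 ha.2⟩
      inv_mem' := fun {a} ha => ⟨inv_mem ha.1, by
        rw [show n * a⁻¹ * n⁻¹ * a⁻¹⁻¹ = a⁻¹ * ((n * a * n⁻¹ * a⁻¹)⁻¹ * a) by group,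
          ← B.cen _ (inv_mem ha.2) a ha.1, inv_mul_cancel_left]
        exact inv_mem ha.2⟩ }
  have hFinv : SInv σ F := fun u hu => ⟨B.hUinv u hu.1, by
    have h1 := B.fixZ hu.2
    simp only [map_mul, map_inv, hn] at h1
    rw [h1]; exact hu.2⟩
  have hZF : Z ≤ F := fun z hz => ⟨B.hZU hz,
    mul_mem (B.fixed_conj_mem hn hz (hnU z (B.hZU hz))) (inv_mem hz)⟩
  intro u hu
  exact (B.le_of_moved hI hFinv hZF hv ⟨hv, hnv⟩ hvZ hu).2

/-- Fixed elements acting trivially on `U / Z` centralise `U`. -/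
theorem centU (hI : B.Irr) {n : G} (hn : σ n = n) (hnU : ∀ u ∈ U, n * u * n⁻¹ ∈ U)
    (hW : ∀ u ∈ U, n * u * n⁻¹ * u⁻¹ ∈ Z) : ∀ u ∈ U, n * u = u * n := by
  have hcomm : ∀ u ∈ U, ∀ v ∈ U,
      n * (u * v * u⁻¹ * v⁻¹) * n⁻¹ = u * v * u⁻¹ * v⁻¹ := by
    intro u hu v hv
    set a := n * u * n⁻¹ * u⁻¹ with ha
    set b := n * v * n⁻¹ * v⁻¹ with hb
    rw [show n * (u * v * u⁻¹ * v⁻¹) * n⁻¹ = (a * u) * (b * v) * (a * u)⁻¹ * (b * v)⁻¹ by
      rw [ha, hb]; group]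
    have key := congrArg (fun x : Z.subgroupOf U => ((x : U) : G))
      (show B.forms.cm (⟨a, B.hZU (hW u hu)⟩ * ⟨u, hu⟩) (⟨b, B.hZU (hW v hv)⟩ * ⟨v, hv⟩)
          = B.forms.cm ⟨u, hu⟩ ⟨v, hv⟩ by
        rw [B.forms.cm_mul_left, B.forms.cm_of_mem (show (⟨a, _⟩ : U) ∈ Z.subgroupOf U from hW u hu),
          one_mul, B.forms.cm_mul_right, B.forms.cm_comm,
          B.forms.cm_of_mem (show (⟨b, _⟩ : U) ∈ Z.subgroupOf U from hW v hv), one_mul])
    exact key
  have hnZ : ∀ z ∈ Z, n * z * n⁻¹ = z := by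
    intro z hz
    by_contra hne
    have hz' := B.fixed_conj_mem hn hz (hnU z (B.hZU hz))
    have hg : ∀ x : Z.subgroupOf U, n * ((x : U) : G) * n⁻¹ * ((x : U) : G)⁻¹ ∈ Z := fun x =>
      hW _ (x : U).2
    have key : ∀ a b : G, a ∈ Z → b ∈ Z →
        n * (a * b) * n⁻¹ * (a * b)⁻¹ = (n * a * n⁻¹ * a⁻¹) * (n * b * n⁻¹ * b⁻¹) := by
      intro a b ha hb
      rw [show n * (a * b) * n⁻¹ * (a * b)⁻¹ = n * a * n⁻¹ * ((n * b * n⁻¹ * b⁻¹) * a⁻¹) by group,
        ← B.cen _ (hW b (B.hZU hb)) _ (B.hZU (inv_mem ha)), ← mul_assoc]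
    let ψ : (Z.subgroupOf U) →* (Z.subgroupOf U) :=
      { toFun := fun x => ⟨⟨_, B.hZU (hg x)⟩, hg x⟩
        map_one' := Subtype.ext (Subtype.ext (by simp))
        map_mul' := fun x y => Subtype.ext (Subtype.ext (key _ _ x.2 y.2)) }
    have hψ : ψ ⟨⟨z, B.hZU hz⟩, hz⟩ ≠ 1 := fun e => hne (mul_inv_eq_one.mp
      (congrArg (fun x : Z.subgroupOf U => ((x : U) : G)) e))
    obtain ⟨ε, hε⟩ := B.forms.exists_char hψ
    have hne' : ε.comp ψ ≠ 1 := fun e => hε (by simpa using DFunLike.congr_fun e _)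
    obtain ⟨u, hu, huZ⟩ := B.hUZ
    have hmem : (⟨u, hu⟩ : U) ∈ B.forms.rad (ε.comp ψ) := fun v => by
      have h1 : ψ (B.forms.cm ⟨u, hu⟩ v) = 1 := Subtype.ext (Subtype.ext (by
        show n * (u * (v : G) * u⁻¹ * (v : G)⁻¹) * n⁻¹ * (u * (v : G) * u⁻¹ * (v : G)⁻¹)⁻¹ = 1
        rw [hcomm u hu v v.2, mul_inv_cancel]))
      rw [MonoidHom.comp_apply, h1, map_one]
    rw [(hI _ hne').1] at hmem
    exact huZ hmem
  let F : Subgroup G := U ⊓ centralizer ({n} : Set G)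
  have hF : SInv σ F := B.hUinv.inf (sInv_centralizer hn)
  have hZF : Z ≤ F := fun z hz => ⟨B.hZU hz, mem_centralizer_singleton_iff.mpr
    (by have := hnZ z hz; rw [mul_inv_eq_iff_eq_mul] at this; exact this.symm)⟩
  obtain ⟨u, hu, huZ⟩ := B.hUZ
  obtain ⟨hv, hvZ⟩ := B.mov_notMem hu huZ
  have hvF : u⁻¹ * σ u ∈ F := by
    refine ⟨hv, mem_centralizer_singleton_iff.mpr ?_⟩
    set z := n * u * n⁻¹ * u⁻¹ with hz
    have hzZ : z ∈ Z := hW u hu
    have e1 : n * u = z * u * n := by rw [hz]; group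
    have e2 : n * σ u = z * σ u * n := by
      have := congrArg σ e1
      rwa [map_mul, map_mul, map_mul, hn, B.fixZ hzZ] at this
    have e3 : u⁻¹ * z⁻¹ * n = n * u⁻¹ := by
      calc u⁻¹ * z⁻¹ * n = u⁻¹ * z⁻¹ * (n * u) * u⁻¹ := by group
        _ = n * u⁻¹ := by rw [e1]; group
    symm
    calc n * (u⁻¹ * σ u) = u⁻¹ * z⁻¹ * (n * σ u) := by rw [← mul_assoc, ← e3]; group
      _ = u⁻¹ * σ u * n := by rw [e2]; group
  intro w hw
  exact (mem_centralizer_singleton_iff.mp (B.le_of_moved hI hF hZF hv hvF hvZ hw).2).symm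

/-- Fixed elements of `S` centralise `U`. -/
theorem cent_of_fixed (hI : B.Irr) : ∀ {c : G}, c ∈ S → σ c = c → ∀ u ∈ U, c * u = u * c := by
  suffices h : ∀ N : ℕ, ∀ c : G, orderOf c = N → c ∈ S → σ c = c →
      ∀ u ∈ U, c * u * c⁻¹ * u⁻¹ ∈ Z from
    fun {c} hc hσc => B.centU hI hσc (B.hUnorm c hc) (h _ c rfl hc hσc)
  intro N
  induction N using Nat.strong_induction_on with
  | _ N ih =>
    intro c hN hc hσc
    by_cases hc1 : c = 1
    · intro u _; simp [hc1]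
    have hlt : orderOf (c * c) < N := by
      obtain ⟨k, hk⟩ := B.hS2 ⟨c, hc⟩
      have hk' : c ^ 2 ^ k = 1 := by simpa using congrArg Subtype.val hk
      obtain ⟨j, hj, he⟩ := (Nat.dvd_prime_pow Nat.prime_two).mp (orderOf_dvd_of_pow_eq_one hk')
      have h2 : 2 ∣ orderOf c := by
        rcases j with - | j
        · exact absurd (orderOf_eq_one_iff.mp (by simpa using he)) hc1
        · exact he ▸ dvd_pow_self 2 (by omega)
      have hpos := orderOf_pos c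
      rw [← pow_two, orderOf_pow' c two_ne_zero, Nat.gcd_eq_right h2, ← hN]
      omega
    obtain ⟨u, hu, huZ⟩ := B.hUZ
    have hc2 := ih _ hlt (c * c) rfl (mul_mem hc hc) (by rw [map_mul, hσc]) u hu
    by_cases h0 : c * u * c⁻¹ * u⁻¹ ∈ Z
    · exact B.trivial_mod hI hσc (B.hUnorm c hc) hu huZ h0
    have hu' := B.hUnorm c hc u hu
    refine B.trivial_mod hI hσc (B.hUnorm c hc) (mul_mem hu hu') (fun hvZ => h0 ?_) ?_
    · rw [show c * u * c⁻¹ * u⁻¹ = u⁻¹ * (u * (c * u * c⁻¹)) * u * (u * u)⁻¹ by group]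
      refine mul_mem ?_ (inv_mem (B.sq u hu))
      rw [mul_assoc, ← B.cen _ hvZ u hu, inv_mul_cancel_left]
      exact hvZ
    · set z := c * c * u * (c * c)⁻¹ * u⁻¹ with hz
      have e : c * (u * (c * u * c⁻¹)) * c⁻¹ * (u * (c * u * c⁻¹))⁻¹
          = c * u * c⁻¹ * z * (u * (c * u * c⁻¹)⁻¹ * u⁻¹) := by rw [hz]; group
      rw [e, B.cen z hc2 _ hu', mul_assoc]
      refine mul_mem hc2 ?_
      have := B.comm _ hu' _ hu
      rwa [show c * u * c⁻¹ * (u * (c * u * c⁻¹)⁻¹ * u⁻¹)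
        = c * u * c⁻¹ * u * (c * u * c⁻¹)⁻¹ * u⁻¹ by group]

/-- Every element of `S` is a fixed one times one of `U`. -/
theorem decomp {s : G} (hs : s ∈ S) : ∃ c ∈ S, σ c = c ∧ ∃ u ∈ U, s = c * u := by
  obtain ⟨u, hu, hf⟩ := exists_fixed_coset B.hr B.hσ B.hcop B.hUinv (B.hmov s hs)
  exact ⟨s * u, mul_mem hs (B.hUS hu), hf, u⁻¹, inv_mem hu, by group⟩

/-- `Z` is central in `S`. -/
theorem Z_central (hI : B.Irr) {s z : G} (hs : s ∈ S) (hz : z ∈ Z) : s * z = z * s := by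
  obtain ⟨c, hc, hσc, u, hu, rfl⟩ := B.decomp hs
  rw [mul_assoc, B.cen z hz u hu, ← mul_assoc, B.cent_of_fixed hI hc hσc z (B.hZU hz), mul_assoc]

theorem cent_fixed_le (hI : B.Irr) {w : G} (hwM : w ∈ M) (hσw : σ w = w) (hw2 : w * w = 1)
    (hw1 : w ≠ 1) : centralizer ({w} : Set G) ≤ M := by
  obtain ⟨n, hn, hσn, hnS⟩ := B.invol_into_S hσw hwM hw2
  obtain ⟨x, hx⟩ : ∃ y, y = n * w * n⁻¹ := ⟨_, rfl⟩
  rw [← hx] at hnS
  have hσx : σ x = x := by rw [hx, map_mul, map_mul, map_inv, hσn, hσw]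
  have hx2 : x * x = 1 := by
    rw [hx, show n * w * n⁻¹ * (n * w * n⁻¹) = n * (w * w) * n⁻¹ by group, hw2]; group
  have hle := B.cent_le hσx hx2 (fun h => hw1 (by simpa [hx] using h)) (B.cent_of_fixed hI hnS hσx)
  intro y hy
  rw [mem_centralizer_singleton_iff] at hy
  have h1 := hle (mem_centralizer_singleton_iff.mpr
    (show n * y * n⁻¹ * x = x * (n * y * n⁻¹) by
      rw [hx, show n * y * n⁻¹ * (n * w * n⁻¹) = n * (y * w) * n⁻¹ by group, hy]; group))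
  simpa [mul_assoc] using mul_mem (mul_mem (inv_mem hn) h1) hn

/-- The fixed involutions of `S` lie in `Z`. -/
theorem fixed_invol_mem (hI : B.Irr) {h : G} (hh : σ h = h) (hhM : h ∉ M) {x : G} (hx : x ∈ S)
    (hσx : σ x = x) (hx2 : x * x = 1) : x ∈ Z := by
  by_cases hx1 : x = 1
  · rw [hx1]; exact one_mem Z
  obtain ⟨a, ha, ha1⟩ := B.exists_ne
  obtain ⟨n, hn, hσn, he⟩ := B.fuse hh hhM ha ha1 (B.hSM hx) hσx hx2
    (B.cent_fixed_le hI (B.hSM hx) hσx hx2 hx1) fun w hwM hσw hw2 hw1 _ =>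
      B.cent_fixed_le hI hwM hσw hw2 hw1
  subst he
  exact B.fixed_conj_mem hσn ha (B.KS (B.hKn n hn a (B.hUK (B.hZU ha))) hx)

theorem conjM_Z {n z : G} (hn : n ∈ M) (hz : z ∈ Z) (hS : n * z * n⁻¹ ∈ S) :
    n * z * n⁻¹ ∈ Z := by
  have hu : n * z * n⁻¹ ∈ U := B.KS (B.hKn n hn z (B.hUK (B.hZU hz))) hS
  refine (B.fix _ hu).mp ?_
  obtain ⟨ρ, hρ, u, hu', hk⟩ := B.hKdec _ (B.hMK n hn)
  have hσn : σ n = n * (ρ * u) := by rw [← hk]; group
  have e : (n * z * n⁻¹)⁻¹ * σ (n * z * n⁻¹) = n * (z⁻¹ * ρ * z * ρ⁻¹) * n⁻¹ := by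
    rw [map_mul, map_mul, map_inv, hσn, B.fixZ hz,
      show n * (ρ * u) * z * (n * (ρ * u))⁻¹ = n * ρ * (u * z) * u⁻¹ * ρ⁻¹ * n⁻¹ by group,
      B.cen z hz u hu']
    group
  have hR : (n * z * n⁻¹)⁻¹ * σ (n * z * n⁻¹) ∈ R := by
    rw [e]
    refine B.hRn n hn _ (mul_mem ?_ (inv_mem hρ))
    have := B.hRn z⁻¹ (inv_mem (B.hZM hz)) ρ hρ
    simpa using this
  exact (inv_mul_eq_one.mp (B.RS hR
    (mul_mem (inv_mem hS) (B.hUS (B.hUinv _ hu))))).symm

/-- An element carrying `z ∈ Z` to a fixed element of `M` lies in `M`. -/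
theorem mem_of_fixed_image (hI : B.Irr) {h : G} (hh : σ h = h) (hhM : h ∉ M) {g z : G}
    (hz : z ∈ Z) (hz1 : z ≠ 1) (hfix : σ (g * z * g⁻¹) = g * z * g⁻¹) (hM : g * z * g⁻¹ ∈ M) :
    g ∈ M := by
  have h2 : g * z * g⁻¹ * (g * z * g⁻¹) = 1 := by
    rw [show g * z * g⁻¹ * (g * z * g⁻¹) = g * (z * z) * g⁻¹ by group, B.sqZ z hz]; group
  obtain ⟨n, hn, hσn, hnS⟩ := B.invol_into_S hfix hM h2
  set k := n * g with hk
  set w := k * z * k⁻¹ with hw
  have hwe : n * (g * z * g⁻¹) * n⁻¹ = w := by rw [hw, hk]; group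
  rw [hwe] at hnS
  have hσw : σ w = w := by rw [← hwe, map_mul, map_mul, map_inv, hσn, hfix]
  have hwZ : w ∈ Z := B.fixed_invol_mem hI hh hhM hnS hσw (by
    rw [hw, show k * z * k⁻¹ * (k * z * k⁻¹) = k * (z * z) * k⁻¹ by group, B.sqZ z hz]; group)
  have hc : k⁻¹ * σ k ∈ M := by
    refine B.centZ_le hz hz1 (mem_centralizer_singleton_iff.mpr ?_)
    have h3 : σ k * z * (σ k)⁻¹ = k * z * k⁻¹ := by
      have := hσw
      rw [hw, map_mul, map_mul, map_inv, B.fixZ hz] at this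
      exact this
    calc k⁻¹ * σ k * z = k⁻¹ * (σ k * z * (σ k)⁻¹) * σ k := by group
      _ = z * (k⁻¹ * σ k) := by rw [h3]; group
  obtain ⟨b, hb, hfb⟩ := exists_fixed_coset B.hr B.hσ B.hcop B.hMinv hc
  have hM' : (k * b)⁻¹ * w * (k * b)⁻¹⁻¹ ∈ M := by
    rw [hw, show (k * b)⁻¹ * (k * z * k⁻¹) * (k * b)⁻¹⁻¹ = b⁻¹ * z * b by group]
    exact mul_mem (mul_mem (inv_mem hb) (B.hZM hz)) hb
  have hw1 : w ≠ 1 := fun e => hz1 (by simpa [hw] using e)
  have h1 : (k * b)⁻¹ ∈ M := B.mem_of_fixed (by rw [map_inv, hfb]) hwZ hw1 hM'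
  have h3 : k ∈ M := by simpa using mul_mem (inv_mem h1) (inv_mem hb)
  simpa [hk] using mul_mem (inv_mem hn) h3

/-- No element outside `M` carries an involution of `Z` into `M`. -/
theorem mem_of_conj (hI : B.Irr) {h : G} (hh : σ h = h) (hhM : h ∉ M) {g z : G} (hz : z ∈ Z)
    (hz1 : z ≠ 1) (hgz : g * z * g⁻¹ ∈ M) : g ∈ M := by
  haveI : Fact (Nat.Prime 2) := ⟨Nat.prime_two⟩
  suffices hcl : ∀ x ∈ S, (∃ g : G, ∃ z ∈ Z, z ≠ 1 ∧ g * z * g⁻¹ = x) → x ∈ Z by
    obtain ⟨n, hn, hc⟩ := B.sylM.2.2 (zpowers (g * z * g⁻¹)) (zpowers_le.mpr hgz)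
      (isPGroup_zpowers_of_sq (by
        rw [show g * z * g⁻¹ * (g * z * g⁻¹) = g * (z * z) * g⁻¹ by group, B.sqZ z hz]; group))
    have hS' : n * g * z * (n * g)⁻¹ ∈ S := by
      have := hc _ (mem_zpowers _)
      simpa [mul_assoc] using this
    have hZ' := hcl _ hS' ⟨_, z, hz, hz1, rfl⟩
    have := B.mem_of_fixed_image hI hh hhM hz hz1 (B.fixZ hZ') (B.hZM hZ')
    simpa using mul_mem (inv_mem hn) this
  by_contra hbad
  push Not at hbad
  obtain ⟨x₀, hx₀⟩ := hbad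
  let X := {x : G // x ∈ S ∧ (∃ g : G, ∃ z ∈ Z, z ≠ 1 ∧ g * z * g⁻¹ = x) ∧ x ∉ Z}
  haveI : Nonempty X := ⟨⟨x₀, hx₀⟩⟩
  obtain ⟨⟨x, hxS, ⟨g₁, e, he, he1, hgx⟩, hxZ⟩, hmax⟩ :=
    Finite.exists_max fun x : X => Nat.card ↥(S ⊓ centralizer ({(x : G)} : Set G))
  set T := S ⊓ centralizer ({x} : Set G) with hT
  have hx2 : x * x = 1 := by
    rw [← hgx, show g₁ * e * g₁⁻¹ * (g₁ * e * g₁⁻¹) = g₁ * (e * e) * g₁⁻¹ by group, B.sqZ e he]
    group
  have hxT : x ∈ T := ⟨hxS, mem_centralizer_singleton_iff.mpr rfl⟩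
  have hfixed : ∀ c ∈ S, σ c = c → c * c = 1 → c ∈ Z := fun c hc hσc h2 =>
    B.fixed_invol_mem hI hh hhM hc hσc h2
  -- `T` is not all of `S`
  have hTlt : Nat.card T < Nat.card S := by
    refine lt_of_le_of_ne (Subgroup.card_le_of_le inf_le_left) fun heq => hxZ ?_
    have hTS : T = S := eq_of_le_of_card_ge inf_le_left heq.ge
    obtain ⟨c, hc, hσc, u, hu, hxcu⟩ := B.decomp hxS
    have hcc := B.cent_of_fixed hI hc hσc
    have hux : ∀ v ∈ U, u * v = v * u := by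
      intro v hv
      have hvT : v * x = x * v :=
        mem_centralizer_singleton_iff.mp (show v ∈ T from hTS.symm ▸ B.hUS hv).2
      have hu' : u = c⁻¹ * x := by rw [hxcu]; group
      have hcv : c⁻¹ * v = v * c⁻¹ := by
        calc c⁻¹ * v = c⁻¹ * (v * c) * c⁻¹ := by group
          _ = v * c⁻¹ := by rw [← hcc v hv]; group
      rw [hu', mul_assoc, ← hvT, ← mul_assoc, hcv, mul_assoc]
    have huZ : u ∈ Z := by
      by_contra hn
      obtain ⟨ε, hε⟩ := B.exists_char_ne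
      have : (⟨u, hu⟩ : U) ∈ B.forms.rad ε := fun v => by
        have h1 : B.forms.cm ⟨u, hu⟩ v = 1 := Subtype.ext (Subtype.ext (by
          show u * (v : G) * u⁻¹ * (v : G)⁻¹ = 1
          rw [hux v v.2]; group))
        rw [h1, map_one]
      rw [(hI ε hε).1] at this
      exact hn this
    have hσx : σ x = x := by rw [hxcu, map_mul, hσc, B.fixZ huZ]
    exact hfixed x hxS hσx hx2
  -- a 2-group of order at least `|S|` centralises `x`
  set P₀ := S.map (MulAut.conj g₁).toMonoidHom with hP₀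
  have hP₀C : P₀ ≤ centralizer ({x} : Set G) := by
    rintro _ ⟨s, hs, rfl⟩
    rw [mem_centralizer_singleton_iff, ← hgx]
    show g₁ * s * g₁⁻¹ * (g₁ * e * g₁⁻¹) = g₁ * e * g₁⁻¹ * (g₁ * s * g₁⁻¹)
    rw [show g₁ * s * g₁⁻¹ * (g₁ * e * g₁⁻¹) = g₁ * (s * e) * g₁⁻¹ by group, B.Z_central hI hs he]
    group
  obtain ⟨P, hP⟩ := ((B.hS2.map (MulAut.conj g₁).toMonoidHom).of_equiv
    (subgroupOfEquivOfLe hP₀C).symm).exists_le_sylow
  obtain ⟨Q, hQ⟩ := ((B.hS2.to_le (inf_le_left : T ≤ S)).of_equiv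
    (subgroupOfEquivOfLe (inf_le_right : T ≤ centralizer ({x} : Set G))).symm).exists_le_sylow
  set Q' := (Q : Subgroup (centralizer ({x} : Set G))).map (centralizer ({x} : Set G)).subtype
    with hQ'
  have hTQ : T ≤ Q' := fun t ht => ⟨⟨t, ht.2⟩, hQ ht, rfl⟩
  have hQC : Q' ≤ centralizer ({x} : Set G) := map_subtype_le _
  have hQ2 : IsPGroup 2 Q' := Q.2.map _
  have hQlt : Nat.card T < Nat.card Q' := by
    refine lt_of_lt_of_le hTlt ?_
    calc Nat.card S = Nat.card P₀ := (card_map_of_injective (MulAut.conj g₁).injective).symm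
      _ = Nat.card (P₀.subgroupOf (centralizer ({x} : Set G))) :=
          (Nat.card_congr (subgroupOfEquivOfLe hP₀C).toEquiv).symm
      _ ≤ Nat.card (P : Subgroup (centralizer ({x} : Set G))) := Subgroup.card_le_of_le hP
      _ = Nat.card (Q : Subgroup (centralizer ({x} : Set G))) := by
          rw [P.card_eq_multiplicity, Q.card_eq_multiplicity]
      _ = Nat.card Q' := (card_map_of_injective (subtype_injective _)).symm
  obtain ⟨y, hyQ, hyn, hyT⟩ : ∃ y ∈ Q', y ∈ normalizer (T : Set G) ∧ y ∉ T := by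
    have hnc : NormalizerCondition Q' := by
      haveI := hQ2.isNilpotent
      exact normalizerCondition_of_isNilpotent
    have hlt : T.subgroupOf Q' < ⊤ := by
      refine lt_top_iff_ne_top.mpr fun ht => ?_
      rw [subgroupOf_eq_top] at ht
      exact absurd (Subgroup.card_le_of_le ht) (not_le.mpr hQlt)
    obtain ⟨y, hy, hyT⟩ := SetLike.exists_of_lt (hnc _ hlt)
    refine ⟨y, y.2, mem_normalizer_iff.mpr fun v => ⟨fun hv => ?_, fun hv => ?_⟩, hyT⟩
    · exact (mem_normalizer_iff.mp hy ⟨v, hTQ hv⟩).mp hv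
    · have hvQ : v ∈ Q' := by
        have := mul_mem (mul_mem (inv_mem y.2) (hTQ hv)) y.2
        simpa [mul_assoc] using this
      exact (mem_normalizer_iff.mp hy ⟨v, hvQ⟩).mpr hv
  -- `y` is outside `M`
  have hyM : y ∉ M := by
    intro hy
    set T' := Q' ⊓ M with hT'
    have hTT' : T < T' := lt_of_le_of_ne (le_inf hTQ (inf_le_left.trans B.hSM))
      fun h => hyT (h ▸ ⟨hyQ, hy⟩)
    obtain ⟨n, hn, hc⟩ := B.sylM.2.2 T' inf_le_right (hQ2.to_le inf_le_left)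
    have hx'S : n * x * n⁻¹ ∈ S := hc x (hTT'.le hxT)
    have hx'Z : n * x * n⁻¹ ∉ Z := fun hx' => hxZ (by
      have := B.conjM_Z (inv_mem hn) hx'
      rw [show n⁻¹ * (n * x * n⁻¹) * n⁻¹⁻¹ = x by group] at this
      exact this hxS)
    have hle := hmax ⟨n * x * n⁻¹, hx'S, ⟨n * g₁, e, he, he1, by rw [← hgx]; group⟩, hx'Z⟩
    have hlt : Nat.card T < Nat.card T' := lt_of_le_of_ne (Subgroup.card_le_of_le hTT'.le)
      fun h => hTT'.ne (eq_of_le_of_card_ge hTT'.le h.ge)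
    have hge : Nat.card T' ≤ Nat.card ↥(S ⊓ centralizer ({n * x * n⁻¹} : Set G)) :=
      Nat.card_le_card_of_injective
        (fun t : T' => (⟨n * t * n⁻¹, hc t t.2, mem_centralizer_singleton_iff.mpr (by
          have h1 := mem_centralizer_singleton_iff.mp (hQC t.2.1)
          rw [show n * (t : G) * n⁻¹ * (n * x * n⁻¹) = n * ((t : G) * x) * n⁻¹ by group, h1]
          group)⟩ : ↥(S ⊓ centralizer ({n * x * n⁻¹} : Set G))))
        fun a b e => Subtype.ext (by simpa using congrArg Subtype.val e)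
    dsimp only at hle
    omega
  have hyconj : ∀ t ∈ T, y * t * y⁻¹ ∈ T := fun t ht => (mem_normalizer_iff.mp hyn t).mp ht
  have hZT : Z ≤ T := fun z hz => ⟨B.hUS (B.hZU hz),
    mem_centralizer_singleton_iff.mpr (B.Z_central hI hxS hz).symm⟩
  have hdisj : ∀ z ∈ Z, z ≠ 1 → σ (y * z * y⁻¹) ≠ y * z * y⁻¹ := fun z hz hz1 hf =>
    hyM (B.mem_of_fixed_image hI hh hhM hz hz1 hf (B.hSM (hyconj z (hZT hz)).1))
  -- `T` has exponent two
  have hexp : ∀ t ∈ T, t * t = 1 := by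
    intro t ht
    by_contra ht2
    have hsq : ∀ s ∈ S, σ (s * s) = s * s := by
      intro s hs
      obtain ⟨c, hc, hσc, u, hu, rfl⟩ := B.decomp hs
      have e : c * u * (c * u) = c * c * (u * u) := by
        rw [show c * u * (c * u) = c * (u * c) * u by group, ← B.cent_of_fixed hI hc hσc u hu]
        group
      rw [e, map_mul, map_mul, hσc, B.fixZ (B.sq u hu)]
    obtain ⟨k, hk⟩ := B.hS2 ⟨t * t, mul_mem ht.1 ht.1⟩
    have hk' : (t * t) ^ 2 ^ k = 1 := by simpa using congrArg Subtype.val hk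
    have hex : ∃ j : ℕ, ((t * t) ^ 2 ^ j) * ((t * t) ^ 2 ^ j) = 1 ∧ (t * t) ^ 2 ^ j ≠ 1 := by
      have hex' : ∃ j, (t * t) ^ 2 ^ j = 1 := ⟨k, hk'⟩
      classical
      have h0 : Nat.find hex' ≠ 0 := fun h => ht2 (by simpa [h] using Nat.find_spec hex')
      obtain ⟨j, hj⟩ := Nat.exists_eq_succ_of_ne_zero h0
      refine ⟨j, ?_, Nat.find_min hex' (by omega)⟩
      have := Nat.find_spec hex'
      rw [hj, pow_succ, pow_mul, pow_two] at this
      exact this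
    obtain ⟨j, hj2, hj1⟩ := hex
    set w := (t * t) ^ 2 ^ j with hw
    have hwT : w ∈ T := pow_mem (mul_mem ht ht) _
    have hσw : σ w = w := by rw [hw, map_pow, hsq t ht.1]
    refine hdisj w (hfixed w hwT.1 hσw hj2) hj1 ?_
    rw [hw, ← conj_pow, show y * (t * t) * y⁻¹ = y * t * y⁻¹ * (y * t * y⁻¹) by group, map_pow,
      hsq _ (hyconj t ht).1]
  have hTU : T ≤ U := by
    intro t ht
    obtain ⟨c, hc, hσc, u, hu, rfl⟩ := B.decomp ht.1
    obtain ⟨c₁, hc₁, hσc₁, u₁, hu₁, hxe⟩ := B.decomp hxS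
    have hcx : c * x = x * c → c ∈ Z := fun hcomm => hfixed c hc hσc
      (hexp c ⟨hc, mem_centralizer_singleton_iff.mpr hcomm⟩)
    have hc₁Z : c₁ ∈ Z := by
      refine hfixed c₁ hc₁ hσc₁ (hexp c₁ ⟨hc₁, mem_centralizer_singleton_iff.mpr ?_⟩)
      rw [hxe, ← mul_assoc, mul_assoc c₁ u₁ c₁, ← B.cent_of_fixed hI hc₁ hσc₁ u₁ hu₁]
      group
    have hxU : x ∈ U := hxe ▸ mul_mem (B.hZU hc₁Z) hu₁
    exact mul_mem (B.hZU (hcx (B.cent_of_fixed hI hc hσc x hxU))) hu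
  have hxU : x ∈ U := hTU hxT
  -- counting
  have hbig : Nat.card U ≤ Nat.card T * Nat.card Z := by
    let f : U →* Z :=
      { toFun := fun v => ⟨x * v * x⁻¹ * (v : G)⁻¹, B.comm x hxU v v.2⟩
        map_one' := Subtype.ext (by simp)
        map_mul' := fun a b => Subtype.ext (by
          show x * ((a : G) * b) * x⁻¹ * ((a : G) * b)⁻¹ =
            (x * a * x⁻¹ * (a : G)⁻¹) * (x * b * x⁻¹ * (b : G)⁻¹)
          rw [show x * ((a : G) * b) * x⁻¹ * ((a : G) * b)⁻¹ =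
            (x * a * x⁻¹) * (x * b * x⁻¹ * (b : G)⁻¹) * (a : G)⁻¹ by group,
            B.cen _ (B.comm x hxU b b.2) _ (B.hUnorm x hxS a a.2), mul_assoc,
            ← B.cen _ (B.comm x hxU b b.2) _ (B.hZU (B.comm x hxU a a.2))]) }
    have hker : Nat.card f.ker ≤ Nat.card T := by
      refine Nat.card_le_card_of_injective (fun v : f.ker => (⟨((v : U) : G),
        B.hUS (v : U).2, mem_centralizer_singleton_iff.mpr ?_⟩ : T))
        fun a b e => Subtype.ext (Subtype.ext (congrArg (fun t : T => (t : G)) e))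
      have h1 : x * ((v : U) : G) * x⁻¹ * ((v : U) : G)⁻¹ = 1 :=
        congrArg Subtype.val (MonoidHom.mem_ker.mp v.2)
      rw [mul_inv_eq_one, mul_inv_eq_iff_eq_mul] at h1
      exact h1.symm
    have h1 : Nat.card f.range ≤ Nat.card Z := Finite.card_subtype_le _
    rw [← Subgroup.index_mul_card f.ker, Subgroup.index_ker, mul_comm]
    exact Nat.mul_le_mul hker h1
  have hsq : Nat.card Z * Nat.card Z ≤ Nat.card T := by
    rw [← Nat.card_prod]
    refine Nat.card_le_card_of_injective (fun q : Z × Z =>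
      (⟨(q.1 : G) * (y * q.2 * y⁻¹), mul_mem (hZT q.1.2) (hyconj _ (hZT q.2.2))⟩ : T)) ?_
    rintro ⟨a, b⟩ ⟨a', b'⟩ hab
    have h1 : (a : G) * (y * b * y⁻¹) = a' * (y * b' * y⁻¹) := congrArg Subtype.val hab
    have h2 : y * ((b : G) * (b' : G)⁻¹) * y⁻¹ = (a : G)⁻¹ * a' := by
      calc y * ((b : G) * (b' : G)⁻¹) * y⁻¹
          = (a : G)⁻¹ * ((a : G) * (y * b * y⁻¹)) * (y * b' * y⁻¹)⁻¹ := by group
        _ = (a : G)⁻¹ * a' := by rw [h1]; group
    have hb : b = b' := by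
      by_contra hne
      refine hdisj _ (mul_mem b.2 (inv_mem b'.2)) (fun e => hne (Subtype.ext (mul_inv_eq_one.mp e))) ?_
      rw [h2]
      exact B.fixZ (mul_mem (inv_mem a.2) a'.2)
    subst hb
    exact Prod.ext (Subtype.ext (mul_right_cancel h1)) rfl
  obtain ⟨ε, hε⟩ := B.exists_char_ne
  have hlt := B.forms.card_lt_of_elementary (hI ε hε).1 (B.index_Z hI)
    (X := T.subgroupOf U) (fun z hz => hZT hz) (fun t ht => Subtype.ext (hexp _ ht))
  rw [Nat.card_congr (subgroupOfEquivOfLe hTU).toEquiv,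
    Nat.card_congr (subgroupOfEquivOfLe B.hZU).toEquiv] at hlt
  rw [B.card_U hI] at hbig
  have hzpos : 0 < Nat.card Z := Nat.card_pos
  have h2m : 2 ^ (2 * m) = 2 ^ m * 2 ^ m := by rw [two_mul, pow_add]
  rw [h2m] at hbig
  have hA : Nat.card Z < 2 ^ m :=
    Nat.lt_of_mul_lt_mul_right (lt_of_le_of_lt hsq hlt)
  have hB : 2 ^ m * 2 ^ m ≤ Nat.card T := Nat.le_of_mul_le_mul_right hbig hzpos
  have hC : 2 ^ m * 2 ^ m < 2 ^ m * Nat.card Z := lt_of_le_of_lt hB hlt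
  exact absurd (Nat.lt_of_mul_lt_mul_left hC) (not_lt.mpr hA.le)

end Cfg

end H41.Shult
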