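import Cfsg.Agent.H41.Shult.TwoCore
import Cfsg.Agent.H3.Shult.Isometry

/-!
Shult's fixed point theorem, several radicals: the action of induced automorphisms on characters,
stabilisers of blocks, three blocks.
-/

set_option autoImplicit false
set_option linter.all false

open Subgroup

namespace H41.Shult

namespace FormData

variable {U : Type*} [Group U] [Finite U] {Z : Subgroup U} {σ : MulAut U} {r m : ℕ}
  (D : FormData Z σ r m)
include D

/-- An isometry of a block commuting with `σ`, of order prime to `r`, is trivial on the block. -/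
theorem stab {ε : Z →* ℤˣ} (hε : D.Blk ε) (φ : MulAut U) (hσ : ∀ u, φ (σ u) = σ (φ u))
    (hcop : Nat.Coprime r (orderOf φ)) (hiso : ∀ u v, ε (D.cm (φ u) (φ v)) = ε (D.cm u v)) :
    ∀ u, φ u * u⁻¹ ∈ D.rad ε := by
  classical
  haveI := D.rad_normal ε
  set N := D.rad ε with hN
  letI : CommGroup (U ⧸ N) :=
    { (inferInstance : Group (U ⧸ N)) with
      mul_comm := fun a b => by
        obtain ⟨a, rfl⟩ := QuotientGroup.mk_surjective a
        obtain ⟨b, rfl⟩ := QuotientGroup.mk_surjective b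
        rw [← QuotientGroup.mk_mul, ← QuotientGroup.mk_mul, QuotientGroup.eq,
          show (a * b)⁻¹ * (b * a) = b⁻¹ * a⁻¹ * b⁻¹⁻¹ * a⁻¹⁻¹ by group]
        exact D.le_rad ε (D.comm b⁻¹ a⁻¹) }
  have hφN : N ≤ N.comap φ.toMonoidHom := fun u hu v => by
    show ε (D.cm (φ u) v) = 1
    rw [← φ.apply_symm_apply v, hiso]; exact hu _
  have hsN : N ≤ N.comap σ.toMonoidHom := fun u hu => D.sigma_rad hu
  let cW : AddMonoid.End (Additive (U ⧸ N)) := (QuotientGroup.map N N φ.toMonoidHom hφN).toAdditive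
  let sW : AddMonoid.End (Additive (U ⧸ N)) := (QuotientGroup.map N N σ.toMonoidHom hsN).toAdditive
  let mkA : U → Additive (U ⧸ N) := fun u => Additive.ofMul (QuotientGroup.mk u)
  have hmk : ∀ a : Additive (U ⧸ N), ∃ u : U, mkA u = a := fun a =>
    ⟨(Additive.toMul a).out, by simp [mkA]⟩
  have hcW : ∀ u, cW (mkA u) = mkA (φ u) := fun u => rfl
  have hsW : ∀ u, sW (mkA u) = mkA (σ u) := fun u => rfl
  have hzero : ∀ u, mkA u = 0 ↔ u ∈ N := fun u => QuotientGroup.eq_one_iff u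
  let val : U → U → ZMod 2 := fun u v => if ε (D.cm u v) = 1 then 0 else 1
  have hval0 : ∀ u v, val u v = 0 ↔ ε (D.cm u v) = 1 := fun u v => by
    simp only [val]; split <;> rename_i h <;> simp [h]
  have hadd : ∀ a b v, val (a * b) v = val a v + val b v := fun a b v => by
    simp only [val, D.cm_mul_left, map_mul]
    rcases Int.units_eq_one_or (ε (D.cm a v)) with h | h <;>
      rcases Int.units_eq_one_or (ε (D.cm b v)) with h' | h' <;> simp [h, h'] <;> decide
  have hsym : ∀ u v, val u v = val v u := fun u v => by simp only [val, D.cm_comm u v]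
  have hrad0 : ∀ u ∈ N, ∀ v, val u v = 0 := fun u hu v => (hval0 u v).mpr (hu v)
  let bf : Additive (U ⧸ N) → Additive (U ⧸ N) → ZMod 2 := fun x y =>
    val ((Additive.toMul x).out) ((Additive.toMul y).out)
  have hb : ∀ u v, bf (mkA u) (mkA v) = val u v := by
    intro u v
    obtain ⟨⟨n, hn⟩, e⟩ := QuotientGroup.mk_out_eq_mul N u
    obtain ⟨⟨k, hk⟩, e'⟩ := QuotientGroup.mk_out_eq_mul N v
    show val (QuotientGroup.mk u : U ⧸ N).out (QuotientGroup.mk v : U ⧸ N).out = val u v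
    rw [e, e', hadd, hsym u, hadd, hrad0 n hn, hrad0 k hk, add_zero, add_zero, hsym]
  let Bp : Additive (U ⧸ N) →+ Additive (U ⧸ N) →+ ZMod 2 :=
    AddMonoidHom.mk' (fun x => AddMonoidHom.mk' (bf x) (fun y y' => by
      obtain ⟨a, rfl⟩ := hmk x
      obtain ⟨b, rfl⟩ := hmk y
      obtain ⟨b', rfl⟩ := hmk y'
      rw [show mkA b + mkA b' = mkA (b * b') from rfl, hb, hb, hb, hsym, hadd, hsym b, hsym b']))
      fun x x' => AddMonoidHom.ext fun y => by
        obtain ⟨a, rfl⟩ := hmk x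
        obtain ⟨a', rfl⟩ := hmk x'
        obtain ⟨b, rfl⟩ := hmk y
        show bf (mkA a + mkA a') (mkA b) = bf (mkA a) (mkA b) + bf (mkA a') (mkA b)
        rw [show mkA a + mkA a' = mkA (a * a') from rfl, hb, hb, hb, hadd]
  have hsr : sW ^ (2 ^ m + 1) = 1 := by
    have hit : ∀ (k : ℕ) u, (sW ^ k) (mkA u) = mkA ((σ ^ k) u) := by
      intro k
      induction k with
      | zero => intro u; rfl
      | succ k ih =>
        intro u
        rw [pow_succ', H3.Shult.end_mul_apply, ih, hsW, pow_succ', MulAut.mul_apply]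
    refine AddMonoidHom.ext fun x => ?_
    obtain ⟨u, rfl⟩ := hmk x
    refine (hit (2 ^ m + 1) u).trans ?_
    rw [← D.hrm, D.hσ]; rfl
  have hpow := H3.Shult.isometry_pow_eq_one Bp
    (fun a => by
      obtain ⟨u, rfl⟩ := hmk a
      exact (hzero (u * u)).mpr (D.le_rad ε (D.sq u)))
    (fun y hy => by
      obtain ⟨v, rfl⟩ := hmk y
      refine (hzero v).mpr fun u => (hval0 v u).mp ?_
      rw [hsym, ← hb u v]
      exact hy _)
    sW cW hsr
    (fun x y => by
      obtain ⟨u, rfl⟩ := hmk x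
      obtain ⟨v, rfl⟩ := hmk y
      show bf (sW (mkA u)) (sW (mkA v)) = bf (mkA u) (mkA v)
      rw [hsW, hsW, hb, hb]
      simp only [val, D.cm_sigma])
    (fun x y => by
      obtain ⟨u, rfl⟩ := hmk x
      obtain ⟨v, rfl⟩ := hmk y
      show bf (cW (mkA u)) (cW (mkA v)) = bf (mkA u) (mkA v)
      rw [hcW, hcW, hb, hb]
      simp only [val, hiso])
    (AddMonoidHom.ext fun x => by
      obtain ⟨u, rfl⟩ := hmk x
      show cW (sW (mkA u)) = sW (cW (mkA u))
      rw [hsW, hcW, hcW, hsW, hσ])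
    (fun H hH => by
      let HU : Subgroup U :=
        { carrier := {g | mkA g ∈ H}
          one_mem' := H.zero_mem
          mul_mem' := fun {a b} ha hb => H.add_mem ha hb
          inv_mem' := fun {a} ha => H.neg_mem ha }
      rcases hε.2 HU (fun g hg => hH _ hg) (fun g hg => by
          show mkA g ∈ H
          rw [(hzero g).mpr hg]; exact H.zero_mem) with h | h
      · left
        refine eq_bot_iff.mpr fun a ha => ?_
        obtain ⟨u, rfl⟩ := hmk a
        exact AddSubgroup.mem_bot.mpr ((hzero u).mpr (h.le ha))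
      · right
        refine eq_top_iff.mpr fun a _ => ?_
        obtain ⟨u, rfl⟩ := hmk a
        exact h.ge (mem_top u))
  have hord : cW ^ orderOf φ = 1 := by
    have hit : ∀ (k : ℕ) u, (cW ^ k) (mkA u) = mkA ((φ ^ k) u) := by
      intro k
      induction k with
      | zero => intro u; rfl
      | succ k ih =>
        intro u
        rw [pow_succ', H3.Shult.end_mul_apply, ih, hcW, pow_succ', MulAut.mul_apply]
    refine AddMonoidHom.ext fun x => ?_
    obtain ⟨u, rfl⟩ := hmk x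
    refine (hit _ u).trans ?_
    rw [pow_orderOf_eq_one]; rfl
  have hone : cW = 1 := by
    have h := pow_gcd_eq_one.mpr ⟨hpow, hord⟩
    rwa [← D.hrm, hcop.gcd_eq_one, pow_one] at h
  intro u
  refine (hzero _).mp ?_
  show mkA (φ u) + -(mkA u) = 0
  rw [← hcW, hone]
  exact add_neg_cancel _

/-- Two blocks spanning with the third give a product that is no block. -/
theorem four {ε η ζ : Z →* ℤˣ} (hε : D.Blk ε) (hη : D.Blk η) (hζ : D.Blk ζ)
    (hne : D.rad ε ≠ D.rad η) (hP : ¬ D.rad ε ⊓ D.rad η ≤ D.rad ζ) :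
    ¬ D.Blk (ε * η * ζ) := by
  intro hν
  haveI := D.rad_normal ε
  haveI := D.rad_normal η
  haveI := D.rad_normal ζ
  set P := D.rad ε ⊓ D.rad η with hPdef
  haveI : P.Normal := Subgroup.normal_inf_normal _ _
  have hPinv : ∀ u ∈ P, σ u ∈ P := fun u hu => ⟨D.sigma_rad hu.1, D.sigma_rad hu.2⟩
  have htop : P ⊔ D.rad ζ = ⊤ := by
    refine (hζ.2 _ (fun y hy => ?_) le_sup_right).resolve_left fun he => hP (le_sup_left.trans he.le)
    obtain ⟨a, ha, b, hb, rfl⟩ := mem_sup_of_normal_right.mp hy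
    rw [map_mul]
    exact mul_mem (mem_sup_left (hPinv a ha)) (mem_sup_right (D.sigma_rad hb))
  have hle : D.rad (ε * η * ζ) ≤ D.rad ζ := by
    intro u hu v
    obtain ⟨a, ha, b, hb, rfl⟩ := mem_sup_of_normal_right.mp (htop.ge (mem_top v))
    have h1 : ε (D.cm u a) = 1 := by rw [D.cm_comm]; exact ha.1 u
    have h2 : η (D.cm u a) = 1 := by rw [D.cm_comm]; exact ha.2 u
    have h3 := hu a
    rw [MonoidHom.mul_apply, MonoidHom.mul_apply, h1, h2, one_mul, one_mul] at h3
    rw [D.cm_mul_right, map_mul, h3, one_mul, D.cm_comm]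
    exact hb u
  have heq : D.rad (ε * η * ζ) = D.rad ζ := by
    refine eq_of_le_of_card_ge hle (le_of_eq ?_)
    have h1 := (D.rad ζ).card_mul_index
    have h2 := (D.rad (ε * η * ζ)).card_mul_index
    rw [hζ.1] at h1
    rw [hν.1] at h2
    exact Nat.eq_of_mul_eq_mul_right (by positivity) (h1.trans h2.symm)
  -- the radical of `ζ` is in the radical of `ε η`
  have hsub : ∀ u ∈ D.rad ζ, ∀ v, ε (D.cm u v) * η (D.cm u v) = 1 := fun u hu v => by
    have h3 := (heq.ge hu) v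
    rwa [MonoidHom.mul_apply, MonoidHom.mul_apply, hu v, mul_one] at h3
  have htop2 : D.rad ε ⊔ D.rad η = ⊤ := by
    refine (hε.2 _ (fun y hy => ?_) le_sup_left).resolve_left fun he => hne ?_
    · obtain ⟨a, ha, b, hb, rfl⟩ := mem_sup_of_normal_right.mp hy
      rw [map_mul]
      exact mul_mem (mem_sup_left (D.sigma_rad ha)) (mem_sup_right (D.sigma_rad hb))
    · refine (eq_of_le_of_card_ge (le_sup_right.trans he.le) (le_of_eq ?_)).symm
      have h1 := (D.rad ε).card_mul_index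
      have h2 := (D.rad η).card_mul_index
      rw [hε.1] at h1
      rw [hη.1] at h2
      exact Nat.eq_of_mul_eq_mul_right (by positivity) (h1.trans h2.symm)
  have hzε : D.rad ζ ≤ D.rad ε := fun u hu v => by
    obtain ⟨a, ha, b, hb, rfl⟩ := mem_sup_of_normal_right.mp (htop2.ge (mem_top v))
    have hb1 : η (D.cm u b) = 1 := by rw [D.cm_comm]; exact hb u
    have h1 : ε (D.cm u b) = 1 := by
      have := hsub u hu b
      rwa [hb1, mul_one] at this
    rw [D.cm_mul_right, map_mul, h1, mul_one, D.cm_comm]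
    exact ha u
  have hzη : D.rad ζ ≤ D.rad η := fun u hu v => by
    have h := hsub u hu v
    rwa [hzε hu v, one_mul] at h
  refine hP ?_
  have : D.rad ζ = D.rad ε := by
    refine eq_of_le_of_card_ge hzε (le_of_eq ?_)
    have h1 := (D.rad ζ).card_mul_index
    have h2 := (D.rad ε).card_mul_index
    rw [hζ.1] at h1
    rw [hε.1] at h2
    exact Nat.eq_of_mul_eq_mul_right (by positivity) (h2.trans h1.symm)
  exact inf_le_left.trans this.ge

end FormData

open H85.Shult (Top fixed disp Inv)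

variable {G : Type*} [Group G] [Finite G] {σ : MulAut G} {r m p : ℕ} {S U Z H₀ : Subgroup G}

namespace Two

variable (B : Two σ r m p S U Z H₀)
include B

theorem act_sigma {φ : MulAut U} (hφ : φ ∈ act σ U) (u : U) :
    φ (restrict (show SInv σ U from B.cfg.invU) u) =
      restrict (show SInv σ U from B.cfg.invU) (φ u) := by
  obtain ⟨n, hn, -, he⟩ := mem_act.mp hφ
  refine Subtype.ext ?_
  rw [he]
  show n * σ (u : G) * n⁻¹ = σ ((φ u : U) : G)
  rw [he, map_mul, map_mul, map_inv, hn]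

theorem act_Z {φ : MulAut U} (hφ : φ ∈ act σ U) {z : U} (hz : z ∈ Z.subgroupOf U) :
    φ z ∈ Z.subgroupOf U :=
  (B.fd.fix _).mp (by rw [← B.act_sigma hφ, (B.fd.fix z).mpr hz])

theorem act_cop {φ : MulAut U} (hφ : φ ∈ act σ U) : Nat.Coprime r (orderOf φ) := by
  obtain ⟨n, hn, hnN, he⟩ := mem_act.mp hφ
  have : U.normalizerMonoidHom ⟨n, hnN⟩ = φ := MulEquiv.ext fun u => Subtype.ext (he u).symm
  refine (B.cfg.hr.coprime_iff_not_dvd.mpr fun hd => B.cfg.hcop ?_)
  refine (hd.trans ?_).trans (card_subgroup_dvd_card (normalizer (U : Set G)))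
  rw [← this]
  exact (orderOf_map_dvd _ _).trans (orderOf_dvd_natCard _)

/-- An induced automorphism restricted to `Z`. -/
def zmap (B : Two σ r m p S U Z H₀) (φ : MulAut U) (hφ : φ ∈ act σ U) :
    (Z.subgroupOf U) →* (Z.subgroupOf U) where
  toFun z := ⟨φ z, B.act_Z hφ z.2⟩
  map_one' := Subtype.ext (by simp)
  map_mul' a b := Subtype.ext (by simp)

/-- The character `ε ∘ φ`. -/
def pull (B : Two σ r m p S U Z H₀) (φ : MulAut U) (hφ : φ ∈ act σ U)
    (ε : (Z.subgroupOf U) →* ℤˣ) : (Z.subgroupOf U) →* ℤˣ :=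
  ε.comp (B.zmap φ hφ)

theorem pull_apply {φ : MulAut U} (hφ : φ ∈ act σ U) (ε : (Z.subgroupOf U) →* ℤˣ)
    (z : Z.subgroupOf U) : B.pull φ hφ ε z = ε ⟨φ z, B.act_Z hφ z.2⟩ := rfl

theorem pull_mul {φ ψ : MulAut U} (hφ : φ ∈ act σ U) (hψ : ψ ∈ act σ U)
    (ε : (Z.subgroupOf U) →* ℤˣ) :
    B.pull (φ * ψ) (mul_mem hφ hψ) ε = B.pull ψ hψ (B.pull φ hφ ε) :=
  MonoidHom.ext fun z => rfl

theorem pull_one (ε : (Z.subgroupOf U) →* ℤˣ) : B.pull 1 (one_mem _) ε = ε :=
  MonoidHom.ext fun z => rfl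

theorem pull_odd {φ : MulAut U} (hφ : φ ∈ act σ U) {ε : (Z.subgroupOf U) →* ℤˣ}
    (hε : OddCh U Z ε) : OddCh U Z (B.pull φ hφ ε) := by
  obtain ⟨n, hn, hnN, he⟩ := mem_act.mp hφ
  intro z hz hz1
  refine hε ⟨φ z, B.act_Z hφ z.2⟩ ?_ fun h => hz1 ?_
  · show ((φ (z : U) : U) : G) ∈ center G
    rw [he]
    exact (inferInstance : (center G).Normal).conj_mem _ hz n
  · have h1 : φ (z : U) = 1 := congrArg Subtype.val h
    exact Subtype.ext (φ.injective (by rw [h1, OneMemClass.coe_one, map_one]))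

theorem pull_blk {φ : MulAut U} (hφ : φ ∈ act σ U) {ε : (Z.subgroupOf U) →* ℤˣ}
    (hε : B.fd.Blk ε) : B.fd.Blk (B.pull φ hφ ε) :=
  Cfg.blk_comp B.fd φ (fun u => B.act_sigma hφ u) (B.zmap φ hφ) (fun z => rfl) hε

theorem cm_act {φ : MulAut U} (hφ : φ ∈ act σ U) (u v : U) :
    B.fd.cm (φ u) (φ v) = ⟨φ (B.fd.cm u v), B.act_Z hφ (B.fd.cm u v).2⟩ :=
  Subtype.ext (by
    show φ u * φ v * (φ u)⁻¹ * (φ v)⁻¹ = φ (u * v * u⁻¹ * v⁻¹)
    simp only [map_mul, map_inv])

/-- An induced automorphism fixing a block is trivial on it. -/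
theorem stab {φ : MulAut U} (hφ : φ ∈ act σ U) {ε : (Z.subgroupOf U) →* ℤˣ} (hε : B.fd.Blk ε)
    (hfix : B.pull φ hφ ε = ε) : ∀ u, φ u * u⁻¹ ∈ B.fd.rad ε :=
  B.fd.stab hε φ (fun u => B.act_sigma hφ u) (B.act_cop hφ) fun u v => by
    conv_rhs => rw [← hfix]
    rw [B.pull_apply, B.cm_act hφ]

/-- An induced automorphism trivial modulo `Z` is trivial. -/
theorem eq_one_of_trivial_mod {φ : MulAut U} (hφ : φ ∈ act σ U)
    (h : ∀ u : U, φ u * u⁻¹ ∈ Z.subgroupOf U) : φ = 1 := by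
  obtain ⟨n, hn, hnN, he⟩ := mem_act.mp hφ
  have hcm : ∀ u v, B.fd.cm (φ u) (φ v) = B.fd.cm u v := fun u v => by
    have eu : φ u = φ u * u⁻¹ * u := by group
    have ev : φ v = φ v * v⁻¹ * v := by group
    conv_lhs => rw [eu, ev]
    rw [B.fd.cm_mul_left, B.fd.cm_of_mem (h u), one_mul, B.fd.cm_mul_right, B.fd.cm_comm u,
      B.fd.cm_of_mem (h v), one_mul]
  let N : Subgroup G :=
    { carrier := {z | z ∈ Z ∧ n * z = z * n}
      one_mem' := ⟨one_mem Z, by simp⟩
      mul_mem' := fun {a b} ha hb => ⟨mul_mem ha.1 hb.1, by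
        rw [← mul_assoc, ha.2, mul_assoc, hb.2, mul_assoc]⟩
      inv_mem' := fun {a} ha => ⟨inv_mem ha.1, by
        rw [B.inv_eq ha.1]; exact ha.2⟩ }
  have hle : Z ≤ N := H10.Shult.Rank.Z_le_of_comm B.cfg (fun z hz => hz.1) fun u hu v hv => by
    refine ⟨B.cfg.comU u hu v hv, ?_⟩
    have h1 := congrArg (fun t => ((t : Z.subgroupOf U) : U)) ((B.cm_act hφ ⟨u, hu⟩ ⟨v, hv⟩).symm.trans
      (hcm ⟨u, hu⟩ ⟨v, hv⟩))
    have h2 : ((φ (B.fd.cm ⟨u, hu⟩ ⟨v, hv⟩ : U) : U) : G) = u * v * u⁻¹ * v⁻¹ :=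
      congrArg Subtype.val h1
    rw [he] at h2
    rw [← mul_inv_eq_iff_eq_mul]
    exact h2
  refine MulEquiv.ext fun u => Subtype.ext ?_
  rw [he, H3.Shult.cent B.cfg hn hnN (fun z hz => (hle hz).2) u u.2, mul_inv_cancel_right]
  rfl

/-- An induced automorphism fixing two blocks with radicals meeting in `Z` is trivial. -/
theorem eq_one_of_two_fixed {φ : MulAut U} (hφ : φ ∈ act σ U) {ε η : (Z.subgroupOf U) →* ℤˣ}
    (hε : B.fd.Blk ε) (hη : B.fd.Blk η) (hε' : B.pull φ hφ ε = ε) (hη' : B.pull φ hφ η = η)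
    (hinf : B.fd.rad ε ⊓ B.fd.rad η ≤ Z.subgroupOf U) : φ = 1 :=
  B.eq_one_of_trivial_mod hφ fun u => hinf ⟨B.stab hφ hε hε' u, B.stab hφ hη hη' u⟩

end Two

end H41.Shult
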