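import Cfsg.Agent.H41.Shult.TwoAct
import Cfsg.Agent.H12.Shult.Top

/-!
Shult's fixed point theorem, several radicals: a fixed element carrying a noncentral element of `Z`
into the maximal invariant overgroup lies in it.
-/

set_option autoImplicit false
set_option linter.all false

open Subgroup

namespace H41.Shult

open H85.Shult (Top fixed disp Inv)

variable {G : Type*} [Group G] [Finite G] {σ : MulAut G} {r m p : ℕ} {S U Z H₀ : Subgroup G}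

namespace Two

variable (B : Two σ r m p S U Z H₀)
include B

theorem S_norm_U {s u : G} (hs : s ∈ S) (hu : u ∈ U) : s * u * s⁻¹ ∈ U :=
  (mem_normalizer_iff.mp (B.cfg.S_le_normU hs) u).mp hu

theorem S_norm_Z {s z : G} (hs : s ∈ S) (hz : z ∈ Z) : s * z * s⁻¹ ∈ Z := by
  obtain ⟨u, hu, a, ha, hσa, rfl⟩ := H10.Shult.Rank.exists_US B.cfg hs
  have h1 : a * z * a⁻¹ ∈ Z := B.cfg.mem_Z (B.S_norm_U ha (B.hZU hz))
    (by simp only [map_mul, map_inv, hσa, B.fixZ hz])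
  rw [show u * a * z * (u * a)⁻¹ = u * (a * z * a⁻¹) * u⁻¹ by group, B.cfg.cenU u hu _ h1,
    mul_inv_cancel_right]
  exact h1

theorem exists_noncentral : ∃ e ∈ Z, e ∉ center G := by
  obtain ⟨e, he, -, -, hne, -, -⟩ := H12.Shult.exists_four B.cfg B.h4
  exact ⟨e, he, hne⟩

/-- An involution modulo the centre centralises a noncentral element of `Z`. -/
theorem exists_ncen_Z {x : G} (hx : x ∈ S) (hx2 : x * x ∈ center G) :
    ∃ z ∈ Z, z ∉ center G ∧ z ∈ ncen x := by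
  obtain ⟨e, he, hne⟩ := B.exists_noncentral
  have hf := B.S_norm_Z hx he
  obtain ⟨f, hfe⟩ : ∃ f, f = x * e * x⁻¹ := ⟨_, rfl⟩
  rw [← hfe] at hf
  by_cases hc : e * f ∈ center G
  · refine ⟨e, he, hne, ncen_symm (mem_ncen.mpr ?_)⟩
    rw [← hfe, B.inv_eq he, B.cfg.cenU f (B.hZU hf) e he]
    exact hc
  · refine ⟨e * f, mul_mem he hf, hc, ncen_symm (mem_ncen.mpr ?_)⟩
    have hxx : x * f * x⁻¹ = e := by
      calc x * f * x⁻¹ = x * x * e * (x * x)⁻¹ := by rw [hfe]; group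
        _ = e * (x * x) * (x * x)⁻¹ := by rw [mem_center_iff.mp hx2 e]
        _ = e := by group
    rw [show x * (e * f) * x⁻¹ = (x * e * x⁻¹) * (x * f * x⁻¹) by group, ← hfe, hxx,
      B.cfg.cenU f (B.hZU hf) e he, mul_inv_cancel]
    exact one_mem _

/-- In an isotropic invariant subgroup the radicals of odd blocks meet only in `Z`. -/
theorem iso_inf {F : Subgroup G} (hF : Inv σ F) (hFU : F ≤ U) (hI : Iso F)
    {ε : (Z.subgroupOf U) →* ℤˣ} (hεo : OddCh U Z ε) (hεb : B.fd.Blk ε) {x : U}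
    (hxF : (x : G) ∈ F) (hxR : x ∈ B.fd.rad ε) : (x : G) ∈ Z := by
  by_contra hxZ
  let F' : Subgroup U := F.subgroupOf U ⊓ B.fd.rad ε
  have hzero : ∀ a ∈ F', ∀ b ∈ F.subgroupOf U, B.fd.cm a b = 1 := by
    intro a ha b hb
    by_contra hne
    exact hεo _ (hI _ ha.1 _ hb) hne (ha.2 b)
  have hF'i : ∀ a ∈ F', restrict (show SInv σ U from B.cfg.invU) a ∈ F' := fun a ha =>
    ⟨hF _ ha.1, B.fd.sigma_rad ha.2⟩
  obtain ⟨η, hηo, hηb, hout⟩ := B.exists_oblk hxZ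
  haveI := B.fd.rad_normal η
  have htop : F' ⊔ B.fd.rad η = ⊤ := by
    refine (hηb.2 _ (fun y hy => ?_) le_sup_right).resolve_left fun he =>
      hout (he.le (mem_sup_left ⟨hxF, hxR⟩))
    obtain ⟨a, ha, b, hb, rfl⟩ := mem_sup_of_normal_right.mp hy
    rw [map_mul]
    exact mul_mem (mem_sup_left (hF'i a ha)) (mem_sup_right (B.fd.sigma_rad hb))
  refine hout fun v => ?_
  obtain ⟨a, ha, b, hb, rfl⟩ := mem_sup_of_normal_right.mp (htop.ge (mem_top v))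
  rw [B.fd.cm_mul_right, map_mul, B.fd.cm_comm x a, hzero a ha x hxF, map_one, one_mul,
    B.fd.cm_comm x b]
  exact hb x

/-- A minimal property: nested isotropic invariant subgroups above `Z` are equal. -/
theorem iso_eq {F X : Subgroup G} (hF : Inv σ F) (hX : Inv σ X) (hXU : X ≤ U) (hI : Iso X)
    (hZF : Z ≤ F) (hFX : F ≤ X) (hne : ¬ F ≤ Z) : F = X := by
  refine le_antisymm hFX fun x hx => ?_
  obtain ⟨f, hf, hfZ⟩ := SetLike.not_le_iff_exists.mp hne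
  obtain ⟨ε, hεo, hεb, -⟩ := B.exists_oblk (u := ⟨f, hXU (hFX hf)⟩) hfZ
  haveI := B.fd.rad_normal ε
  have htop : F.subgroupOf U ⊔ B.fd.rad ε = ⊤ := by
    refine (hεb.2 _ (fun y hy => ?_) le_sup_right).resolve_left fun he => ?_
    · obtain ⟨a, ha, b, hb, rfl⟩ := mem_sup_of_normal_right.mp hy
      rw [map_mul]
      exact mul_mem (mem_sup_left (hF _ (mem_subgroupOf.mp ha)))
        (mem_sup_right (B.fd.sigma_rad hb))
    · exact hfZ (B.iso_inf hX hXU hI hεo hεb (x := ⟨f, hXU (hFX hf)⟩) (hFX hf)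
        (he.le (mem_sup_left (show (⟨f, hXU (hFX hf)⟩ : U) ∈ F.subgroupOf U from hf))))
  obtain ⟨a, ha, b, hb, he⟩ := mem_sup_of_normal_right.mp (htop.ge (mem_top (⟨x, hXU hx⟩ : U)))
  have he' : (a : G) * b = x := congrArg Subtype.val he
  have hbX : (b : G) ∈ X := by
    have h1 := mul_mem (inv_mem (hFX (mem_subgroupOf.mp ha))) hx
    have e1 : (a : G)⁻¹ * x = b := by rw [← he', inv_mul_cancel_left]
    rwa [e1] at h1
  rw [← he']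
  exact mul_mem (mem_subgroupOf.mp ha) (hZF (B.iso_inf hX hXU hI hεo hεb hbX hb))

/-- A fixed element carrying a noncentral element of `Z` into `K U` lies in `H₀`. -/
theorem mem_of_ZKU {K : Subgroup G} (hK : CoreSub σ p U H₀ K) {g e : G} (hg : σ g = g) (he : e ∈ Z)
    (hne : e ∉ center G) (h : g * e * g⁻¹ ∈ K ⊔ U) : g ∈ H₀ := by
  obtain ⟨f, hf⟩ : ∃ f, f = g * e * g⁻¹ := ⟨_, rfl⟩
  rw [← hf] at h
  have hσf : σ f = f := by rw [hf]; simp only [map_mul, map_inv, hg, B.fixZ he]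
  have hf2 : f * f = 1 := by
    rw [hf, show g * e * g⁻¹ * (g * e * g⁻¹) = g * (e * e) * g⁻¹ by group, B.cfg.sqZ e he]; group
  obtain ⟨c, hc, hσc, hcS⟩ := B.conj_into_S (sInv_zpowers hσf)
    (zpowers_le.mpr (B.KU_le hK h)) (isPGroup_zpowers_of_sq hf2)
  have hfZ : c * f * c⁻¹ ∈ Z := B.cfg.mem_Z (B.KS hK (B.KU_norm hK hc h) (hcS f (mem_zpowers f)))
    (by simp only [map_mul, map_inv, hσc, hσf])
  have hne' : c * f * c⁻¹ ∉ center G := fun hh => hne (by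
    have := (inferInstance : (center G).Normal).conj_mem _ hh (c * g)⁻¹
    rwa [hf, show (c * g)⁻¹ * (c * (g * e * g⁻¹) * c⁻¹) * (c * g)⁻¹⁻¹ = e by group] at this)
  have hcg : c * g ∈ H₀ := B.mem_of_conjU (by rw [map_mul, hσc, hg]) fun u hu => by
    refine B.ncen_le hfZ hne' ?_
    rw [show c * f * c⁻¹ = c * g * e * (c * g)⁻¹ by rw [hf]; group]
    exact conj_mem_ncen (mem_ncen.mpr (by
      rw [B.cfg.cenU u hu e he, mul_inv_cancel_right, mul_inv_cancel]; exact one_mem _))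
  simpa using mul_mem (inv_mem hc) hcg

/-- The elements of `U` centralised by `w` modulo `Z`. -/
def ax (B : Two σ r m p S U Z H₀) (w : G) (hw : w ∈ S) : Subgroup G where
  carrier := {u | u ∈ U ∧ w * u * w⁻¹ * u⁻¹ ∈ Z}
  one_mem' := ⟨one_mem U, by simp⟩
  mul_mem' := fun {a b} ha hb => ⟨mul_mem ha.1 hb.1, by
    rw [show w * (a * b) * w⁻¹ * (a * b)⁻¹ = (w * a * w⁻¹) * (w * b * w⁻¹ * b⁻¹) * a⁻¹ by group,
      B.cfg.cenU _ (B.S_norm_U hw ha.1) _ hb.2, mul_assoc]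
    exact mul_mem hb.2 ha.2⟩
  inv_mem' := fun {a} ha => ⟨inv_mem ha.1, by
    rw [show w * a⁻¹ * w⁻¹ * a⁻¹⁻¹ = a⁻¹ * ((w * a * w⁻¹ * a⁻¹)⁻¹ * a) by group,
      ← B.cfg.cenU a ha.1 _ (inv_mem ha.2), inv_mul_cancel_left]
    exact inv_mem ha.2⟩

theorem ax_le {w : G} (hw : w ∈ S) : B.ax w hw ≤ U := fun u hu => hu.1

theorem Z_le_ax {w : G} (hw : w ∈ S) : Z ≤ B.ax w hw := fun z hz =>
  ⟨B.hZU hz, mul_mem (B.S_norm_Z hw hz) (inv_mem hz)⟩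

theorem inv_ax {w : G} (hw : w ∈ S) (hσw : σ w = w) : Inv σ (B.ax w hw) := fun u hu =>
  ⟨B.cfg.invU u hu.1, by
    have h := B.fixZ hu.2
    simp only [map_mul, map_inv, hσw] at h
    rw [h]; exact hu.2⟩

end Two

/-- A normalised pair: `P` is a Sylow 2-subgroup of `H₀ ∩ H₀ᵍ`, with both images in `S`. -/
structure Nrm (σ : MulAut G) (S H₀ P : Subgroup G) (g : G) : Prop where
  hg : σ g = g
  inv : Inv σ P
  two : IsPGroup 2 P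
  le : P ≤ S
  conj : ∀ x ∈ P, g⁻¹ * x * g ∈ S
  max : ∀ T : Subgroup G, P ≤ T → T ≤ H₀ → (∀ t ∈ T, g⁻¹ * t * g ∈ H₀) → IsPGroup 2 T → T ≤ P

omit [Finite G] in
theorem Nrm.symm {σ : MulAut G} {S H₀ P : Subgroup G} {g : G} (hN : Nrm σ S H₀ P g) :
    Nrm σ S H₀ (P.map (MulAut.conj g⁻¹).toMonoidHom) g⁻¹ where
  hg := by rw [map_inv, hN.hg]
  inv := by
    rintro _ ⟨x, hx, rfl⟩
    exact ⟨σ x, hN.inv x hx, by simp [hN.hg]⟩
  two := hN.two.map _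
  le := by
    rintro _ ⟨x, hx, rfl⟩
    show g⁻¹ * x * g⁻¹⁻¹ ∈ S
    rw [inv_inv]; exact hN.conj x hx
  conj := by
    rintro _ ⟨x, hx, rfl⟩
    show g⁻¹⁻¹ * (g⁻¹ * x * g⁻¹⁻¹) * g⁻¹ ∈ S
    simpa [mul_assoc] using hN.le hx
  max T hPT hT hTg hT2 := by
    intro t ht
    have hmem : g * t * g⁻¹ ∈ P := by
      refine hN.max (T.map (MulAut.conj g).toMonoidHom) (fun x hx => ⟨g⁻¹ * x * g, hPT ⟨x, hx, ?_⟩, ?_⟩)
        ?_ ?_ (hT2.map _) ⟨t, ht, rfl⟩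
      · show g⁻¹ * x * g⁻¹⁻¹ = g⁻¹ * x * g
        rw [inv_inv]
      · show g * (g⁻¹ * x * g) * g⁻¹ = x
        group
      · rintro _ ⟨y, hy, rfl⟩
        have := hTg y hy
        rwa [inv_inv] at this
      · rintro _ ⟨y, hy, rfl⟩
        show g⁻¹ * (g * y * g⁻¹) * g ∈ H₀
        simpa [mul_assoc] using hT hy
    exact ⟨_, hmem, show g⁻¹ * (g * t * g⁻¹) * g⁻¹⁻¹ = t by group⟩

namespace Two

variable (B : Two σ r m p S U Z H₀) {P : Subgroup G} {g : G} (hN : Nrm σ S H₀ P g)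
include B hN

/-- `P` absorbs the 2-subgroups of `H₀ ∩ H₀ᵍ` it normalises. -/
theorem absorb {T : Subgroup G} (hT : T ≤ H₀) (hTg : ∀ t ∈ T, g⁻¹ * t * g ∈ H₀)
    (hT2 : IsPGroup 2 T) (hn : ∀ x ∈ P, ∀ t ∈ T, x * t * x⁻¹ ∈ T) : T ≤ P := by
  have hle : P ≤ normalizer (T : Set G) := fun x hx =>
    H10.Shult.Rank.mem_normalizer_of_conj (hn x hx)
  refine le_sup_right.trans (hN.max (P ⊔ T) le_sup_left (sup_le (hN.le.trans B.hSM) hT) ?_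
    (hN.two.to_sup_of_normal_right' hT2 hle))
  intro t ht
  obtain ⟨a, ha, b, hb, rfl⟩ := H12.Shult.exists_mul_of_mem_sup' hle ht
  rw [show g⁻¹ * (a * b) * g = g⁻¹ * a * g * (g⁻¹ * b * g) by group]
  exact mul_mem (B.hSM (hN.conj a ha)) (hTg b hb)

theorem Z_mem_P {z : G} (hz : z ∈ Z) (hzg : g⁻¹ * z * g ∈ H₀) : z ∈ P := by
  refine B.absorb hN (T := Z ⊓ H₀.comap (MulAut.conj g⁻¹).toMonoidHom)
    (inf_le_left.trans B.hZM) ?_ ((B.form.pU.to_le B.hZU).to_le inf_le_left) ?_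
    ⟨hz, show g⁻¹ * z * g⁻¹⁻¹ ∈ H₀ by rwa [inv_inv]⟩
  · intro t ht
    have := ht.2
    simpa [mul_assoc] using this
  · intro x hx t ht
    refine ⟨B.S_norm_Z (hN.le hx) ht.1, ?_⟩
    show g⁻¹ * (x * t * x⁻¹) * g⁻¹⁻¹ ∈ H₀
    have h2 : g⁻¹ * t * g⁻¹⁻¹ ∈ H₀ := ht.2
    have h3 := B.hSM (hN.conj x hx)
    have := mul_mem (mul_mem h3 h2) (inv_mem h3)
    convert this using 1
    group

theorem conjZ_mem_P {z : G} (hz : z ∈ Z) (hzg : g * z * g⁻¹ ∈ H₀) : g * z * g⁻¹ ∈ P := by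
  obtain ⟨y, hy, he⟩ := B.Z_mem_P hN.symm hz (by rwa [inv_inv])
  have he' : g⁻¹ * y * g⁻¹⁻¹ = z := he
  rw [← he']
  simpa [mul_assoc] using hy

/-- What commutes modulo the centre with an image of `Z` is carried back into `H₀`. -/
theorem back {z y : G} (hz : z ∈ Z) (hzn : z ∉ center G) (h : y ∈ ncen (g * z * g⁻¹)) :
    g⁻¹ * y * g ∈ H₀ := by
  refine B.ncen_le hz hzn ?_
  have := conj_mem_ncen (c := g⁻¹) h
  rwa [show g⁻¹ * (g * z * g⁻¹) * g⁻¹⁻¹ = z by group, inv_inv] at this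

theorem conj_ncen {z : G} (hz : z ∈ Z) (hzn : z ∉ center G) (hzg : g * z * g⁻¹ ∈ H₀) {q : G}
    (hq : g * z * g⁻¹ * q = q * (g * z * g⁻¹)) : g⁻¹ * q * g ∈ H₀ :=
  B.back hN hz hzn (mem_ncen.mpr (by rw [← hq]; simp))

/-- Moved parts centralised by the image of `z` are carried back into `K U`. -/
theorem ax_mov {K : Subgroup G} (hK : CoreSub σ p U H₀ K) {z : G} (hz : z ∈ Z)
    (hzn : z ∉ center G) (hzg : g * z * g⁻¹ ∈ H₀) {a : G}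
    (ha : a ∈ B.ax (g * z * g⁻¹) (hN.le (B.conjZ_mem_P hN hz hzg))) :
    ∃ q ∈ B.ax (g * z * g⁻¹) (hN.le (B.conjZ_mem_P hN hz hzg)), ∃ t ∈ Z, a = q * t ∧
      g * z * g⁻¹ * q = q * (g * z * g⁻¹) ∧ g⁻¹ * q * g ∈ K ⊔ U := by
  have hwS := hN.le (B.conjZ_mem_P hN hz hzg)
  have hσw : σ (g * z * g⁻¹) = g * z * g⁻¹ := by simp only [map_mul, map_inv, hN.hg, B.fixZ hz]
  have hX := B.inv_ax hwS hσw
  have step : ∀ b ∈ B.ax _ hwS, ∃ b' ∈ B.ax _ hwS, ∃ t ∈ Z, b = b'⁻¹ * σ b' * t := by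
    intro b hb
    obtain ⟨b', hb', t, ht, rfl⟩ := B.exists_mov hb.1
    refine ⟨b', B.form.mem_of_moved hX (B.Z_le_ax hwS) (B.ax_le hwS) hb' ?_, t, ht, rfl⟩
    have := mul_mem hb (inv_mem (B.Z_le_ax hwS ht))
    rwa [mul_inv_cancel_right] at this
  obtain ⟨a', ha', t, ht, rfl⟩ := step a ha
  obtain ⟨a'', ha'', t', ht', ha'e⟩ := step a' ha'
  refine ⟨a'⁻¹ * σ a', mul_mem (inv_mem ha') (hX a' ha'), t, ht, rfl,
    B.comm_mov hσw ha'.1 ha'.2, ?_⟩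
  obtain ⟨q', hq'⟩ : ∃ q, q = a''⁻¹ * σ a'' := ⟨_, rfl⟩
  have hq'U : q' ∈ U := hq' ▸ mul_mem (inv_mem ha''.1) (B.cfg.invU _ ha''.1)
  have e : a'⁻¹ * σ a' = q'⁻¹ * σ q' := by
    rw [ha'e, ← hq', map_mul, B.fixZ ht', show (q' * t')⁻¹ * (σ q' * t') = t'⁻¹ * ((q'⁻¹ * σ q') * t')
      by group, B.cfg.cenU _ (mul_mem (inv_mem hq'U) (B.cfg.invU _ hq'U)) _ ht',
      inv_mul_cancel_left]
  have hc : g⁻¹ * q' * g ∈ H₀ := B.conj_ncen hN hz hzn hzg (hq' ▸ B.comm_mov hσw ha''.1 ha''.2)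
  have := B.mov_mem hK hc
  rw [map_mul, map_mul, map_inv, hN.hg] at this
  rw [e]
  convert this using 1
  group

/-- A normalised counterexample has isotropic axes. -/
theorem ax_iso (hgM : g ∉ H₀) {z : G} (hz : z ∈ Z) (hzn : z ∉ center G)
    (hzg : g * z * g⁻¹ ∈ H₀) : Iso (B.ax (g * z * g⁻¹) (hN.le (B.conjZ_mem_P hN hz hzg))) := by
  obtain ⟨K, hK⟩ := B.exists_core
  intro a ha b hb
  obtain ⟨qa, hqa, ta, hta, rfl, -, hKa⟩ := B.ax_mov hN hK hz hzn hzg ha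
  obtain ⟨qb, hqb, tb, htb, rfl, -, hKb⟩ := B.ax_mov hN hK hz hzn hzg hb
  have e : qa * ta * (qb * tb) * (qa * ta)⁻¹ * (qb * tb)⁻¹ = qa * qb * qa⁻¹ * qb⁻¹ := by
    have F := B.form
    have h1 := F.cm_left hqa.1 (B.hZU hta) (mul_mem hqb.1 (B.hZU htb))
    rw [F.cm_of_memZ hta (mul_mem hqb.1 (B.hZU htb)), mul_one,
      F.cm_right hqa.1 hqb.1 (B.hZU htb), F.cm_symm hqa.1 (B.hZU htb),
      F.cm_of_memZ htb hqa.1, mul_one] at h1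
    exact h1
  rw [e]
  by_contra hne
  refine hgM ?_
  have := B.mem_of_ZKU hK (g := g⁻¹) (by rw [map_inv, hN.hg]) (B.cfg.comU _ hqa.1 _ hqb.1) hne ?_
  · simpa using inv_mem this
  · have hh := mul_mem (mul_mem (mul_mem hKa hKb) (inv_mem hKa)) (inv_mem hKb)
    convert hh using 1
    group

/-- All axes agree. -/
theorem ax_eq (hgM : g ∉ H₀) {z z' : G} (hz : z ∈ Z) (hzn : z ∉ center G)
    (hzg : g * z * g⁻¹ ∈ H₀) (hz' : z' ∈ Z) (hzn' : z' ∉ center G) (hzg' : g * z' * g⁻¹ ∈ H₀) :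
    B.ax (g * z * g⁻¹) (hN.le (B.conjZ_mem_P hN hz hzg)) =
      B.ax (g * z' * g⁻¹) (hN.le (B.conjZ_mem_P hN hz' hzg')) := by
  have hw := hN.le (B.conjZ_mem_P hN hz hzg)
  have hw' := hN.le (B.conjZ_mem_P hN hz' hzg')
  have hσ : ∀ y ∈ Z, σ (g * y * g⁻¹) = g * y * g⁻¹ := fun y hy => by
    simp only [map_mul, map_inv, hN.hg, B.fixZ hy]
  have hww : g * z * g⁻¹ * (g * z' * g⁻¹) = g * z' * g⁻¹ * (g * z * g⁻¹) := by
    rw [show g * z * g⁻¹ * (g * z' * g⁻¹) = g * (z * z') * g⁻¹ by group,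
      B.cfg.cenU z (B.hZU hz) z' hz']
    group
  set X := B.ax (g * z * g⁻¹) hw with hX
  set X' := B.ax (g * z' * g⁻¹) hw' with hX'
  -- a common point outside `Z`
  obtain ⟨u, hu, huZ⟩ : ∃ u ∈ U, u ∉ Z ∧ True := by
    obtain ⟨v, hv, hmv⟩ := B.cfg.exists_moved
    exact ⟨v, hv, fun h => hmv (B.fixZ h), trivial⟩
  have hfp : ∀ (w : G) (hwS : w ∈ S), w * w = 1 → ∀ F : Subgroup G, F ≤ U →
      (∀ f ∈ F, w * f * w⁻¹ ∈ F) → ¬ F ≤ Z → ∃ f ∈ F, f ∉ Z ∧ f ∈ B.ax w hwS := by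
    intro w hwS hw2 F hFU hFw hFZ
    obtain ⟨f, hf, hfZ⟩ := SetLike.not_le_iff_exists.mp hFZ
    by_cases hin : w * f * w⁻¹ * f⁻¹ ∈ Z
    · exact ⟨f, hf, hfZ, hFU hf, hin⟩
    · have hf' := hFw f hf
      refine ⟨f * (w * f * w⁻¹), mul_mem hf hf', fun hZ => hin ?_, mul_mem (hFU hf) (hFU hf'), ?_⟩
      · rw [show w * f * w⁻¹ * f⁻¹ = f⁻¹ * (f * (w * f * w⁻¹)) * f * (f * f)⁻¹ by group]
        refine mul_mem ?_ (inv_mem (B.cfg.sqU f (hFU hf)))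
        rw [mul_assoc, ← B.cfg.cenU f (hFU hf) _ hZ, inv_mul_cancel_left]
        exact hZ
      · have hback : w * (w * f * w⁻¹) * w⁻¹ = f := by
          rw [show w * (w * f * w⁻¹) * w⁻¹ = w * w * f * (w * w)⁻¹ by group, hw2]; group
        rw [show w * (f * (w * f * w⁻¹)) * w⁻¹ = w * f * w⁻¹ * (w * (w * f * w⁻¹) * w⁻¹) by group,
          hback]
        have := B.cfg.comU _ (hFU hf') _ (hFU hf)
        convert this using 1
        group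
  have hsq : ∀ y ∈ Z, g * y * g⁻¹ * (g * y * g⁻¹) = 1 := fun y hy => by
    rw [show g * y * g⁻¹ * (g * y * g⁻¹) = g * (y * y) * g⁻¹ by group, B.cfg.sqZ y hy]; group
  have hnot : ¬ X ≤ Z := by
    obtain ⟨f, -, hfZ, hfX⟩ := hfp _ hw (hsq z hz) U le_rfl (fun f hf => B.S_norm_U hw hf)
      (fun h => huZ.1 (h hu))
    exact fun h => hfZ (h hfX)
  have hXinv : ∀ f ∈ X, g * z' * g⁻¹ * f * (g * z' * g⁻¹)⁻¹ ∈ X := fun f hf => by
    refine ⟨B.S_norm_U hw' hf.1, ?_⟩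
    have h1 := B.S_norm_Z hw' hf.2
    have key : ∀ w w' : G, w * w' = w' * w → w * (w' * f * w'⁻¹) * w⁻¹ * (w' * f * w'⁻¹)⁻¹ =
        w' * (w * f * w⁻¹ * f⁻¹) * w'⁻¹ := fun w w' e => by
      rw [show w * (w' * f * w'⁻¹) * w⁻¹ = (w * w') * f * (w * w')⁻¹ by group, e]
      group
    rw [key _ _ hww]
    exact h1
  obtain ⟨f, hfX, hfZ, hfX'⟩ := hfp _ hw' (hsq z' hz') X (B.ax_le hw) hXinv hnot
  have hFinv : Inv σ (X ⊓ X') := fun y hy =>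
    ⟨B.inv_ax hw (hσ z hz) y hy.1, B.inv_ax hw' (hσ z' hz') y hy.2⟩
  have hne : ¬ X ⊓ X' ≤ Z := fun h => hfZ (h ⟨hfX, hfX'⟩)
  have hZle : Z ≤ X ⊓ X' := le_inf (B.Z_le_ax hw) (B.Z_le_ax hw')
  show X = X'
  exact (B.iso_eq hFinv (B.inv_ax hw (hσ z hz)) (B.ax_le hw) (B.ax_iso hN hgM hz hzn hzg)
      hZle inf_le_left hne).symm.trans
    (B.iso_eq hFinv (B.inv_ax hw' (hσ z' hz')) (B.ax_le hw') (B.ax_iso hN hgM hz' hzn' hzg')
      hZle inf_le_right hne)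

/-- The part of the axis carried back, with the images of `Z`. -/
def axA (B : Two σ r m p S U Z H₀) (g : G) (X : Subgroup G) : Subgroup G :=
  (X ⊓ H₀.comap (MulAut.conj g⁻¹).toMonoidHom) ⊔
    (Z ⊓ H₀.comap (MulAut.conj g).toMonoidHom).map (MulAut.conj g).toMonoidHom

omit hN in
theorem mem_axQ {g : G} {X : Subgroup G} {x : G} (hx : x ∈ X) (h : g⁻¹ * x * g ∈ H₀) :
    x ∈ X ⊓ H₀.comap (MulAut.conj g⁻¹).toMonoidHom :=
  ⟨hx, show g⁻¹ * x * g⁻¹⁻¹ ∈ H₀ by rwa [inv_inv]⟩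

omit hN in
theorem mem_axW {g z : G} (hz : z ∈ Z) (h : g * z * g⁻¹ ∈ H₀) :
    g * z * g⁻¹ ∈ (Z ⊓ H₀.comap (MulAut.conj g).toMonoidHom).map (MulAut.conj g).toMonoidHom :=
  ⟨z, ⟨hz, h⟩, rfl⟩

/-- `U` normalises that subgroup. -/
theorem U_norm_axA (hgM : g ∉ H₀) {z₀ : G} (hz₀ : z₀ ∈ Z) (hzn₀ : z₀ ∉ center G)
    (hzg₀ : g * z₀ * g⁻¹ ∈ H₀) :
    U ≤ normalizer
      (B.axA g (B.ax (g * z₀ * g⁻¹) (hN.le (B.conjZ_mem_P hN hz₀ hzg₀))) : Set G) := by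
  set X := B.ax (g * z₀ * g⁻¹) (hN.le (B.conjZ_mem_P hN hz₀ hzg₀)) with hX
  obtain ⟨w, hwd⟩ : ∃ w, w = g * z₀ * g⁻¹ := ⟨_, rfl⟩
  have hwS : w ∈ S := hwd ▸ hN.le (B.conjZ_mem_P hN hz₀ hzg₀)
  have hσw : σ w = w := by rw [hwd]; simp only [map_mul, map_inv, hN.hg, B.fixZ hz₀]
  have hw2 : w * w = 1 := by
    rw [hwd, show g * z₀ * g⁻¹ * (g * z₀ * g⁻¹) = g * (z₀ * z₀) * g⁻¹ by group, B.cfg.sqZ z₀ hz₀]
    group
  have hmemX : ∀ u, u ∈ X ↔ u ∈ U ∧ w * u * w⁻¹ * u⁻¹ ∈ Z := fun u => by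
    rw [hwd]; exact Iff.rfl
  have hIso : Iso X := B.ax_iso hN hgM hz₀ hzn₀ hzg₀
  have hback : ∀ y, y ∈ ncen w → g⁻¹ * y * g ∈ H₀ := fun y hy =>
    B.back hN hz₀ hzn₀ (hwd ▸ hy)
  have hd : ∀ (z : G) (hz : z ∈ Z), z ∉ center G → g * z * g⁻¹ ∈ H₀ → ∀ u ∈ U,
      u⁻¹ * (g * z * g⁻¹ * u * (g * z * g⁻¹)⁻¹) ∈ X := fun z hz hzn hzg u hu => by
    obtain ⟨v, hvd⟩ : ∃ v, v = g * z * g⁻¹ := ⟨_, rfl⟩
    have hvS : v ∈ S := hvd ▸ hN.le (B.conjZ_mem_P hN hz hzg)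
    have hv2 : v * v = 1 := by
      rw [hvd, show g * z * g⁻¹ * (g * z * g⁻¹) = g * (z * z) * g⁻¹ by group, B.cfg.sqZ z hz]
      group
    rw [hX, B.ax_eq hN hgM hz₀ hzn₀ hzg₀ hz hzn hzg]
    have hdU : u⁻¹ * (v * u * v⁻¹) ∈ U := mul_mem (inv_mem hu) (B.S_norm_U hvS hu)
    show u⁻¹ * (g * z * g⁻¹ * u * (g * z * g⁻¹)⁻¹) ∈ B.ax _ _
    refine ⟨by rw [← hvd]; exact hdU, ?_⟩
    rw [← hvd]
    have e : v * (u⁻¹ * (v * u * v⁻¹)) * v⁻¹ = (u⁻¹ * (v * u * v⁻¹))⁻¹ := by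
      rw [show v * (u⁻¹ * (v * u * v⁻¹)) * v⁻¹ = v * u⁻¹ * v⁻¹ * (v * v * u * (v * v)⁻¹) by group,
        hv2]
      group
    rw [e, ← mul_inv_rev]
    exact inv_mem (B.cfg.sqU _ hdU)
  -- commutators with the axis are carried back
  have hcmX : ∀ u ∈ U, ∀ q ∈ X, g⁻¹ * (u * q * u⁻¹ * q⁻¹) * g ∈ H₀ := by
    intro u hu q hq
    obtain ⟨hqU, hqZ⟩ := (hmemX q).mp hq
    obtain ⟨d, hdd⟩ : ∃ d, d = u⁻¹ * (w * u * w⁻¹) := ⟨_, rfl⟩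
    have hdX : d ∈ X := by
      rw [hdd, hwd]; exact hd z₀ hz₀ hzn₀ hzg₀ u hu
    refine hback _ (ncen_symm (mem_ncen.mpr ?_))
    obtain ⟨t, htd⟩ : ∃ t, t = w * q * w⁻¹ * q⁻¹ := ⟨_, rfl⟩
    rw [← htd] at hqZ
    have e : w * (u * q * u⁻¹ * q⁻¹) * w⁻¹ = H3.Shult.cm (u * d) (t * q) := by
      simp only [H3.Shult.cm]; rw [hdd, htd]; group
    have hdU : d ∈ U := ((hmemX d).mp hdX).1
    rw [e, B.form.cm_left hu hdU (mul_mem (B.hZU hqZ) hqU),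
      B.form.cm_right hu (B.hZU hqZ) hqU, B.form.cm_right hdU (B.hZU hqZ) hqU,
      B.form.cm_symm hu (B.hZU hqZ), B.form.cm_of_memZ hqZ hu,
      B.form.cm_symm hdU (B.hZU hqZ), B.form.cm_of_memZ hqZ hdU, one_mul, one_mul]
    obtain ⟨c, hcd⟩ : ∃ c, c = u * q * u⁻¹ * q⁻¹ := ⟨_, rfl⟩
    have hc : c ∈ Z := hcd ▸ B.cfg.comU u hu q hqU
    show H3.Shult.cm u q * H3.Shult.cm d q * (u * q * u⁻¹ * q⁻¹)⁻¹ ∈ center G
    rw [show H3.Shult.cm u q = u * q * u⁻¹ * q⁻¹ from rfl, ← hcd]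
    have hcm : H3.Shult.cm d q ∈ center G := hIso d hdX q hq
    rw [mem_center_iff.mp hcm c, mul_inv_cancel_right]
    exact hcm
  have hdQ : ∀ (z : G) (hz : z ∈ Z), z ∉ center G → g * z * g⁻¹ ∈ H₀ → ∀ u ∈ U,
      g⁻¹ * (u⁻¹ * (g * z * g⁻¹ * u * (g * z * g⁻¹)⁻¹)) * g ∈ H₀ := by
    intro z hz hzn hzg u hu
    obtain ⟨a, ha, t, ht, rfl⟩ := B.exists_mov hu
    obtain ⟨v', hvd⟩ : ∃ v, v = g * z * g⁻¹ := ⟨_, rfl⟩
    have hvS : v' ∈ S := hvd ▸ hN.le (B.conjZ_mem_P hN hz hzg)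
    have hσv : σ v' = v' := by rw [hvd]; simp only [map_mul, map_inv, hN.hg, B.fixZ hz]
    have hv2 : v' * v' = 1 := by
      rw [hvd, show g * z * g⁻¹ * (g * z * g⁻¹) = g * (z * z) * g⁻¹ by group, B.cfg.sqZ z hz]
      group
    obtain ⟨δ, hδ⟩ : ∃ δ, δ = a⁻¹ * (v' * a * v'⁻¹) := ⟨_, rfl⟩
    have hδX : δ ∈ X := by rw [hδ, hvd]; exact hd z hz hzn hzg a ha
    have hδ' : δ ∈ B.ax (g * z * g⁻¹) (hN.le (B.conjZ_mem_P hN hz hzg)) := by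
      rw [← B.ax_eq hN hgM hz₀ hzn₀ hzg₀ hz hzn hzg]; exact hδX
    have hδU : δ ∈ U := hδ'.1
    have hδZ : v' * δ * v'⁻¹ * δ⁻¹ ∈ Z := by rw [hvd]; exact hδ'.2
    obtain ⟨v, hv⟩ : ∃ v, v = a⁻¹ * σ a := ⟨_, rfl⟩
    have hvU : v ∈ U := hv ▸ mul_mem (inv_mem ha) (B.cfg.invU a ha)
    rw [← hvd]
    have e : (a⁻¹ * σ a * t)⁻¹ * (v' * (a⁻¹ * σ a * t) * v'⁻¹) =
        t⁻¹ * ((v⁻¹ * δ⁻¹ * v⁻¹⁻¹ * δ⁻¹⁻¹) * (δ⁻¹ * σ δ)) * (v' * t * v'⁻¹) := by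
      rw [hv, hδ]; simp only [map_mul, map_inv, hσv]; group
    have hδσ : δ⁻¹ * σ δ ∈ U := mul_mem (inv_mem hδU) (B.cfg.invU δ hδU)
    have hcU : v⁻¹ * δ⁻¹ * v⁻¹⁻¹ * δ⁻¹⁻¹ ∈ Z := B.cfg.comU _ (inv_mem hvU) _ (inv_mem hδU)
    have htw := B.S_norm_Z hvS ht
    rw [e, ← B.cfg.cenU _ (mul_mem (B.hZU hcU) hδσ) _ (inv_mem ht), mul_assoc _ t⁻¹]
    rw [show g⁻¹ * (v⁻¹ * δ⁻¹ * v⁻¹⁻¹ * δ⁻¹⁻¹ * (δ⁻¹ * σ δ) * (t⁻¹ * (v' * t * v'⁻¹))) * g =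
      g⁻¹ * (v⁻¹ * δ⁻¹ * v⁻¹⁻¹ * δ⁻¹⁻¹) * g * (g⁻¹ * (δ⁻¹ * σ δ) * g) *
        (g⁻¹ * (t⁻¹ * (v' * t * v'⁻¹)) * g) by group]
    refine mul_mem (mul_mem (hcmX _ (inv_mem hvU) _ (inv_mem hδX))
      (B.back hN hz hzn (mem_ncen.mpr ?_))) (B.back hN hz hzn (ncen_symm (mem_ncen.mpr ?_)))
    · rw [← hvd, ← B.comm_mov hσv hδU hδZ, mul_inv_cancel_right, mul_inv_cancel]
      exact one_mem _
    · rw [← hvd, show v' * (t⁻¹ * (v' * t * v'⁻¹)) * v'⁻¹ =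
        (v' * t * v'⁻¹)⁻¹ * (v' * v' * t * (v' * v')⁻¹) by group, hv2,
        show (v' * t * v'⁻¹)⁻¹ * (1 * t * 1⁻¹) = (v' * t * v'⁻¹)⁻¹ * t by group,
        B.inv_eq htw, B.inv_eq ht, B.cfg.cenU (v' * t * v'⁻¹) (B.hZU htw) t ht, mul_inv_cancel]
      exact one_mem _
  intro u hu
  refine H10.Shult.Rank.mem_normalizer_of_conj ?_
  suffices hle : (B.axA g X).map (MulAut.conj u).toMonoidHom ≤ B.axA g X from
    fun x hx => hle ⟨x, hx, rfl⟩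
  rw [axA, Subgroup.map_sup]
  refine sup_le ?_ ?_
  · rintro _ ⟨q, hq, rfl⟩
    refine mem_sup_left ?_
    show u * q * u⁻¹ ∈ _
    rw [show u * q * u⁻¹ = u * q * u⁻¹ * q⁻¹ * q by group]
    refine mul_mem (B.mem_axQ (B.Z_le_ax _ (B.cfg.comU u hu q ((hmemX q).mp hq.1).1)) ?_) hq
    exact hcmX u hu q hq.1
  · rintro _ ⟨_, ⟨z, hz, rfl⟩, rfl⟩
    obtain ⟨hzZ, hzg⟩ := hz
    show u * (g * z * g⁻¹) * u⁻¹ ∈ _
    by_cases hzn : z ∈ center G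
    · rw [show g * z * g⁻¹ = z by rw [mem_center_iff.mp hzn g, mul_inv_cancel_right],
        B.cfg.cenU u hu z hzZ, mul_inv_cancel_right]
      refine mem_sup_right ⟨z, ⟨hzZ, hzg⟩, ?_⟩
      show g * z * g⁻¹ = z
      rw [mem_center_iff.mp hzn g, mul_inv_cancel_right]
    · rw [show u * (g * z * g⁻¹) * u⁻¹ =
        u⁻¹⁻¹ * (g * z * g⁻¹ * u⁻¹ * (g * z * g⁻¹)⁻¹) * (g * z * g⁻¹) by group]
      exact mul_mem (mem_sup_left (B.mem_axQ (hd z hzZ hzn hzg _ (inv_mem hu))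
        (hdQ z hzZ hzn hzg _ (inv_mem hu)))) (mem_sup_right (B.mem_axW hzZ hzg))

/-- The subgroup for `g⁻¹` is carried into the subgroup for `g`. -/
theorem conj_axA_le (hgM : g ∉ H₀) {z₀ z₁ : G} (hz₀ : z₀ ∈ Z) (hzn₀ : z₀ ∉ center G)
    (hzg₀ : g * z₀ * g⁻¹ ∈ H₀) (hz₁ : z₁ ∈ Z) (hzn₁ : z₁ ∉ center G)
    (hzg₁ : g⁻¹ * z₁ * g⁻¹⁻¹ ∈ H₀) :
    ∀ y ∈ B.axA g⁻¹ (B.ax (g⁻¹ * z₁ * g⁻¹⁻¹) (hN.symm.le (B.conjZ_mem_P hN.symm hz₁ hzg₁))),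
      g * y * g⁻¹ ∈ B.axA g (B.ax (g * z₀ * g⁻¹) (hN.le (B.conjZ_mem_P hN hz₀ hzg₀))) := by
  obtain ⟨K, hK⟩ := B.exists_core
  set X := B.ax (g * z₀ * g⁻¹) (hN.le (B.conjZ_mem_P hN hz₀ hzg₀)) with hX
  set Y := B.ax (g⁻¹ * z₁ * g⁻¹⁻¹) (hN.symm.le (B.conjZ_mem_P hN.symm hz₁ hzg₁)) with hY
  have hgM' : g⁻¹ ∉ H₀ := fun h => hgM (by simpa using inv_mem h)
  suffices hle : (B.axA g⁻¹ Y).map (MulAut.conj g).toMonoidHom ≤ B.axA g X from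
    fun y hy => hle ⟨y, hy, rfl⟩
  rw [axA, Subgroup.map_sup]
  refine sup_le ?_ ?_
  swap
  · rintro _ ⟨_, ⟨t, ⟨ht, htg⟩, rfl⟩, rfl⟩
    show g * (g⁻¹ * t * g⁻¹⁻¹) * g⁻¹ ∈ _
    have htg' : g⁻¹ * t * g⁻¹⁻¹ ∈ H₀ := htg
    rw [inv_inv] at htg' ⊢
    rw [show g * (g⁻¹ * t * g) * g⁻¹ = t by group]
    exact mem_sup_left (B.mem_axQ (B.Z_le_ax _ ht) htg')
  -- the axis for `g⁻¹` is normalised by `g⁻¹ P g`
  have hQP : (Y ⊓ H₀.comap (MulAut.conj g⁻¹⁻¹).toMonoidHom).map (MulAut.conj g).toMonoidHom ≤ P := by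
    have h1 : Y ⊓ H₀.comap (MulAut.conj g⁻¹⁻¹).toMonoidHom ≤ P.map (MulAut.conj g⁻¹).toMonoidHom := by
      refine B.absorb hN.symm (inf_le_left.trans ((B.ax_le _).trans B.hUM)) (fun t ht => ht.2 |> fun h => ?_)
        ((B.form.pU.to_le (inf_le_left.trans (B.ax_le _)))) fun x hx t ht => ?_
      · have h' : g⁻¹⁻¹ * t * g⁻¹⁻¹⁻¹ ∈ H₀ := h
        simpa using h'
      · have hxS : x ∈ S := hN.symm.le hx
        have hxg : g⁻¹⁻¹ * x * g⁻¹⁻¹⁻¹ ∈ H₀ := by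
          have := B.hSM (hN.symm.conj x hx)
          simpa using this
        obtain ⟨⟨htU, htZ⟩, htg⟩ := ht
        refine ⟨?_, ?_⟩
        · -- the conjugate of the defining element has the same axis
          obtain ⟨x', hx'd⟩ : ∃ y, y = g⁻¹⁻¹ * x * g⁻¹ := ⟨_, rfl⟩
          have hx'S : x' ∈ S := hx'd ▸ hN.symm.conj x hx
          have hz' : x' * z₁ * x'⁻¹ ∈ Z := B.S_norm_Z hx'S hz₁
          have hzn' : x' * z₁ * x'⁻¹ ∉ center G := fun h => hzn₁ (by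
            have := (inferInstance : (center G).Normal).conj_mem _ h x'⁻¹
            rwa [show x'⁻¹ * (x' * z₁ * x'⁻¹) * x'⁻¹⁻¹ = z₁ by group] at this)
          have hzg' : g⁻¹ * (x' * z₁ * x'⁻¹) * g⁻¹⁻¹ ∈ H₀ := by
            have := mul_mem (mul_mem (B.hSM hxS) hzg₁) (inv_mem (B.hSM hxS))
            convert this using 1
            rw [hx'd]; group
          rw [hY, B.ax_eq hN.symm hgM' hz₁ hzn₁ hzg₁ hz' hzn' hzg']
          refine ⟨B.S_norm_U hxS htU, ?_⟩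
          have := B.S_norm_Z hxS htZ
          convert this using 1
          rw [hx'd]; group
        · show g⁻¹⁻¹ * (x * t * x⁻¹) * g⁻¹⁻¹⁻¹ ∈ H₀
          have h3 : g⁻¹⁻¹ * t * g⁻¹⁻¹⁻¹ ∈ H₀ := htg
          have := mul_mem (mul_mem hxg h3) (inv_mem hxg)
          convert this using 1
          group
    rintro _ ⟨y, hy, rfl⟩
    obtain ⟨x, hx, he⟩ := h1 hy
    have he' : g⁻¹ * x * g⁻¹⁻¹ = y := he
    show g * y * g⁻¹ ∈ P
    rw [← he']; simpa [mul_assoc] using hx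
  rintro _ ⟨a, ha, rfl⟩
  show g * a * g⁻¹ ∈ _
  have hag : g⁻¹⁻¹ * a * g⁻¹⁻¹⁻¹ ∈ H₀ := ha.2
  obtain ⟨q, hq, t, ht, hae, -, hqK⟩ := B.ax_mov hN.symm hK hz₁ hzn₁ hzg₁ ha.1
  rw [inv_inv] at hqK hag
  have hqg : g * q * g⁻¹ ∈ H₀ := B.KU_le hK hqK
  have htg : g * t * g⁻¹ ∈ H₀ := by
    have := mul_mem (inv_mem hqg) hag
    convert this using 1
    rw [hae]; group
  rw [hae, show g * (q * t) * g⁻¹ = g * q * g⁻¹ * (g * t * g⁻¹) by group]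
  refine mul_mem (mem_sup_left (B.mem_axQ ?_ ?_)) (mem_sup_right (B.mem_axW ht htg))
  · have hqP : g * q * g⁻¹ ∈ P := hQP ⟨q, ⟨hq, show g⁻¹⁻¹ * q * g⁻¹⁻¹⁻¹ ∈ H₀ by
      rwa [inv_inv]⟩, rfl⟩
    have hyU : g * q * g⁻¹ ∈ U := B.KS hK hqK (hN.le hqP)
    refine ⟨hyU, ?_⟩
    rw [show g * z₀ * g⁻¹ * (g * q * g⁻¹) * (g * z₀ * g⁻¹)⁻¹ * (g * q * g⁻¹)⁻¹ =
      g * (z₀ * q * z₀⁻¹ * q⁻¹) * g⁻¹ by group, ← B.cfg.cenU q hq.1 z₀ hz₀, mul_inv_cancel_right,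
      mul_inv_cancel, mul_one, mul_inv_cancel]
    exact one_mem Z
  · rw [show g⁻¹ * (g * q * g⁻¹) * g = q by group]
    exact B.hUM hq.1

/-- A normalised pair is trivial. -/
theorem mem_of_nrm {e : G} (he : e ∈ Z) (hne : e ∉ center G) (heg : g * e * g⁻¹ ∈ H₀) :
    g ∈ H₀ := by
  by_contra hgM
  have hwS := hN.le (B.conjZ_mem_P hN he heg)
  obtain ⟨w, hwd⟩ : ∃ w, w = g * e * g⁻¹ := ⟨_, rfl⟩
  rw [← hwd] at hwS
  have hw2 : w * w ∈ center G := by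
    rw [hwd, show g * e * g⁻¹ * (g * e * g⁻¹) = g * (e * e) * g⁻¹ by group, B.cfg.sqZ e he,
      mul_one, mul_inv_cancel]
    exact one_mem _
  obtain ⟨z₁, hz₁, hzn₁, hz₁w⟩ := B.exists_ncen_Z hwS hw2
  have hzg₁ : g⁻¹ * z₁ * g⁻¹⁻¹ ∈ H₀ := by
    rw [inv_inv]; exact B.back hN he hne (hwd ▸ hz₁w)
  have hgM' : g⁻¹ ∉ H₀ := fun h => hgM (by simpa using inv_mem h)
  set X := B.ax (g * e * g⁻¹) (hN.le (B.conjZ_mem_P hN he heg)) with hX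
  set Y := B.ax (g⁻¹ * z₁ * g⁻¹⁻¹) (hN.symm.le (B.conjZ_mem_P hN.symm hz₁ hzg₁)) with hY
  set A := B.axA g X with hA
  set A' := B.axA g⁻¹ Y with hA'
  have h1 : ∀ y ∈ A', g * y * g⁻¹ ∈ A := B.conj_axA_le hN hgM he hne heg hz₁ hzn₁ hzg₁
  have h2 : ∀ x ∈ A, g⁻¹ * x * g ∈ A' := by
    intro x hx
    have := B.conj_axA_le hN.symm hgM' hz₁ hzn₁ hzg₁ he hne
      (by simpa only [inv_inv] using heg) x
    simp only [hA', hY, hA, hX, inv_inv] at this hx ⊢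
    exact this hx
  have hAM : A ≤ H₀ := by
    refine sup_le (inf_le_left.trans ((B.ax_le _).trans B.hUM)) ?_
    rintro _ ⟨z, ⟨-, hz⟩, rfl⟩
    exact hz
  have hσg : σ g⁻¹ = g⁻¹ := by rw [map_inv, hN.hg]
  have hAinv : Inv σ A := by
    refine H12.Shult.inv_sup (fun x hx => ⟨B.inv_ax _ (by
      simp only [map_mul, map_inv, hN.hg, B.fixZ he]) x hx.1, ?_⟩) ?_
    · show g⁻¹ * σ x * g⁻¹⁻¹ ∈ H₀
      have := B.top.inv _ (show g⁻¹ * x * g⁻¹⁻¹ ∈ H₀ from hx.2)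
      rwa [map_mul, map_mul, map_inv σ g⁻¹, hσg] at this
    · rintro _ ⟨z, hz, rfl⟩
      exact ⟨z, hz, by simp [hN.hg, B.fixZ hz.1]⟩
  have hU : U ≤ normalizer (A : Set G) := B.U_norm_axA hN hgM he hne heg
  have hUg : ∀ u ∈ U, g * u * g⁻¹ ∈ normalizer (A : Set G) := by
    intro u hu
    refine H10.Shult.Rank.mem_normalizer_of_conj fun x hx => ?_
    have hU' : U ≤ normalizer (A' : Set G) := B.U_norm_axA hN.symm hgM' hz₁ hzn₁ hzg₁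
    have := h1 _ ((mem_normalizer_iff.mp (hU' hu) _).mp (h2 x hx))
    convert this using 1
    group
  have hne' : normalizer (A : Set G) ≠ ⊤ := by
    intro htop
    haveI : A.Normal := normalizer_eq_top_iff.mp htop
    have hcen := B.cfg.normal_le A inferInstance hAinv
      (fun h => B.top.ne_top (top_le_iff.mp (h ▸ hAM)))
    have hw : g * e * g⁻¹ ∈ center G := hcen (mem_sup_right (B.mem_axW he heg))
    exact hne (by
      have := (inferInstance : (center G).Normal).conj_mem _ hw g⁻¹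
      rwa [show g⁻¹ * (g * e * g⁻¹) * g⁻¹⁻¹ = e by group] at this)
  have hle := B.top.max _ (H12.Shult.inv_normalizer hAinv) hne' hU
  exact hgM (B.mem_of_conjU hN.hg fun u hu => hle (hUg u hu))

omit hN

/-- A fixed element carrying a noncentral element of `Z` into `H₀` lies in `H₀`. -/
theorem mem_of_conjZ {g e : G} (hg : σ g = g) (he : e ∈ Z) (hne : e ∉ center G)
    (h : g * e * g⁻¹ ∈ H₀) : g ∈ H₀ := by
  obtain ⟨x, hx⟩ : ∃ x, x = g * e * g⁻¹ := ⟨_, rfl⟩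
  have hσx : σ x = x := by rw [hx]; simp only [map_mul, map_inv, hg, B.fixZ he]
  have hx2 : x * x = 1 := by
    rw [hx, show g * e * g⁻¹ * (g * e * g⁻¹) = g * (e * e) * g⁻¹ by group, B.cfg.sqZ e he]; group
  set Γ := H₀ ⊓ H₀.comap (MulAut.conj g⁻¹).toMonoidHom with hΓ
  have hΓi : SInv σ Γ := by
    intro y hy
    refine ⟨B.top.inv y hy.1, ?_⟩
    show g⁻¹ * σ y * g⁻¹⁻¹ ∈ H₀
    have := B.top.inv _ (show g⁻¹ * y * g⁻¹⁻¹ ∈ H₀ from hy.2)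
    rwa [map_mul, map_mul, map_inv σ g⁻¹, map_inv, hg] at this
  have hxΓ : x ∈ Γ := ⟨hx ▸ h, show g⁻¹ * x * g⁻¹⁻¹ ∈ H₀ by
    rw [hx, show g⁻¹ * (g * e * g⁻¹) * g⁻¹⁻¹ = e by group]; exact B.hZM he⟩
  obtain ⟨P, hPi, hxP, hP⟩ := exists_inv_syl_ge B.cfg.hr B.cfg.hσ B.cfg.hcop hΓi
    (sInv_zpowers hσx) (zpowers_le.mpr hxΓ) (isPGroup_zpowers_of_sq hx2)
  obtain ⟨c, hc, hσc, hcS⟩ := B.conj_into_S (T := P) hPi (hP.1.trans inf_le_left) hP.2.1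
  have hgP : Inv σ (P.map (MulAut.conj g⁻¹).toMonoidHom) := by
    rintro _ ⟨y, hy, rfl⟩
    exact ⟨σ y, hPi y hy, by simp [hg]⟩
  obtain ⟨d, hd, hσd, hdS⟩ := B.conj_into_S hgP (by
    rintro _ ⟨y, hy, rfl⟩
    exact (hP.1 hy).2) (hP.2.1.map _)
  obtain ⟨g₁, hg₁⟩ : ∃ y, y = c * g * d⁻¹ := ⟨_, rfl⟩
  have hN : Nrm σ S H₀ (P.map (MulAut.conj c).toMonoidHom) g₁ :=
    { hg := by rw [hg₁, map_mul, map_mul, map_inv, hσc, hg, hσd]
      inv := by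
        rintro _ ⟨y, hy, rfl⟩
        exact ⟨σ y, hPi y hy, by simp [hσc]⟩
      two := hP.2.1.map _
      le := by
        rintro _ ⟨y, hy, rfl⟩
        exact hcS y hy
      conj := by
        rintro _ ⟨y, hy, rfl⟩
        have := hdS _ ⟨y, hy, rfl⟩
        convert this using 1
        show g₁⁻¹ * (c * y * c⁻¹) * g₁ = d * (g⁻¹ * y * g⁻¹⁻¹) * d⁻¹
        rw [hg₁]; group
      max := by
        intro T hPT hT hTg hT2
        have hsub : T.map (MulAut.conj c⁻¹).toMonoidHom ≤ Γ := by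
          rintro _ ⟨t, ht, rfl⟩
          show c⁻¹ * t * c⁻¹⁻¹ ∈ Γ
          refine ⟨mul_mem (mul_mem (H₀.inv_mem hc) (hT ht)) (H₀.inv_mem (H₀.inv_mem hc)), ?_⟩
          show g⁻¹ * (c⁻¹ * t * c⁻¹⁻¹) * g⁻¹⁻¹ ∈ H₀
          have := mul_mem (mul_mem (inv_mem hd) (hTg t ht)) hd
          convert this using 1
          rw [hg₁]; group
        have hcard := hP.card_le hsub (hT2.map _)
        rw [card_map_of_injective (MulAut.conj c⁻¹).injective] at hcard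
        refine (eq_of_le_of_card_ge hPT ?_).ge
        rw [card_map_of_injective (MulAut.conj c).injective]
        exact hcard }
  have he₁ : d * e * d⁻¹ ∈ Z := B.fixed_conj_Z hd hσd he (by
    have := hdS _ ⟨x, hxP (mem_zpowers x), rfl⟩
    convert this using 1
    show d * e * d⁻¹ = d * (g⁻¹ * x * g⁻¹⁻¹) * d⁻¹
    rw [hx]; group)
  have hne₁ : d * e * d⁻¹ ∉ center G := fun hh => hne (by
    have := (inferInstance : (center G).Normal).conj_mem _ hh d⁻¹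
    rwa [show d⁻¹ * (d * e * d⁻¹) * d⁻¹⁻¹ = e by group] at this)
  have hmem := B.mem_of_nrm hN he₁ hne₁ (by
    rw [show g₁ * (d * e * d⁻¹) * g₁⁻¹ = c * x * c⁻¹ by rw [hg₁, hx]; group]
    exact B.hSM (hcS x (hxP (mem_zpowers x))))
  have := mul_mem (mul_mem (inv_mem hc) hmem) hd
  convert this using 1
  rw [hg₁]; group

/-- An element carrying a noncentral element of `Z` to a fixed element of `H₀` lies in `H₀`. -/
theorem mem_of_fixed_image {g e : G} (he : e ∈ Z) (hne : e ∉ center G)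
    (hfix : σ (g * e * g⁻¹) = g * e * g⁻¹) (h : g * e * g⁻¹ ∈ H₀) : g ∈ H₀ := by
  obtain ⟨K, hK⟩ := B.exists_core
  have hc : g⁻¹ * σ g ∈ H₀ := by
    refine B.ncen_le he hne (mem_ncen.mpr ?_)
    rw [map_mul, map_mul, map_inv, B.fixZ he] at hfix
    rw [show g⁻¹ * σ g * e * (g⁻¹ * σ g)⁻¹ = g⁻¹ * (σ g * e * (σ g)⁻¹) * g by group, hfix]
    rw [show g⁻¹ * (g * e * g⁻¹) * g * e⁻¹ = 1 by group]
    exact one_mem _
  obtain ⟨b, hb, hfb⟩ := exists_fixed_coset B.cfg.hr B.cfg.hσ B.cfg.hcop B.top.inv hc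
  obtain ⟨e', he'⟩ : ∃ y, y = b⁻¹ * e * b := ⟨_, rfl⟩
  have hσe' : σ e' = e' := by
    have h1 : σ ((g * b) * e' * (g * b)⁻¹) = (g * b) * e' * (g * b)⁻¹ := by
      rw [show (g * b) * e' * (g * b)⁻¹ = g * e * g⁻¹ by rw [he']; group]; exact hfix
    rw [map_mul σ (g * b * e'), map_mul σ (g * b), map_inv, hfb] at h1
    exact mul_left_cancel (mul_right_cancel h1)
  have he'2 : e' * e' = 1 := by
    rw [he', show b⁻¹ * e * b * (b⁻¹ * e * b) = b⁻¹ * (e * e) * b by group, B.cfg.sqZ e he]; group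
  have he'K : e' ∈ K ⊔ U := by
    have := B.KU_norm hK (inv_mem hb) (mem_sup_right (B.hZU he))
    rwa [inv_inv, ← he'] at this
  obtain ⟨c, hc', hσc, hcS⟩ := B.conj_into_S (sInv_zpowers hσe')
    (zpowers_le.mpr (B.KU_le hK he'K)) (isPGroup_zpowers_of_sq he'2)
  have hcZ : c * e' * c⁻¹ ∈ Z := B.cfg.mem_Z (B.KS hK (B.KU_norm hK hc' he'K) (hcS e' (mem_zpowers e')))
    (by simp only [map_mul, map_inv, hσc, hσe'])
  have hcne : c * e' * c⁻¹ ∉ center G := fun hh => hne (by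
    have := (inferInstance : (center G).Normal).conj_mem _ hh (c * b⁻¹)⁻¹
    rwa [show (c * b⁻¹)⁻¹ * (c * e' * c⁻¹) * (c * b⁻¹)⁻¹⁻¹ = e by rw [he']; group] at this)
  have hmem := B.mem_of_conjZ (g := g * b * c⁻¹) (by rw [map_mul, hfb, map_inv, hσc]) hcZ hcne (by
    rw [show g * b * c⁻¹ * (c * e' * c⁻¹) * (g * b * c⁻¹)⁻¹ = g * e * g⁻¹ by rw [he']; group]
    exact h)
  have := mul_mem (mul_mem hmem hc') (inv_mem hb)
  convert this using 1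
  group

/-- An invariant 2-group meeting `Z` outside the centre lies in `H₀`. -/
theorem two_le {Q : Subgroup G} (hQ : Inv σ Q) (hQ2 : IsPGroup 2 Q) {e : G} (heQ : e ∈ Q)
    (he : e ∈ Z) (hne : e ∉ center G) : Q ≤ H₀ := by
  obtain ⟨c, hσc, hcS⟩ := B.conj_into_S_top hQ hQ2
  have hc : c ∈ H₀ := B.mem_of_conjZ hσc he hne (B.hSM (hcS e heQ))
  intro x hx
  have := mul_mem (mul_mem (inv_mem hc) (B.hSM (hcS x hx))) hc
  convert this using 1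
  group

end Two

end H41.Shult
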