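import Cfsg.Agent.H41.Shult.TwoPlane
import Cfsg.Agent.H83.Shult.BigAdapter
import Cfsg.Agent.H83.Shult.TwoTransfer
import Cfsg.Agent.H21.Shult.TwoGauss

/-!
Shult's fixed point theorem: `fixed σ ≤ H₀`, from the single radical case and, with several
radicals, the plane configuration.
-/

set_option autoImplicit false
set_option linter.all false

open Subgroup

namespace H41.Shult

open H85.Shult (Top fixed disp Inv)

variable {G : Type*} [Group G] [Finite G] {σ : MulAut G} {r m p : ℕ} {S U Z H₀ : Subgroup G}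

/-- The reduction of the several-radical case to the plane configuration. -/
theorem fixed_le_top_of
    (hTwo : ∀ B : Two σ r m p S U Z H₀, ∀ h : G, σ h = h → h ∉ H₀ → False)
    (C : H85.Shult.Cfg σ r m p S U Z) (h4 : 4 ≤ (Z ⊓ center G).relIndex Z)
    (T : Top σ U Z H₀) : fixed σ ≤ H₀ := by
  by_cases hA : H83.Shult.SingleCase m U Z
  · exact H83.Shult.fixed_le_top_single C h4 T hA
  unfold H83.Shult.SingleCase at hA
  push Not at hA
  obtain ⟨⟨z, hz, hzc, hz1⟩, Z₁, R₁, Z₂, R₂, K₁, K₂, hne⟩ := hA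
  intro h hh
  by_contra hhM
  exact hTwo ⟨C, T, h4, ⟨z, hz, hzc, hz1⟩, Z₁, R₁, Z₂, R₂, K₁, K₂, hne⟩ h hh hhM

namespace Two

variable (B : Two σ r m p S U Z H₀)
include B

/-- An element of `U` outside `Z` whose square is central, in a plane configuration. -/
theorem exists_singular (hP : PlaneFacts B) : ∃ y ∈ U, y ∉ Z ∧ y * y ∈ center G := by
  obtain ⟨u, hu, hsv⟩ := H21.Shult.TwoGauss.exists_sv_mem B.fd hP.idx
    ((center G).comap ((Subgroup.subtype U).comp (Z.subgroupOf U).subtype))
    (fun χ hχ h => hP.rad χ hχ fun z hz => h z hz)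
  exact ⟨u, u.2, hu, hsv⟩

end Two

end H41.Shult
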