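import Cfsg.Agent.H41.Shult.TwoFuse
import Cfsg.Agent.H12.Shult.Basic

/-!
Shult's fixed point theorem, several radicals: an axis. A group of induced automorphisms of even
order fixing no odd character has a common axis `X`, the fixed space modulo `Z` of each of its
nontrivial members; the elements of `S` that are involutions modulo the centre.
-/

set_option autoImplicit false
set_option linter.all false

open Subgroup

namespace H41.Shult

open H85.Shult (Top fixed disp Inv)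

variable {G : Type*} [Group G] [Finite G] {σ : MulAut G} {r m p : ℕ} {S U Z H₀ : Subgroup G}

/-- The common axis of the induced automorphisms. -/
structure Axis (B : Two σ r m p S U Z H₀) (X : Subgroup G) : Prop where
  le : Z ≤ X
  leU : X ≤ U
  inv : Inv σ X
  sq : ∀ q ∈ X, q * q ∈ center G
  comm : ∀ a ∈ X, ∀ b ∈ X, a * b * a⁻¹ * b⁻¹ ∈ center G
  actX : ∀ φ ∈ act σ U, ∀ u : U, (u : G) ∈ X → φ u * u⁻¹ ∈ Z.subgroupOf U
  free : ∀ φ ∈ act σ U, φ ≠ 1 → ∀ u : U, φ u * u⁻¹ ∈ Z.subgroupOf U → (u : G) ∈ X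
  irred : ∀ Y : Subgroup G, Inv σ Y → Z ≤ Y → Y ≤ X → Y = Z ∨ Y = X
  idx : Z.relIndex X = 2 ^ (2 * m)
  idxU : (Z.subgroupOf U).index = 2 ^ (4 * m)
  proper : ∃ u ∈ U, u ∉ X
  surj : ∀ u ∈ U, u ∉ X → ∀ z ∈ Z, ∃ q ∈ X, q * u * q⁻¹ * u⁻¹ * z ∈ center G
  lt : (Z ⊓ center G).relIndex Z < 2 ^ (2 * m)
  cenS : ∀ c ∈ S, σ c = c → ∀ z ∈ Z, c * z * c⁻¹ * z⁻¹ ∈ center G
  rad : ∀ χ : (Z.subgroupOf U) →* ℤˣ, χ ≠ 1 →
    (∀ z : Z.subgroupOf U, ((z : U) : G) ∈ center G → χ z = 1) → B.fd.rad χ = Z.subgroupOf U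
  hI : ∀ x ∈ S, σ x = x → x * x ∈ center G → ∃ z ∈ Z, z⁻¹ * x ∈ center G

/-- The moved parts of the axis. -/
def movX (σ : MulAut G) (X : Subgroup G) : Subgroup G :=
  closure ((fun a => a⁻¹ * σ a) '' (X : Set G))

namespace Axis

variable {B : Two σ r m p S U Z H₀} {X : Subgroup G} (A : Axis B X)
include A

theorem movX_le : movX σ X ≤ X := (closure_le _).mpr (by
  rintro _ ⟨a, ha, rfl⟩
  exact mul_mem (inv_mem ha) (A.inv a ha))

theorem exists_noZ : ∃ q ∈ X, q ∉ Z := by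
  by_contra hc
  push Not at hc
  have h := A.idx
  rw [relIndex_eq_one.mpr hc] at h
  have := Nat.one_lt_two_pow (show 2 * m ≠ 0 by have := B.cfg.m_pos; omega)
  omega

theorem perp {u : G} (hu : u ∈ U) (h : ∀ q ∈ X, q * u * q⁻¹ * u⁻¹ ∈ center G) : u ∈ X := by
  by_contra huX
  obtain ⟨e, he, hne⟩ := B.exists_noncentral
  obtain ⟨q, hq, hz⟩ := A.surj u hu huX e he
  refine hne ?_
  have := mul_mem (inv_mem (h q hq)) hz
  rwa [inv_mul_cancel_left] at this

theorem split {u : G} (hu : u ∈ X) : ∃ q ∈ movX σ X, ∃ z ∈ Z, u = q * z := by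
  have hinv : Inv σ (movX σ X) := by
    intro x hx
    induction hx using closure_induction with
    | mem y hy =>
      obtain ⟨a, ha, rfl⟩ := hy
      exact subset_closure ⟨σ a, A.inv a ha, by simp⟩
    | one => rw [map_one]; exact one_mem _
    | mul a b _ _ ha hb => rw [map_mul]; exact mul_mem ha hb
    | inv a _ ha => rw [map_inv]; exact inv_mem ha
  have hZ : Inv σ Z := fun z hz => by rw [B.fixZ hz]; exact hz
  rcases A.irred (movX σ X ⊔ Z) (H12.Shult.inv_sup hinv hZ) le_sup_right (sup_le A.movX_le A.le)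
    with he | he
  · obtain ⟨a, ha, haZ⟩ := A.exists_noZ
    refine absurd ?_ (B.mov_notMem (A.leU ha) haZ).2
    have h : movX σ X ≤ Z := le_sup_left.trans he.le
    exact h (subset_closure ⟨a, ha, rfl⟩)
  · rw [← he] at hu
    exact H12.Shult.exists_mul_of_mem_sup' (fun x hx => H10.Shult.Rank.mem_normalizer_of_conj
      fun z hz => by rwa [B.cfg.cenU x (A.leU (A.movX_le hx)) z hz, mul_inv_cancel_right]) hu

/-- Fixed normalising elements commute with the moved parts of the axis. -/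
theorem comm_movX {n : G} (hσn : σ n = n) (hn : n ∈ normalizer (U : Set G)) {q : G}
    (hq : q ∈ movX σ X) : n * q = q * n := by
  induction hq using closure_induction with
  | mem y hy =>
    obtain ⟨a, ha, rfl⟩ := hy
    have h := A.actX (U.normalizerMonoidHom ⟨n, hn⟩) (mem_act.mpr ⟨n, hσn, hn, fun u => rfl⟩)
      ⟨a, A.leU ha⟩ ha
    exact B.comm_mov hσn (A.leU ha) h
  | one => simp
  | mul a b _ _ ha hb => rw [← mul_assoc, ha, mul_assoc, hb, mul_assoc]
  | inv a _ ha =>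
    calc n * a⁻¹ = a⁻¹ * (a * n) * a⁻¹ := by group
      _ = a⁻¹ * (n * a) * a⁻¹ := by rw [ha]
      _ = a⁻¹ * n := by group

/-- Every element of `S` centralises `Z` modulo the centre. -/
theorem cenS' {s z : G} (hs : s ∈ S) (hz : z ∈ Z) : s * z * s⁻¹ * z⁻¹ ∈ center G := by
  obtain ⟨u, hu, a, ha, hσa, rfl⟩ := H10.Shult.Rank.exists_US B.cfg hs
  obtain ⟨c, hc⟩ : ∃ c, c = a * z * a⁻¹ * z⁻¹ := ⟨_, rfl⟩
  have hcc : c ∈ center G := hc ▸ A.cenS a ha hσa z hz
  rw [show u * a * z * (u * a)⁻¹ * z⁻¹ = u * (c * z) * u⁻¹ * z⁻¹ by rw [hc]; group,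
    show u * (c * z) * u⁻¹ * z⁻¹ = u * c * (z * u⁻¹) * z⁻¹ by group,
    ← B.cfg.cenU _ (inv_mem hu) z hz, mem_center_iff.mp hcc u]
  simpa using hcc

/-- An element of `S` that is an involution modulo the centre. -/
theorem invol {x : G} (hx : x ∈ S) (hx2 : x * x ∈ center G) :
    ∃ u ∈ U, ∃ k ∈ S, σ k = k ∧ (∀ w ∈ U, k * w = w * k) ∧ x = u * k ∧
      (u ∈ X → ∃ q ∈ X, q⁻¹ * x ∈ center G) := by
  obtain ⟨u, hu, c, hc, hσc, rfl⟩ := H10.Shult.Rank.exists_US B.cfg hx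
  have hcN : c ∈ normalizer (U : Set G) := B.cfg.S_le_normU hc
  have key : u ∈ X → ∃ z ∈ Z, ∃ q ∈ X, q⁻¹ * (u * c) ∈ center G ∧ z⁻¹ * c ∈ center G := by
    intro huX
    obtain ⟨q, hq, z, hz, huq⟩ := A.split huX
    obtain ⟨c', hc'⟩ : ∃ y, y = z * c := ⟨_, rfl⟩
    have hq2 := A.sq q (A.movX_le hq)
    have hcq : c' * q = q * c' := by
      rw [hc', mul_assoc, A.comm_movX hσc hcN hq, ← mul_assoc,
        ← B.cfg.cenU q (A.leU (A.movX_le hq)) z hz, mul_assoc]
    have e : u * c * (u * c) = q * q * (c' * c') := by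
      calc u * c * (u * c) = q * (c' * q) * c' := by rw [huq, hc']; group
        _ = q * q * (c' * c') := by rw [hcq]; group
    have hc2 : c' * c' ∈ center G := by
      have := mul_mem (inv_mem hq2) (e ▸ hx2)
      rwa [inv_mul_cancel_left] at this
    obtain ⟨z', hz', hzc⟩ := A.hI c' (hc' ▸ mul_mem (B.hZS hz) hc)
      (by rw [hc', map_mul, B.fixZ hz, hσc]) hc2
    refine ⟨z⁻¹ * z', mul_mem (inv_mem hz) hz', q * z', mul_mem (A.movX_le hq) (A.le hz'), ?_, ?_⟩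
    · rwa [show (q * z')⁻¹ * (u * c) = z'⁻¹ * c' by rw [huq, hc']; group]
    · rwa [show (z⁻¹ * z')⁻¹ * c = z'⁻¹ * c' by rw [hc']; group]
  have hcent : ∀ w ∈ U, c * w = w * c := by
    by_cases h1 : U.normalizerMonoidHom ⟨c, hcN⟩ = 1
    · intro w hw
      exact mul_inv_eq_iff_eq_mul.mp
        (congrArg (fun ψ : MulAut U => ((ψ ⟨w, hw⟩ : U) : G)) h1)
    · obtain ⟨w, hw⟩ : ∃ w, w = u * (c * u * c⁻¹) := ⟨_, rfl⟩
      have hwU : w ∈ U := hw ▸ mul_mem hu ((mem_normalizer_iff.mp hcN u).mp hu)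
      have e : w * (c * c) = u * c * (u * c) := by rw [hw]; group
      have hσw : σ w = w := by
        have h := B.cfg.center_fix _ hx2
        rw [← e, map_mul, map_mul σ c c, hσc] at h
        exact mul_right_cancel h
      have huX : u ∈ X := A.free _ (mem_act.mpr ⟨c, hσc, hcN, fun v => rfl⟩) h1 ⟨u, hu⟩ (by
        show c * u * c⁻¹ * u⁻¹ ∈ Z
        rw [show c * u * c⁻¹ * u⁻¹ = u⁻¹ * w * u⁻¹ by rw [hw]; group,
          B.cfg.cenU _ (inv_mem hu) w (B.cfg.mem_Z hwU hσw), mul_assoc, ← mul_inv_rev]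
        exact mul_mem (B.cfg.mem_Z hwU hσw) (inv_mem (B.cfg.sqU u hu)))
      obtain ⟨z, hz, -, -, -, hzc⟩ := key huX
      intro v hv
      have hv' := mem_center_iff.mp hzc v
      calc c * v = z * (z⁻¹ * c * v) := by group
        _ = z * v * (z⁻¹ * c) := by rw [← hv']; group
        _ = v * z * (z⁻¹ * c) := by rw [B.cfg.cenU v hv z hz]
        _ = v * c := by group
  exact ⟨u, hu, c, hc, hσc, hcent, rfl, fun h => let ⟨_, _, q, hq, h1, _⟩ := key h; ⟨q, hq, h1⟩⟩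

end Axis

end H41.Shult
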