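import Cfsg.Agent.H41.Shult.TwoAct

/-!
Two blocks whose radicals meet in `Z`: invariant subgroups between `Z` and `U`, the radical of the
product, isometries of a nondegenerate form with a fixed vector.
-/

set_option autoImplicit false
set_option linter.all false

open Subgroup

namespace H41.Shult

namespace FormData

variable {U : Type*} [Group U] [Finite U] {Z : Subgroup U} {σ : MulAut U} {r m : ℕ}
  (D : FormData Z σ r m)
include D

theorem normal_of_le {F : Subgroup U} (hF : Z ≤ F) : F.Normal where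
  conj_mem := fun u hu g => by
    rw [show g * u * g⁻¹ = g * u * g⁻¹ * u⁻¹ * u by group]
    exact mul_mem (hF (D.comm g u)) hu

theorem inv_sup {A B : Subgroup U} (hB : Z ≤ B) (hA' : ∀ u ∈ A, σ u ∈ A) (hB' : ∀ u ∈ B, σ u ∈ B) :
    ∀ u ∈ A ⊔ B, σ u ∈ A ⊔ B := by
  haveI := D.normal_of_le hB
  intro y hy
  obtain ⟨a, ha, b, hb, rfl⟩ := mem_sup_of_normal_right.mp hy
  rw [map_mul]
  exact mul_mem (mem_sup_left (hA' a ha)) (mem_sup_right (hB' b hb))

theorem blk_ne_top {ε : Z →* ℤˣ} (hε : D.Blk ε) : D.rad ε ≠ ⊤ := fun h => by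
  have h1 := hε.1
  rw [h, index_top] at h1
  have := D.m_pos
  have : 1 < 2 ^ (2 * m) := Nat.one_lt_pow (by omega) (by omega)
  omega

theorem blk_card {ε η : Z →* ℤˣ} (hε : D.Blk ε) (hη : D.Blk η) :
    Nat.card (D.rad ε) = Nat.card (D.rad η) := by
  have h1 := (D.rad ε).card_mul_index
  have h2 := (D.rad η).card_mul_index
  rw [hε.1] at h1
  rw [hη.1] at h2
  exact Nat.eq_of_mul_eq_mul_right (by positivity) (h1.trans h2.symm)

theorem rad_sup_top {ε η : Z →* ℤˣ} (hε : D.Blk ε) (hη : D.Blk η) (hne : D.rad ε ≠ D.rad η) :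
    D.rad ε ⊔ D.rad η = ⊤ :=
  (hε.2 _ (D.inv_sup (D.le_rad η) (fun u hu => D.sigma_rad hu) fun u hu => D.sigma_rad hu)
    le_sup_left).resolve_left fun he =>
      hne (eq_of_le_of_card_ge (le_sup_right.trans he.le) (D.blk_card hε hη).le).symm

variable {ε η : Z →* ℤˣ} (hε : D.Blk ε) (hη : D.Blk η) (hne : D.rad ε ≠ D.rad η)
  (hinf : D.rad ε ⊓ D.rad η = Z)
include hε hη hne hinf

theorem index_plane : Z.index = 2 ^ (4 * m) := by
  haveI := D.rad_normal η
  have h5 : (D.rad ε ⊓ D.rad η).relIndex (D.rad ε) * (D.rad ε).index =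
      (D.rad ε ⊓ D.rad η).index := relIndex_mul_index inf_le_left
  have h6 : (D.rad ε ⊓ D.rad η).relIndex (D.rad ε) = (D.rad η).index := by
    rw [inf_relIndex_left, ← relIndex_top_right, ← D.rad_sup_top hε hη hne, sup_comm,
      relIndex_sup_left]
  rw [h6, hε.1, hη.1, hinf, ← pow_add] at h5
  rw [← h5]; ring_nf

/-- The only invariant subgroup strictly between `Z` and a radical is absent. -/
theorem eq_or_eq_rad {F : Subgroup U} (hF : ∀ u ∈ F, σ u ∈ F) (hZF : Z ≤ F) (hFle : F ≤ D.rad ε) :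
    F = Z ∨ F = D.rad ε := by
  haveI := D.rad_normal η
  rcases hη.2 _ (D.inv_sup (D.le_rad η) hF fun u hu => D.sigma_rad hu) le_sup_right with h | h
  · exact Or.inl (le_antisymm ((le_inf hFle (le_sup_left.trans h.le)).trans hinf.le) hZF)
  · refine Or.inr (le_antisymm hFle fun x hx => ?_)
    obtain ⟨f, hf, b, hb, rfl⟩ := mem_sup_of_normal_right.mp (h.ge (mem_top x))
    have : b ∈ D.rad ε ⊓ D.rad η := ⟨by simpa using mul_mem (inv_mem (hFle hf)) hx, hb⟩
    rw [hinf] at this
    exact mul_mem hf (hZF this)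

/-- A proper invariant subgroup above `Z` is a line. -/
theorem line {F : Subgroup U} (hF : ∀ u ∈ F, σ u ∈ F) (hZF : Z ≤ F) (hFZ : F ≠ Z) (hFtop : F ≠ ⊤) :
    F.index = 2 ^ (2 * m) ∧
      ∀ H : Subgroup U, (∀ u ∈ H, σ u ∈ H) → F ≤ H → H = F ∨ H = ⊤ := by
  haveI := D.rad_normal ε
  haveI := D.normal_of_le hZF
  have hinf' : ∀ {H : Subgroup U}, (∀ u ∈ H, σ u ∈ H) → Z ≤ H →
      H ⊓ D.rad ε = Z ∨ H ⊓ D.rad ε = D.rad ε := fun hH hZ =>
    D.eq_or_eq_rad hε hη hne hinf (fun u hu => ⟨hH u hu.1, D.sigma_rad hu.2⟩)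
      (le_inf hZ (D.le_rad ε)) inf_le_right
  rcases hinf' hF hZF with h | h
  · have hFR : ¬ F ≤ D.rad ε := fun hle => hFZ (le_antisymm ((le_inf le_rfl hle).trans h.le) hZF)
    have htop : F ⊔ D.rad ε = ⊤ :=
      (hε.2 _ (D.inv_sup (D.le_rad ε) hF fun u hu => D.sigma_rad hu) le_sup_right).resolve_left
        fun he => hFR (le_sup_left.trans he.le)
    constructor
    · have h5 : (F ⊓ D.rad ε).relIndex F * F.index = (F ⊓ D.rad ε).index :=
        relIndex_mul_index inf_le_left
      have h6 : (F ⊓ D.rad ε).relIndex F = (D.rad ε).index := by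
        rw [inf_relIndex_left, ← relIndex_top_right, ← htop, sup_comm, relIndex_sup_left]
      rw [h6, hε.1, h, D.index_plane hε hη hne hinf, show 4 * m = 2 * m + 2 * m by ring, pow_add] at h5
      exact Nat.eq_of_mul_eq_mul_left (by positivity) h5
    · intro H hH hFH
      rcases hinf' hH (hZF.trans hFH) with h' | h'
      · refine Or.inl (le_antisymm (fun x hx => ?_) hFH)
        obtain ⟨f, hf, b, hb, rfl⟩ := mem_sup_of_normal_right.mp (htop.ge (mem_top x))
        have : b ∈ H ⊓ D.rad ε := ⟨by simpa using mul_mem (inv_mem (hFH hf)) hx, hb⟩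
        rw [h'] at this
        exact mul_mem hf (hZF this)
      · exact Or.inr (top_le_iff.mp (htop.ge.trans (sup_le hFH (inf_eq_right.mp h'))))
  · rcases hε.2 F hF (inf_eq_right.mp h) with h' | h'
    · subst h'
      exact ⟨hε.1, hε.2⟩
    · exact absurd h' hFtop

/-- The product of two blocks is nondegenerate. -/
theorem rad_mul : D.rad (ε * η) = Z := by
  haveI := D.rad_normal ε
  haveI := D.rad_normal η
  have htop := D.rad_sup_top hε hη hne
  refine le_antisymm (fun u hu => ?_) (D.le_rad _)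
  rw [← hinf]
  refine ⟨fun v => ?_, fun v => ?_⟩
  · obtain ⟨a, ha, b, hb, rfl⟩ := mem_sup_of_normal_right.mp (htop.ge (mem_top v))
    have h1 : η (D.cm u b) = 1 := by rw [D.cm_comm]; exact hb u
    have h2 := hu b
    rw [MonoidHom.mul_apply, h1, mul_one] at h2
    rw [D.cm_mul_right, map_mul, h2, mul_one, D.cm_comm]
    exact ha u
  · obtain ⟨a, ha, b, hb, rfl⟩ := mem_sup_of_normal_right.mp (htop.ge (mem_top v))
    have h1 : ε (D.cm u a) = 1 := by rw [D.cm_comm]; exact ha u
    have h2 := hu a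
    rw [MonoidHom.mul_apply, h1, one_mul] at h2
    rw [D.cm_mul_right, map_mul, h2, one_mul, D.cm_comm]
    exact hb u

/-- An isometry of odd order, coprime to `r`, commuting with `σ` and fixing a vector of a
nondegenerate character is trivial modulo `Z`. -/
theorem isometry_fixed {χ : Z →* ℤˣ} (hχ : D.rad χ = Z) (φ : MulAut U)
    (hσ : ∀ u, φ (σ u) = σ (φ u)) (hcop : Nat.Coprime r (orderOf φ)) (hodd : Odd (orderOf φ))
    (hiso : ∀ u v, χ (D.cm (φ u) (φ v)) = χ (D.cm u v))
    {v : U} (hv : v ∉ Z) (hfix : φ v * v⁻¹ ∈ Z) : ∀ u, φ u * u⁻¹ ∈ Z := by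
  classical
  haveI hZn := D.normal_of_le (le_refl Z)
  have hφZ : ∀ z ∈ Z, φ z ∈ Z := fun z hz => (D.fix _).mp (by rw [← hσ, (D.fix z).mpr hz])
  let F : Subgroup U :=
    { carrier := {x | φ x * x⁻¹ ∈ Z}
      one_mem' := by simp
      mul_mem' := fun {a b} ha hb => by
        show φ (a * b) * (a * b)⁻¹ ∈ Z
        rw [map_mul, show φ a * φ b * (a * b)⁻¹ = φ a * (φ b * b⁻¹) * a⁻¹ by group,
          D.cen _ hb (φ a), mul_assoc]
        exact mul_mem hb ha
      inv_mem' := fun {a} ha => by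
        show φ a⁻¹ * a⁻¹⁻¹ ∈ Z
        rw [map_inv, show (φ a)⁻¹ * a⁻¹⁻¹ = a⁻¹ * (a * (φ a)⁻¹) * a⁻¹⁻¹ by group]
        refine hZn.conj_mem _ ?_ a⁻¹
        have := inv_mem (show φ a * a⁻¹ ∈ Z from ha)
        rwa [mul_inv_rev, inv_inv] at this }
  have hFinv : ∀ x ∈ F, σ x ∈ F := fun x hx => by
    show φ (σ x) * (σ x)⁻¹ ∈ Z
    rw [hσ, ← map_inv σ, ← map_mul σ, (D.fix _).mpr hx]; exact hx
  have hZF : Z ≤ F := fun z hz => mul_mem (hφZ z hz) (inv_mem hz)
  by_contra hne'
  have hFtop : F ≠ ⊤ := fun h => hne' fun u => (h.ge (mem_top u) : u ∈ F)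
  have hFZ : F ≠ Z := fun h => hv (h ▸ hfix)
  let P : Subgroup U :=
    { carrier := {x | ∀ f ∈ F, χ (D.cm x f) = 1}
      one_mem' := fun f _ => by rw [D.cm_of_mem (one_mem _), map_one]
      mul_mem' := fun {a b} ha hb f hf => by
        rw [D.cm_mul_left, map_mul, ha f hf, hb f hf, one_mul]
      inv_mem' := fun {a} ha f hf => by
        have h := D.cm_mul_left a a⁻¹ f
        rw [mul_inv_cancel, D.cm_of_mem (one_mem _)] at h
        have := congrArg χ h
        rw [map_one, map_mul, ha f hf, one_mul] at this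
        exact this.symm }
  have hPinv : ∀ x ∈ P, σ x ∈ P := fun x hx f hf => by
    obtain ⟨⟨g, hg⟩, he⟩ := (Finite.injective_iff_surjective
      (f := fun y : F => (⟨σ y, hFinv y y.2⟩ : F))).mp
      (fun a b e => Subtype.ext (σ.injective (congrArg Subtype.val e))) ⟨f, hf⟩
    have he' : σ g = f := congrArg Subtype.val he
    rw [← he', D.cm_sigma]; exact hx g hg
  have hZP : Z ≤ P := fun z hz f _ => by rw [D.cm_of_mem hz, map_one]
  have himg : ∀ u, φ u * u⁻¹ ∈ P := fun u f hf => by
    have e : χ (D.cm (φ u) f) = χ (D.cm u f) := by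
      conv_rhs => rw [← hiso u f]
      rw [show φ f = φ f * f⁻¹ * f by group, D.cm_mul_right, map_mul, D.cm_comm (φ u) (φ f * f⁻¹),
        D.cm_of_mem hf, map_one, one_mul]
    have h1 := D.cm_mul_left (φ u * u⁻¹) u f
    rw [inv_mul_cancel_right] at h1
    have h2 := congrArg χ h1
    rw [map_mul, e] at h2
    exact mul_right_cancel (h2.symm.trans (one_mul _).symm)
  have hPtop : P ≠ ⊤ := fun h => hFZ (le_antisymm (fun f hf => hχ ▸ fun u => by
    rw [D.cm_comm]; exact (h.ge (mem_top u) : u ∈ P) f hf) hZF)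
  have hPZ : P ≠ Z := fun h => hne' fun u => h ▸ himg u
  obtain ⟨hFi, hFmax⟩ := D.line hε hη hne hinf hFinv hZF hFZ hFtop
  obtain ⟨hPi, hPmax⟩ := D.line hε hη hne hinf hPinv hZP hPZ hPtop
  have hcard : Nat.card F = Nat.card P := by
    have h1 := F.card_mul_index
    have h2 := P.card_mul_index
    rw [hFi] at h1
    rw [hPi] at h2
    exact Nat.eq_of_mul_eq_mul_right (by positivity) (h1.trans h2.symm)
  haveI := D.normal_of_le hZP
  rcases hPmax _ (D.inv_sup hZP hFinv hPinv) le_sup_right with h | h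
  · -- the fixed line is isotropic
    have hPF : P ≤ F := (eq_of_le_of_card_ge (le_sup_left.trans h.le) hcard.ge).ge
    have hφ2 : ∀ u, φ (φ u) * u⁻¹ ∈ Z := fun u => by
      have hd : φ (φ u * u⁻¹) * (φ u * u⁻¹)⁻¹ ∈ Z := hPF (himg u)
      obtain ⟨d, hdd⟩ : ∃ d, d = φ u * u⁻¹ := ⟨_, rfl⟩
      rw [← hdd] at hd
      have e : φ (φ u) * u⁻¹ = φ d * d⁻¹ * (d * d) := by
        have hd1 : φ u = d * u := by rw [hdd]; group
        rw [hd1, map_mul, hd1]; group
      rw [e]; exact mul_mem hd (D.sq d)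
    refine hne' ?_
    have hpow : ∀ k : ℕ, ∀ u, ((φ * φ) ^ k) u * u⁻¹ ∈ Z := by
      intro k
      induction k with
      | zero => intro u; simp
      | succ k ih =>
        intro u
        rw [pow_succ, MulAut.mul_apply]
        have := mul_mem (ih ((φ * φ) u)) (hφ2 u)
        convert this using 1
        rw [MulAut.mul_apply]; group
    obtain ⟨l, hl⟩ := hodd
    have e : (φ * φ) ^ (l + 1) = φ := by
      rw [← pow_two, ← pow_mul, show 2 * (l + 1) = orderOf φ + 1 by omega, pow_succ,
        pow_orderOf_eq_one, one_mul]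
    intro u
    have := hpow (l + 1) u
    rwa [e] at this
  · -- the perpendicular line is a block
    have hPsym : ∀ x ∈ P, (∀ y ∈ P, χ (D.cm x y) = 1) → x ∈ Z := fun x hx hxy => hχ ▸ fun w => by
      show χ (D.cm x w) = 1
      obtain ⟨f, hf, y, hy, rfl⟩ := mem_sup_of_normal_right.mp (h.ge (mem_top w))
      rw [D.cm_mul_right, map_mul, hx f hf, hxy y hy, one_mul]
    have hsP : SInv σ P := hPinv
    have D' : FormData (Z.subgroupOf P) (restrict hsP) r m :=
      { hr := D.hr
        hrm := D.hrm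
        m_pos := D.m_pos
        hσ := MulEquiv.ext fun u => Subtype.ext (by rw [restrict_pow, D.hσ]; rfl)
        sqZ := fun z hz => Subtype.ext (D.sqZ _ hz)
        cen := fun z hz u => Subtype.ext (D.cen _ hz _)
        sq := fun u => D.sq _
        comm := fun u v => D.comm _ _
        fix := fun u => Subtype.ext_iff.trans (D.fix _) }
    let ι : (Z.subgroupOf P) →* Z :=
      { toFun := fun z => ⟨((z : P) : U), z.2⟩
        map_one' := rfl
        map_mul' := fun a b => rfl }
    have hrad : D'.rad (χ.comp ι) = Z.subgroupOf P := by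
      refine le_antisymm ?_ (D'.le_rad _)
      intro x hx
      show (x : U) ∈ Z
      exact hPsym (x : U) x.2 fun y hy => hx ⟨y, hy⟩
    have hPidx : (Z.subgroupOf P).index = 2 ^ (2 * m) := by
      have h5 : Z.relIndex P * P.index = Z.index := relIndex_mul_index hZP
      rw [hPi, D.index_plane hε hη hne hinf, show 4 * m = 2 * m + 2 * m by ring, pow_add] at h5
      exact Nat.eq_of_mul_eq_mul_right (by positivity) h5
    have hblk : D'.Blk (χ.comp ι) := by
      refine ⟨by rw [hrad]; exact hPidx, fun H hH hle => ?_⟩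
      rw [hrad] at hle ⊢
      have hmap : ∀ x ∈ H.map P.subtype, σ x ∈ H.map P.subtype := by
        rintro _ ⟨x, hx, rfl⟩
        exact ⟨_, hH x hx, rfl⟩
      have hZH : Z ≤ H.map P.subtype := fun z hz => ⟨⟨z, hZP hz⟩, hle hz, rfl⟩
      by_cases hHZ : H.map P.subtype = Z
      · left
        refine le_antisymm (fun x hx => ?_) hle
        show (x : U) ∈ Z
        rw [← hHZ]; exact ⟨x, hx, rfl⟩
      · right
        have hHtop : H.map P.subtype ≠ ⊤ := fun e => hPtop (top_le_iff.mp (e.ge.trans (map_subtype_le _)))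
        obtain ⟨-, hmax⟩ := D.line hε hη hne hinf hmap hZH hHZ hHtop
        have hPe := (hmax P hPinv (map_subtype_le _)).resolve_right hPtop
        refine eq_top_iff.mpr fun x _ => ?_
        obtain ⟨y, hy, he⟩ := hPe.le x.2
        rwa [← Subtype.ext he]
    have hφP : ∀ x ∈ P, φ x ∈ P := fun x hx => by
      have := mul_mem (himg x) hx
      rwa [inv_mul_cancel_right] at this
    have hφPbij : Function.Bijective fun x : P => (⟨φ x, hφP x x.2⟩ : P) :=
      Finite.injective_iff_bijective.mp fun a b e =>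
        Subtype.ext (φ.injective (congrArg Subtype.val e))
    let φ' : MulAut P := MulEquiv.ofBijective
      ({ toFun := fun x => ⟨φ x, hφP x x.2⟩
         map_one' := Subtype.ext (by simp)
         map_mul' := fun a b => Subtype.ext (by simp) } : P →* P) hφPbij
    have hφ'c : Nat.Coprime r (orderOf φ') := by
      refine Nat.Coprime.coprime_dvd_right ?_ hcop
      refine orderOf_dvd_of_pow_eq_one ?_
      have hit : ∀ (k : ℕ) (x : P), (((φ' ^ k) x : P) : U) = (φ ^ k) x := by
        intro k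
        induction k with
        | zero => intro x; rfl
        | succ k ih =>
          intro x
          rw [pow_succ, MulAut.mul_apply, ih, pow_succ, MulAut.mul_apply]
          rfl
      exact MulEquiv.ext fun x => Subtype.ext (by rw [hit, pow_orderOf_eq_one]; rfl)
    have hst := D'.stab hblk φ' (fun x => Subtype.ext (hσ x)) hφ'c fun x y => by
      show χ (ι (D'.cm (φ' x) (φ' y))) = χ (ι (D'.cm x y))
      exact hiso x y
    refine hFtop (top_le_iff.mp (h.ge.trans (sup_le le_rfl fun x hx => ?_)))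
    have := hst ⟨x, hx⟩
    rw [hrad] at this
    exact this

end FormData

end H41.Shult
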