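import Cfsg.Agent.H41.Shult.TwoAxis
import Cfsg.Agent.H41.Shult.TwoPlaneForms
import Cfsg.Agent.H85.Shult.TwoShape
import Cfsg.Agent.H83.Shult.TwoTransfer

/-!
Shult's fixed point theorem, several radicals: an induced group fixing no odd character has a normal
subgroup of translations, regular on the odd characters, and a common axis.
-/

set_option autoImplicit false
set_option linter.all false

open Subgroup

namespace H41.Shult

open H85.Shult (Top fixed disp Inv)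
open H85.Shult.TwoShape (EvenCh zc ch_sq ch_eq)

variable {G : Type*} [Group G] [Finite G] {σ : MulAut G} {r m p : ℕ} {S U Z H₀ : Subgroup G}

/-- An induced automorphism multiplying every odd character by `χ`. -/
def IsTrl (B : Two σ r m p S U Z H₀) (φ : MulAut U) (χ : (Z.subgroupOf U) →* ℤˣ) : Prop :=
  ∃ hφ : φ ∈ act σ U, ∀ ε, OddCh U Z ε → B.pull φ hφ ε = ε * χ

namespace Two

variable (B : Two σ r m p S U Z H₀)
include B

/-- The elements of `U` fixed modulo `Z`. -/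
def cfix (B : Two σ r m p S U Z H₀) (φ : MulAut U) : Subgroup U where
  carrier := {u | φ u * u⁻¹ ∈ Z.subgroupOf U}
  one_mem' := by
    show φ 1 * (1 : U)⁻¹ ∈ Z.subgroupOf U
    simp
  mul_mem' := fun {a b} ha hb => by
    show φ (a * b) * (a * b)⁻¹ ∈ Z.subgroupOf U
    rw [map_mul, show φ a * φ b * (a * b)⁻¹ = φ a * (φ b * b⁻¹) * a⁻¹ by group,
      B.fd.cen _ hb (φ a), mul_assoc]
    exact mul_mem hb ha
  inv_mem' := fun {a} ha => by
    show φ a⁻¹ * a⁻¹⁻¹ ∈ Z.subgroupOf U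
    rw [map_inv, show (φ a)⁻¹ * a⁻¹⁻¹ = a⁻¹ * (φ a * a⁻¹)⁻¹ * a by group,
      B.fd.cen _ (inv_mem ha) a⁻¹, inv_mul_cancel_right]
    exact inv_mem ha

theorem mem_cfix {φ : MulAut U} {u : U} : u ∈ B.cfix φ ↔ φ u * u⁻¹ ∈ Z.subgroupOf U := Iff.rfl

theorem Z_le_cfix {φ : MulAut U} (hφ : φ ∈ act σ U) : Z.subgroupOf U ≤ B.cfix φ := fun z hz =>
  mul_mem (B.act_Z hφ hz) (inv_mem hz)

theorem cfix_inv {φ : MulAut U} (hφ : φ ∈ act σ U) :
    ∀ u ∈ B.cfix φ, restrict (show SInv σ U from B.cfg.invU) u ∈ B.cfix φ := fun u hu => by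
  show φ _ * _ ∈ Z.subgroupOf U
  rw [B.act_sigma hφ, ← map_inv, ← map_mul, (B.fd.fix _).mpr hu]
  exact hu

/-- Characters separate `Z` over a subgroup. -/
theorem exists_sep (M : Subgroup (Z.subgroupOf U)) {z : Z.subgroupOf U} (hz : z ∉ M) :
    ∃ χ : (Z.subgroupOf U) →* ℤˣ, χ z ≠ 1 ∧ ∀ w ∈ M, χ w = 1 := by
  letI : CommGroup (Z.subgroupOf U) :=
    { (inferInstance : Group (Z.subgroupOf U)) with
      mul_comm := fun a b => Subtype.ext (B.fd.cen (b : U) b.2 (a : U)) }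
  obtain ⟨f, hf⟩ := H83.Shult.Transfer.exists_sign (W := (Z.subgroupOf U) ⧸ M)
    (fun w => by
      obtain ⟨a, rfl⟩ := QuotientGroup.mk_surjective w
      rw [← QuotientGroup.mk_pow, pow_two, show a * a = 1 from Subtype.ext (B.fd.sqZ _ a.2)]
      rfl)
    (fun h => hz ((QuotientGroup.eq_one_iff z).mp h))
  exact ⟨f.comp (QuotientGroup.mk' M), hf, fun w hw => by
    rw [MonoidHom.comp_apply, QuotientGroup.mk'_apply, (QuotientGroup.eq_one_iff w).mpr hw, map_one]⟩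

theorem central_of_even {z : Z.subgroupOf U}
    (h : ∀ χ : (Z.subgroupOf U) →* ℤˣ, χ ≠ 1 → EvenCh U Z χ → χ z = 1) :
    ((z : U) : G) ∈ center G := by
  by_contra hz
  obtain ⟨χ, hχ, hM⟩ := B.exists_sep (zc U Z) (z := z) hz
  exact hχ (h χ (fun e => hχ (by rw [e]; rfl)) fun w hw => hM w hw)

theorem zc_index : (zc U Z).index = (Z ⊓ center G).relIndex Z := by
  show (((center G).comap U.subtype).comap (Z.subgroupOf U).subtype).index = _
  rw [Subgroup.comap_comap, index_comap, MonoidHom.range_comp, Subgroup.range_subtype,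
    subgroupOf_map_subtype, inf_eq_left.mpr B.hZU, inf_relIndex_left]

/-- An element fixing two odd characters is trivial. -/
theorem eq_one_of_two (hinf : ∀ ε η, OddCh U Z ε → OddCh U Z η → ε ≠ η →
      B.fd.rad ε ⊓ B.fd.rad η = Z.subgroupOf U)
    (hblk : ∀ ε, OddCh U Z ε → B.fd.Blk ε) {φ : MulAut U} (hφ : φ ∈ act σ U)
    {ε η : (Z.subgroupOf U) →* ℤˣ} (hε : OddCh U Z ε) (hη : OddCh U Z η) (hne : ε ≠ η)
    (h1 : B.pull φ hφ ε = ε) (h2 : B.pull φ hφ η = η) : φ = 1 :=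
  B.eq_one_of_two_fixed hφ (hblk ε hε) (hblk η hη) h1 h2 (hinf ε η hε hη hne).le

theorem pull_congr {φ ψ : MulAut U} (hφ : φ ∈ act σ U) (hψ : ψ ∈ act σ U) (e : φ = ψ)
    (ε : (Z.subgroupOf U) →* ℤˣ) : B.pull φ hφ ε = B.pull ψ hψ ε := by
  subst e; rfl

open scoped Classical in
/-- The translations. -/
theorem exists_translations (hinf : ∀ ε η, OddCh U Z ε → OddCh U Z η → ε ≠ η →
      B.fd.rad ε ⊓ B.fd.rad η = Z.subgroupOf U)
    (hblk : ∀ ε, OddCh U Z ε → B.fd.Blk ε) (D : Subgroup (MulAut U)) (hD : D ≤ act σ U)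
    (htr : ∀ a : U, (a : G) ∈ Z → (a : G) ∉ center G → ∀ b : U, (b : G) ∈ Z →
      (b : G) ∉ center G → ∃ φ ∈ D, ((φ a : U) : G)⁻¹ * b ∈ center G)
    (hodd : Odd (Nat.card D)) {ε₀ : (Z.subgroupOf U) →* ℤˣ} (hε₀ : OddCh U Z ε₀)
    (hfix₀ : ∀ φ, ∀ hφ : φ ∈ D, B.pull φ (hD hφ) ε₀ = ε₀)
    (hmove : ∀ ε, OddCh U Z ε → ∃ φ, ∃ hφ : φ ∈ act σ U, B.pull φ hφ ε ≠ ε) :
    (∀ χ : (Z.subgroupOf U) →* ℤˣ, χ ≠ 1 → EvenCh U Z χ → ∃ τ, τ ≠ 1 ∧ IsTrl B τ χ) ∧
      (∀ φ ∈ act σ U, (∃ χ, EvenCh U Z χ ∧ IsTrl B φ χ) ∨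
        ∃ ε, ∃ hφ : φ ∈ act σ U, OddCh U Z ε ∧ B.pull φ hφ ε = ε) ∧
      ∀ c, ∀ hc : c ∈ S, σ c = c → ∃ χ, EvenCh U Z χ ∧
        IsTrl B (U.normalizerMonoidHom ⟨c, B.cfg.S_le_normU hc⟩) χ := by
  haveI : Finite ((Z.subgroupOf U) →* ℤˣ) := Finite.of_injective _ DFunLike.coe_injective
  haveI : Finite (MulAut U) := Finite.of_injective (fun e => (e : U → U)) DFunLike.coe_injective
  let O := {ε : (Z.subgroupOf U) →* ℤˣ // OddCh U Z ε}
  haveI : Fintype O := Fintype.ofFinite _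
  let g : act σ U → O → O := fun φ x => ⟨B.pull φ.1 φ.2 x.1, B.pull_odd φ.2 x.2⟩
  have gmul : ∀ (φ ψ : act σ U) x, g (φ * ψ) x = g ψ (g φ x) := fun φ ψ x =>
    Subtype.ext (B.pull_mul φ.2 ψ.2 x.1)
  have gone : ∀ x, g 1 x = x := fun x => Subtype.ext (B.pull_one x.1)
  have ginv : ∀ φ x, g φ⁻¹ (g φ x) = x := fun φ x => by rw [← gmul, mul_inv_cancel, gone]
  have ginv' : ∀ φ x, g φ (g φ⁻¹ x) = x := fun φ x => by rw [← gmul, inv_mul_cancel, gone]
  have gtwo : ∀ (φ : act σ U) (x y : O), x ≠ y → g φ x = x → g φ y = y → φ = 1 := fun φ x y h hx hy =>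
    Subtype.ext (B.eq_one_of_two hinf hblk φ.2 x.2 y.2 (fun e => h (Subtype.ext e))
      (congrArg Subtype.val hx) (congrArg Subtype.val hy))
  let o : O := ⟨ε₀, hε₀⟩
  -- `D` is transitive on the other odd characters
  have hDtr : ∀ x y : O, x ≠ o → y ≠ o →
      ∃ φ : act σ U, (φ : MulAut U) ∈ D ∧ g φ x = y := by
    intro x y hx hy
    have hχ : ∀ z : O, z ≠ o → ε₀ * z.1 ≠ 1 ∧ EvenCh U Z (ε₀ * z.1) := fun z hz =>
      ⟨fun h => hz (Subtype.ext (ch_eq h).symm), H85.Shult.TwoShape.even_mul_odd B hε₀ z.2⟩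
    obtain ⟨φ, hφ, he⟩ := H85.Shult.TwoShape.all_even B hD htr
      (P := fun χ => ∃ φ, ∃ hφ : φ ∈ D, B.pull φ (hD hφ) (ε₀ * x.1) = χ)
      (fun ψ hψ χ ⟨φ, hφ, e⟩ => ⟨φ * ψ, mul_mem hφ hψ, by
        rw [← e]; exact B.pull_mul (hD hφ) (hD hψ) _⟩)
      ⟨ε₀ * x.1, (hχ x hx).1, (hχ x hx).2, 1, one_mem _, B.pull_one _⟩
      (hχ y hy).1 (hχ y hy).2
    refine ⟨⟨φ, hD hφ⟩, hφ, Subtype.ext ?_⟩
    show B.pull φ (hD hφ) x.1 = y.1
    rw [H85.Shult.TwoShape.pull_mul_ch B, hfix₀ φ hφ] at he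
    exact mul_left_cancel he
  obtain ⟨x₁, hx₁⟩ : ∃ x : O, x ≠ o := by
    obtain ⟨ε, hε, hs⟩ := H85.Shult.TwoShape.exists_odd_avoid B {ε₀}
      (by rw [Finset.card_singleton]; have := B.h4; omega)
    exact ⟨⟨ε, hε⟩, fun e => hs (by simp [show ε = ε₀ from congrArg Subtype.val e])⟩
  have hD0 : ∀ φ : act σ U, (φ : MulAut U) ∈ D → g φ o = o := fun φ h =>
    Subtype.ext (hfix₀ _ h)
  have hne0 : ∀ (φ : act σ U) x, g φ o = o → x ≠ o → g φ x ≠ o := fun φ x hφ hx e => hx (by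
    have h := congrArg (g φ⁻¹) (e.trans hφ.symm)
    rwa [ginv, ginv] at h)
  have hstab : ∀ φ : act σ U, g φ o = o → (φ : MulAut U) ∈ D := by
    intro φ hφ
    obtain ⟨d, hd, hde⟩ := hDtr x₁ (g φ x₁) hx₁ (hne0 φ x₁ hφ hx₁)
    have h1 : φ * d⁻¹ = 1 := gtwo _ o x₁ hx₁.symm
      (by rw [gmul, hφ]; exact hD0 _ (inv_mem hd))
      (by rw [gmul, ← hde, ginv])
    rwa [mul_inv_eq_one.mp h1]
  have htrans : ∀ x, ∃ φ, g φ o = x := by
    intro x
    by_cases hx : x = o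
    · exact ⟨1, by rw [gone, hx]⟩
    obtain ⟨φ, hφ, hm⟩ := hmove ε₀ hε₀
    obtain ⟨d, -, hd⟩ := hDtr (g ⟨φ, hφ⟩ o) x (fun e => hm (congrArg Subtype.val e)) hx
    exact ⟨⟨φ, hφ⟩ * d, by rw [gmul, hd]⟩
  choose t ht using htrans
  have hts : ∀ x, g (t x)⁻¹ x = o := fun x => by
    have := ginv (t x) o
    rwa [ht] at this
  -- the sizes
  have cD : Nat.card D + 1 = Nat.card O := by
    let f : Option D → O := fun d => d.elim o fun d => g ⟨d.1, hD d.2⟩ x₁
    refine (show Nat.card (Option D) = Nat.card D + 1 from Finite.card_option).symm.trans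
      (Nat.card_congr (Equiv.ofBijective f ⟨?_, ?_⟩))
    · rintro (_ | a) (_ | b) e
      · rfl
      · exact absurd e.symm (hne0 _ x₁ (hD0 ⟨b.1, hD b.2⟩ b.2) hx₁)
      · exact absurd e (hne0 _ x₁ (hD0 ⟨a.1, hD a.2⟩ a.2) hx₁)
      · have h1 : (⟨a.1, hD a.2⟩ : act σ U) * (⟨b.1, hD b.2⟩ : act σ U)⁻¹ = 1 := gtwo _ o x₁ hx₁.symm
          (hD0 _ (mul_mem a.2 (inv_mem b.2)))
          (by rw [gmul, show g ⟨a.1, hD a.2⟩ x₁ = g ⟨b.1, hD b.2⟩ x₁ from e, ginv])
        have h2 := congrArg Subtype.val (mul_inv_eq_one.mp h1)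
        exact congrArg some (Subtype.ext h2)
    · intro y
      by_cases hy : y = o
      · exact ⟨none, hy.symm⟩
      · obtain ⟨d, hd, e⟩ := hDtr x₁ y hx₁ hy
        exact ⟨some ⟨d.1, hd⟩, e⟩
  let eD : ∀ x : O, {φ : act σ U // g φ x = x} ≃ D := fun x =>
    { toFun := fun φ => ⟨_, hstab (t x * φ.1 * (t x)⁻¹) (by
        rw [gmul, gmul, ht, φ.2, hts])⟩
      invFun := fun d => ⟨(t x)⁻¹ * ⟨d.1, hD d.2⟩ * t x, by
        rw [gmul, gmul]
        rw [hts, hD0 _ d.2, ht]⟩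
      left_inv := fun φ => Subtype.ext (by
        show (t x)⁻¹ * (t x * φ.1 * (t x)⁻¹) * t x = φ.1
        group)
      right_inv := fun d => Subtype.ext (by
        show ((t x * ((t x)⁻¹ * ⟨d.1, hD d.2⟩ * t x) * (t x)⁻¹ : act σ U) : MulAut U) = d
        rw [show t x * ((t x)⁻¹ * ⟨d.1, hD d.2⟩ * t x) * (t x)⁻¹ = (⟨d.1, hD d.2⟩ : act σ U) by
          group]) }
  let eA : act σ U ≃ O × D :=
    { toFun := fun φ => (g φ o, ⟨_, hstab (φ * (t (g φ o))⁻¹) (by
        rw [gmul, hts])⟩)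
      invFun := fun xd => ⟨xd.2.1, hD xd.2.2⟩ * t xd.1
      left_inv := fun φ => by
        show φ * (t (g φ o))⁻¹ * t (g φ o) = φ
        group
      right_inv := fun ⟨x, d⟩ => by
        have h1 : g ((⟨d.1, hD d.2⟩ : act σ U) * t x) o = x := by rw [gmul, hD0 _ d.2, ht]
        refine Prod.ext h1 (Subtype.ext ?_)
        show (((⟨d.1, hD d.2⟩ : act σ U) * t x * (t (g (⟨d.1, hD d.2⟩ * t x) o))⁻¹ : act σ U) :
          MulAut U) = d
        rw [h1, mul_inv_cancel_right] }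
  haveI : Fintype (act σ U) := Fintype.ofFinite _
  have cA : Fintype.card (act σ U) = Nat.card O * Nat.card D := by
    rw [← Nat.card_eq_fintype_card, Nat.card_congr eA, Nat.card_prod]
  set Fp := Finset.univ.filter fun φ : act σ U => ∀ x, g φ x ≠ x with hFp
  have cF : Fp.card + 1 = Nat.card O := by
    let Fx : O → Finset (act σ U) := fun x =>
      (Finset.univ.filter fun φ : act σ U => g φ x = x).erase 1
    have h1 : (Finset.univ : Finset (act σ U)) = insert 1 (Fp ∪ Finset.univ.biUnion Fx) := by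
      refine (Finset.eq_univ_iff_forall.mpr fun φ => ?_).symm
      by_cases h1 : φ = 1
      · exact Finset.mem_insert.mpr (Or.inl h1)
      by_cases hx : ∃ x, g φ x = x
      · obtain ⟨x, hx⟩ := hx
        refine Finset.mem_insert_of_mem (Finset.mem_union_right _ (Finset.mem_biUnion.mpr
          ⟨x, Finset.mem_univ _, ?_⟩))
        simp [Fx, h1, hx]
      · push Not at hx
        refine Finset.mem_insert_of_mem (Finset.mem_union_left _ ?_)
        simp [hFp, hx]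
    have hd : ∀ x ∈ (Finset.univ : Finset O), ∀ y ∈ (Finset.univ : Finset O), x ≠ y →
        Disjoint (Fx x) (Fx y) := by
      intro x _ y _ hxy
      refine Finset.disjoint_left.mpr fun φ ha hb => ?_
      simp only [Fx, Finset.mem_erase, Finset.mem_filter, Finset.mem_univ, true_and] at ha hb
      exact ha.1 (gtwo φ x y hxy ha.2 hb.2)
    have hd2 : Disjoint Fp (Finset.univ.biUnion Fx) := by
      refine Finset.disjoint_left.mpr fun φ ha hb => ?_
      obtain ⟨x, -, hx⟩ := Finset.mem_biUnion.mp hb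
      simp only [Fx, Finset.mem_erase, Finset.mem_filter, Finset.mem_univ, true_and] at hx
      exact (Finset.mem_filter.mp ha).2 x hx.2
    have h1n : (1 : act σ U) ∉ Fp ∪ Finset.univ.biUnion Fx := by
      simp [hFp, Fx, gone]
      exact ⟨o⟩
    have hc : ∀ x, (Fx x).card + 1 = Nat.card D := by
      intro x
      rw [← Nat.card_congr (eD x), Nat.card_eq_fintype_card, Fintype.card_subtype]
      exact Finset.card_erase_add_one (by simp [gone])
    have h2 := congrArg Finset.card h1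
    rw [Finset.card_univ, cA, Finset.card_insert_of_notMem h1n,
      Finset.card_union_of_disjoint hd2, Finset.card_biUnion hd] at h2
    have h3 : ∑ x : O, ((Fx x).card + 1) = Nat.card O * Nat.card D := by
      rw [Finset.sum_congr rfl fun x _ => hc x, Finset.sum_const, Finset.card_univ,
        ← Nat.card_eq_fintype_card, smul_eq_mul]
    rw [Finset.sum_add_distrib, Finset.sum_const, Finset.card_univ, smul_eq_mul, mul_one,
      ← Nat.card_eq_fintype_card] at h3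
    omega
  -- a Sylow 2-subgroup
  haveI : Fact (Nat.Prime 2) := ⟨Nat.prime_two⟩
  obtain ⟨n, hn⟩ : ∃ n, Nat.card O = 2 ^ n := by
    obtain ⟨j, hj⟩ := IsPGroup.iff_card.mp (B.cfg.pS.to_le B.hZS)
    have hd : (Z ⊓ center G).relIndex Z ∣ 2 ^ j := hj ▸ Subgroup.index_dvd_card _
    obtain ⟨i, -, hi⟩ := (Nat.dvd_prime_pow Nat.prime_two).mp hd
    exact ⟨i, (H85.Shult.TwoShape.card_oddCh B).trans hi⟩
  let P : Sylow 2 (act σ U) := default
  have hfpf : ∀ φ : act σ U, (∃ k, φ ^ 2 ^ k = 1) → φ ≠ 1 → ∀ x, g φ x ≠ x := by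
    rintro φ ⟨k, hk⟩ h1 x hx
    refine h1 ?_
    obtain ⟨ψ, hψ⟩ : ∃ y, y = t x * φ * (t x)⁻¹ := ⟨_, rfl⟩
    have hd : (ψ : MulAut U) ∈ D := hstab ψ (by
      rw [hψ, gmul, gmul, ht, hx, hts])
    have hψ2 : ψ ^ 2 ^ k = 1 := by
      rw [hψ, conj_pow, hk, mul_one, mul_inv_cancel]
    have h3 : orderOf ψ ∣ Nat.card D := by
      rw [← Subgroup.orderOf_coe]
      exact Subgroup.orderOf_dvd_natCard D hd
    have h4 : ψ = 1 := orderOf_eq_one_iff.mp (Nat.eq_one_of_dvd_coprimes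
      (Nat.Coprime.pow_left k (Nat.coprime_two_left.mpr hodd)) (orderOf_dvd_of_pow_eq_one hψ2) h3)
    rw [hψ] at h4
    exact conj_eq_one_iff.mp h4
  have hP2 : ∀ φ ∈ P, ∃ k, φ ^ 2 ^ k = 1 := fun φ h => by
    obtain ⟨k, hk⟩ := P.2 ⟨φ, h⟩
    exact ⟨k, by simpa using congrArg Subtype.val hk⟩
  have cP : Nat.card P = Nat.card O := by
    rw [P.card_eq_multiplicity, Nat.card_eq_fintype_card (α := act σ U), cA, hn,
      Nat.factorization_mul (by positivity) (Nat.card_pos).ne', Finsupp.add_apply,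
      Nat.factorization_pow, Finsupp.smul_apply, Nat.prime_two.factorization_self,
      Nat.factorization_eq_zero_of_not_dvd (fun h => (Nat.not_even_iff_odd.mpr hodd)
        (even_iff_two_dvd.mpr h))]
    simp
  have hPF : ∀ φ : act σ U, φ ∈ P ↔ φ = 1 ∨ ∀ x, g φ x ≠ x := by
    haveI : Fintype P := Fintype.ofFinite _
    have hsub : ((P : Subgroup (act σ U)) : Set (act σ U)).toFinset ⊆ insert 1 Fp := by
      intro φ hφ
      rw [Set.mem_toFinset] at hφ
      by_cases h1 : φ = 1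
      · exact Finset.mem_insert.mpr (Or.inl h1)
      · exact Finset.mem_insert_of_mem (by simp [hFp]; exact fun a => hfpf φ (hP2 φ hφ) h1 a)
    have heq := Finset.eq_of_subset_of_card_le hsub (by
      refine (Finset.card_insert_le _ _).trans ?_
      rw [cF, ← cP, Set.toFinset_card, Nat.card_eq_fintype_card]
      rfl)
    intro φ
    have := Finset.ext_iff.mp heq φ
    rw [Set.mem_toFinset, Finset.mem_insert] at this
    rw [hFp, Finset.mem_filter] at this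
    exact ⟨fun h => (this.mp h).imp id And.right,
      fun h => this.mpr (h.imp id fun h => ⟨Finset.mem_univ _, h⟩)⟩
  have hPn : ∀ φ ∈ P, ∀ a : act σ U, a * φ * a⁻¹ ∈ P := by
    intro φ hφ a
    rcases (hPF φ).mp hφ with h | h
    · rw [h]; simp
    refine (hPF _).mpr (Or.inr fun x hx => h (g a x) ?_)
    rw [gmul, gmul] at hx
    have := congrArg (g a) hx
    rwa [ginv'] at this
  -- the members of `P` fix the even characters
  let pev : act σ U → ((Z.subgroupOf U) →* ℤˣ) → ((Z.subgroupOf U) →* ℤˣ) :=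
    fun φ χ => B.pull φ.1 φ.2 χ
  let Fix : ((Z.subgroupOf U) →* ℤˣ) → Prop := fun χ => ∀ φ ∈ P, pev φ χ = χ
  have hlin : ∀ χ, χ ≠ 1 → EvenCh U Z χ → Fix χ := by
    intro χ hχ hev
    refine H85.Shult.TwoShape.all_even B hD htr (P := Fix) ?_ ?_ hχ hev
    · intro ψ hψ χ' h' φ hφ
      have h2 := h' _ (hPn φ hφ ⟨ψ, hD hψ⟩)
      have e : ∀ a b : act σ U, pev (a * b) χ' = pev b (pev a χ') := fun a b => B.pull_mul a.2 b.2 χ'
      show pev φ (pev ⟨ψ, hD hψ⟩ χ') = pev ⟨ψ, hD hψ⟩ χ'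
      rw [← e]
      conv_rhs => rw [← h2, ← e]
      rw [inv_mul_cancel_right]
    · -- a 2-group fixes a nontrivial even character
      let V := {χ : (Z.subgroupOf U) →* ℤˣ // EvenCh U Z χ}
      letI : MulAction P V :=
        { smul := fun φ v => ⟨pev φ.1⁻¹ v.1, H85.Shult.TwoShape.pull_even B (φ.1⁻¹).2 v.2⟩
          one_smul := fun v => Subtype.ext (by
            show pev (1 : P).1⁻¹ v.1 = v.1
            rw [show (1 : P).1⁻¹ = (1 : act σ U) by simp]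
            exact B.pull_one _)
          mul_smul := fun a b v => Subtype.ext (by
            show pev (a * b).1⁻¹ v.1 = pev a.1⁻¹ (pev b.1⁻¹ v.1)
            rw [show (a * b).1⁻¹ = b.1⁻¹ * a.1⁻¹ by simp]
            exact B.pull_mul (b.1⁻¹).2 (a.1⁻¹).2 _) }
      haveI : Finite V := Subtype.finite
      have hV : 2 ∣ Nat.card V := by
        let e : V ≃ O :=
          { toFun := fun v => ⟨ε₀ * v.1, H85.Shult.TwoShape.odd_mul_even hε₀ v.2⟩
            invFun := fun x => ⟨ε₀ * x.1, H85.Shult.TwoShape.even_mul_odd B hε₀ x.2⟩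
            left_inv := fun v => Subtype.ext (show ε₀ * (ε₀ * v.1) = v.1 by
              rw [← mul_assoc, ch_sq, one_mul])
            right_inv := fun x => Subtype.ext (show ε₀ * (ε₀ * x.1) = x.1 by
              rw [← mul_assoc, ch_sq, one_mul]) }
        rw [Nat.card_congr e, hn]
        refine dvd_pow_self 2 ?_
        rintro rfl
        have := H85.Shult.TwoShape.card_oddCh B
        rw [show Nat.card O = 2 ^ 0 from hn] at this
        have := B.h4
        simp at *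
        omega
      let one : V := ⟨1, fun z _ => rfl⟩
      have hone : one ∈ MulAction.fixedPoints P V := fun φ => Subtype.ext (MonoidHom.ext fun _ => rfl)
      obtain ⟨v, hv, hvne⟩ := P.2.exists_fixed_point_of_prime_dvd_card_of_fixed_point V hV hone
      refine ⟨v.1, fun e => hvne (Subtype.ext e.symm), v.2, fun φ hφ => ?_⟩
      have := congrArg Subtype.val (hv (⟨φ, hφ⟩ : P)⁻¹)
      change pev ((⟨φ, hφ⟩ : P)⁻¹).1⁻¹ v.1 = v.1 at this
      rwa [show ((⟨φ, hφ⟩ : P)⁻¹).1⁻¹ = φ by simp] at this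
  have hTrl : ∀ φ ∈ P, EvenCh U Z (ε₀ * (g φ o).1) ∧ IsTrl B φ.1 (ε₀ * (g φ o).1) := by
    intro φ hφ
    refine ⟨H85.Shult.TwoShape.even_mul_odd B hε₀ (g φ o).2, φ.2, fun ε hε => ?_⟩
    have hev : pev φ (ε₀ * ε) = ε₀ * ε := by
      by_cases h1 : ε₀ * ε = 1
      · rw [h1]; exact MonoidHom.ext fun _ => rfl
      · exact hlin _ h1 (H85.Shult.TwoShape.even_mul_odd B hε₀ hε) φ hφ
    have e : ε = ε₀ * (ε₀ * ε) := by rw [← mul_assoc, ch_sq, one_mul]
    conv_lhs => rw [e, H85.Shult.TwoShape.pull_mul_ch B]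
    rw [show B.pull φ.1 φ.2 (ε₀ * ε) = ε₀ * ε from hev, show (g φ o).1 = B.pull φ.1 φ.2 ε₀ from rfl]
    rw [mul_comm (B.pull φ.1 φ.2 ε₀) (ε₀ * ε), mul_assoc, ← mul_assoc ε ε₀, mul_comm ε ε₀]
    simp only [mul_assoc]
  refine ⟨fun χ hχ hev => ?_, fun φ hφ => ?_, fun c hc hσc => ?_⟩
  · let gP : P → O := fun φ => g φ.1 o
    have hinj : Function.Injective gP := by
      intro a b e
      by_contra hne
      refine hfpf (a.1 * b.1⁻¹) (hP2 _ (mul_mem a.2 (inv_mem b.2))) (fun h => hne (Subtype.ext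
        (mul_inv_eq_one.mp h))) o ?_
      rw [gmul, show g a.1 o = g b.1 o from e, ginv]
    obtain ⟨φ, hφ⟩ := ((Nat.bijective_iff_injective_and_card gP).mpr ⟨hinj, cP⟩).2
      ⟨ε₀ * χ, H85.Shult.TwoShape.odd_mul_even hε₀ hev⟩
    have h2 : ε₀ * (g φ.1 o).1 = χ := by
      rw [show (g φ.1 o).1 = ε₀ * χ from congrArg Subtype.val hφ, ← mul_assoc, ch_sq, one_mul]
    refine ⟨φ.1.1, fun e => hχ ?_, h2 ▸ (hTrl _ φ.2).2⟩
    rw [← h2, show φ.1 = 1 from Subtype.ext e, gone]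
    exact ch_sq ε₀
  · by_cases hx : ∃ x, g ⟨φ, hφ⟩ x = x
    · obtain ⟨x, hx⟩ := hx
      exact Or.inr ⟨x.1, hφ, x.2, congrArg Subtype.val hx⟩
    · push Not at hx
      exact Or.inl ⟨_, hTrl ⟨φ, hφ⟩ ((hPF _).mpr (Or.inr hx))⟩
  · obtain ⟨φ, hφ⟩ : ∃ y : act σ U, y = ⟨U.normalizerMonoidHom ⟨c, B.cfg.S_le_normU hc⟩,
      mem_act.mpr ⟨c, hσc, B.cfg.S_le_normU hc, fun u => rfl⟩⟩ := ⟨_, rfl⟩
    have hmem : φ ∈ P := by
      obtain ⟨k, hk⟩ := B.cfg.pS ⟨c, hc⟩
      have h2 : φ ^ 2 ^ k = 1 := Subtype.ext (by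
        rw [hφ]
        show (U.normalizerMonoidHom ⟨c, B.cfg.S_le_normU hc⟩) ^ 2 ^ k = 1
        rw [← map_pow, show (⟨c, B.cfg.S_le_normU hc⟩ : normalizer (U : Set G)) ^ 2 ^ k = 1 from
          Subtype.ext (by simpa using congrArg Subtype.val hk), map_one])
      by_cases h1 : φ = 1
      · rw [h1]; exact one_mem _
      · exact (hPF φ).mpr (Or.inr (hfpf φ ⟨k, h2⟩ h1))
    exact ⟨_, hφ ▸ hTrl φ hmem⟩

end Two

end H41.Shult
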