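import Cfsg.Agent.H41.Shult.TwoAxisBuild

/-!
Shult's fixed point theorem, several radicals: the axis, when the induced group fixes no odd
character and all of them are blocks.
-/

set_option autoImplicit false
set_option linter.all false

open Subgroup

namespace H41.Shult

open H85.Shult (Top fixed disp Inv)
open H85.Shult.TwoShape (EvenCh zc ch_sq ch_eq)

variable {G : Type*} [Group G] [Finite G] {σ : MulAut G} {r m p : ℕ} {S U Z H₀ : Subgroup G}

namespace Two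

variable (B : Two σ r m p S U Z H₀)
include B

/-- A translation carries a radical to the next one. -/
theorem trl_rad {τ : MulAut U} {χ ε : (Z.subgroupOf U) →* ℤˣ} (hτ : IsTrl B τ χ)
    (hε : OddCh U Z ε) {u : U} (hu : u ∈ B.fd.rad ε) (hfix : u ∈ B.cfix τ) :
    u ∈ B.fd.rad (ε * χ) := by
  obtain ⟨hφ, h⟩ := hτ
  intro v
  have h1 : B.fd.cm (τ u) (τ v) = B.fd.cm u (τ v) := by
    have e : τ u = τ u * u⁻¹ * u := by group
    conv_lhs => rw [e]
    rw [B.fd.cm_mul_left, B.fd.cm_of_mem ((B.mem_cfix).mp hfix), one_mul]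
  rw [← h ε hε, B.pull_apply,
    show (⟨τ (B.fd.cm u v : U), B.act_Z hφ (B.fd.cm u v).2⟩ : Z.subgroupOf U) =
      B.fd.cm (τ u) (τ v) from (B.cm_act hφ u v).symm, h1]
  exact hu (τ v)

/-- The value of a translation on `Z`. -/
theorem trl_even {τ : MulAut U} {χ : (Z.subgroupOf U) →* ℤˣ} (hτ : IsTrl B τ χ)
    {ε : (Z.subgroupOf U) →* ℤˣ} (hε : OddCh U Z ε) (z : Z.subgroupOf U) :
    ε ⟨τ z, B.act_Z hτ.choose z.2⟩ = ε z * χ z := by
  have := DFunLike.congr_fun (hτ.choose_spec ε hε) z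
  rwa [MonoidHom.mul_apply] at this

theorem trl_central {τ : MulAut U} {χ : (Z.subgroupOf U) →* ℤˣ} (hτ : IsTrl B τ χ)
    (z : Z.subgroupOf U) : ((τ z : U) : G) * ((z : U) : G)⁻¹ ∈ center G := by
  obtain ⟨α, -, a1, -⟩ := B.exists_two
  refine B.central_of_even (z := ⟨τ z, B.act_Z hτ.choose z.2⟩ * z⁻¹) fun η hη1 hη => ?_
  have h1 := B.trl_even hτ a1 z
  have h2 := B.trl_even hτ (H85.Shult.TwoShape.odd_mul_even a1 hη) z
  rw [MonoidHom.mul_apply, MonoidHom.mul_apply, h1] at h2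
  have h3 : η ⟨τ z, B.act_Z hτ.choose z.2⟩ = η z := by
    rw [mul_right_comm (α z) (η z) (χ z)] at h2
    exact mul_left_cancel h2
  rw [map_mul, map_inv, h3, mul_inv_cancel]

/-- An invariant subgroup on which `τ` acts has fixed points outside `Z`. -/
theorem cfix_ne {τ : MulAut U} (hφ : τ ∈ act σ U) (h2 : τ * τ = 1) {F : Subgroup U}
    (hF : ∀ u ∈ F, τ u ∈ F) {u : U} (hu : u ∈ F) (huZ : u ∉ Z.subgroupOf U) :
    ∃ v ∈ F, v ∈ B.cfix τ ∧ v ∉ Z.subgroupOf U := by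
  by_cases h : τ u * u⁻¹ ∈ Z.subgroupOf U
  · exact ⟨u, hu, h, huZ⟩
  have hττ : τ (τ u) = u := by rw [← MulAut.mul_apply, h2]; rfl
  refine ⟨τ u * u, mul_mem (hF u hu) hu, ?_, fun hZ => h ?_⟩
  · show τ (τ u * u) * (τ u * u)⁻¹ ∈ Z.subgroupOf U
    rw [map_mul, hττ, mul_inv_rev, ← mul_assoc]
    exact B.fd.comm u (τ u)
  · rw [show τ u * u⁻¹ = τ u * u * (u * u)⁻¹ by group]
    exact mul_mem hZ (inv_mem (B.fd.sq u))

/-- The axis. -/
theorem exists_axis (hI : ∀ x ∈ S, σ x = x → x * x ∈ center G → ∃ z ∈ Z, z⁻¹ * x ∈ center G)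
    (D : Subgroup (MulAut U)) (hD : D ≤ act σ U) (hodd : Odd (Nat.card D))
    (htr : ∀ a : U, (a : G) ∈ Z → (a : G) ∉ center G → ∀ b : U, (b : G) ∈ Z →
      (b : G) ∉ center G → ∃ φ ∈ D, ((φ a : U) : G)⁻¹ * b ∈ center G)
    {ε₀ : (Z.subgroupOf U) →* ℤˣ} (hε₀ : OddCh U Z ε₀)
    (hfix₀ : ∀ φ, ∀ hφ : φ ∈ D, B.pull φ (hD hφ) ε₀ = ε₀)
    (hblk : ∀ ε, OddCh U Z ε → B.fd.Blk ε)
    (hmove : ∀ ε, OddCh U Z ε → ∃ φ, ∃ hφ : φ ∈ act σ U, B.pull φ hφ ε ≠ ε) :
    ∃ X, Axis B X := by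
  classical
  have hblk' : ∀ ε, OddCh U Z ε → ε ≠ ε₀ → B.fd.Blk ε := fun ε h _ => hblk ε h
  have hN := Or.inr (hblk ε₀ hε₀) (a := 8 ≤ (Z ⊓ center G).relIndex Z)
  have hinf : ∀ ε η, OddCh U Z ε → OddCh U Z η → ε ≠ η →
      B.fd.rad ε ⊓ B.fd.rad η = Z.subgroupOf U := fun ε η h1 h2 hne =>
    H85.Shult.TwoShape.rad_inf B hD htr hblk' hN h1 (hblk ε h1) h2 (hblk η h2) hne
  have hrne : ∀ ε η, OddCh U Z ε → OddCh U Z η → ε ≠ η → B.fd.rad ε ≠ B.fd.rad η :=
    fun ε η h1 h2 hne => H85.Shult.TwoShape.rad_ne B hD htr h1 (hblk ε h1) h2 hne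
  have hrad : ∀ χ : (Z.subgroupOf U) →* ℤˣ, χ ≠ 1 → EvenCh U Z χ →
      B.fd.rad χ = Z.subgroupOf U :=
    fun χ => H85.Shult.TwoShape.rad_even B hD htr hblk' hN χ
  have hidx := H85.Shult.TwoShape.index_Z B hD htr hblk' hN
  obtain ⟨hex, hcls, hS⟩ := B.exists_translations hinf hblk D hD htr hodd hε₀ hfix₀ hmove
  -- two odd characters
  obtain ⟨ε₁, he₁, hne₁⟩ : ∃ ε₁, OddCh U Z ε₁ ∧ ε₀ ≠ ε₁ := by
    obtain ⟨ε, hε, hs⟩ := H85.Shult.TwoShape.exists_odd_avoid B {ε₀}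
      (by rw [Finset.card_singleton]; have := B.h4; omega)
    exact ⟨ε, hε, fun e => hs (by simp [e])⟩
  have b0 := hblk ε₀ hε₀
  have b1 := hblk ε₁ he₁
  have n01 := hrne ε₀ ε₁ hε₀ he₁ hne₁
  have i01 := hinf ε₀ ε₁ hε₀ he₁ hne₁
  have hline := fun {F : Subgroup U} => B.fd.line b0 b1 n01 i01 (F := F)
  -- translations are involutions and commute
  have htrl2 : ∀ {τ τ' : MulAut U} {χ χ' : (Z.subgroupOf U) →* ℤˣ}, IsTrl B τ χ → IsTrl B τ' χ' →
      τ * τ = 1 ∧ τ * τ' = τ' * τ := by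
    intro τ τ' χ χ' ⟨h, ht⟩ ⟨h', ht'⟩
    constructor
    · refine B.eq_one_of_two hinf hblk (mul_mem h h) hε₀ he₁ hne₁ ?_ ?_
      · rw [B.pull_mul h h, ht ε₀ hε₀, H85.Shult.TwoShape.pull_mul_ch B]
        have := ht ε₀ hε₀
        have hc : B.pull τ h χ = χ := by
          have h2 := ht (ε₀ * (ε₀ * ε₁)) (by rw [← mul_assoc, ch_sq, one_mul]; exact he₁)
          exact MonoidHom.ext fun z => by
            obtain ⟨α, hα⟩ : ∃ a, a = χ ⟨τ z, B.act_Z h z.2⟩ := ⟨_, rfl⟩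
            show χ ⟨τ z, B.act_Z h z.2⟩ = χ z
            have hc := B.trl_central ⟨h, ht⟩ z
            have h3 : χ (⟨τ z, B.act_Z h z.2⟩ * z⁻¹) = 1 := by
              have he : EvenCh U Z χ := by
                have h4 : OddCh U Z (ε₀ * χ) := ht ε₀ hε₀ ▸ B.pull_odd h hε₀
                have h5 := H85.Shult.TwoShape.even_mul_odd B hε₀ h4
                rwa [← mul_assoc, ch_sq, one_mul] at h5
              exact he _ hc
            rw [map_mul, map_inv, mul_inv_eq_one] at h3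
            exact h3
        rw [this, hc, mul_assoc, ch_sq, mul_one]
      · rw [B.pull_mul h h, ht ε₁ he₁, H85.Shult.TwoShape.pull_mul_ch B]
        have hc : B.pull τ h χ = χ := by
          exact MonoidHom.ext fun z => by
            show χ ⟨τ z, B.act_Z h z.2⟩ = χ z
            have hc := B.trl_central ⟨h, ht⟩ z
            have h3 : χ (⟨τ z, B.act_Z h z.2⟩ * z⁻¹) = 1 := by
              have he : EvenCh U Z χ := by
                have h4 : OddCh U Z (ε₀ * χ) := ht ε₀ hε₀ ▸ B.pull_odd h hε₀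
                have h5 := H85.Shult.TwoShape.even_mul_odd B hε₀ h4
                rwa [← mul_assoc, ch_sq, one_mul] at h5
              exact he _ hc
            rw [map_mul, map_inv, mul_inv_eq_one] at h3
            exact h3
        rw [ht ε₁ he₁, hc, mul_assoc, ch_sq, mul_one]
    · have hc : ∀ {τ : MulAut U} {χ : (Z.subgroupOf U) →* ℤˣ} (h : τ ∈ act σ U),
          (∀ ε, OddCh U Z ε → B.pull τ h ε = ε * χ) →
          ∀ η, EvenCh U Z η → B.pull τ h η = η := fun {τ χ} h ht η hη => by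
        have h1 := ht _ (H85.Shult.TwoShape.odd_mul_even hε₀ hη)
        rw [H85.Shult.TwoShape.pull_mul_ch B, ht ε₀ hε₀] at h1
        rw [mul_right_comm ε₀ η χ] at h1
        exact mul_left_cancel h1
      have hev : ∀ {τ : MulAut U} {χ : (Z.subgroupOf U) →* ℤˣ} (h : τ ∈ act σ U),
          B.pull τ h ε₀ = ε₀ * χ → EvenCh U Z χ := fun {τ χ} h e => by
        have h4 : OddCh U Z (ε₀ * χ) := e ▸ B.pull_odd h hε₀
        have h5 := H85.Shult.TwoShape.even_mul_odd B hε₀ h4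
        rwa [← mul_assoc, ch_sq, one_mul] at h5
      have hpull : ∀ ε, OddCh U Z ε →
          B.pull (τ * τ') (mul_mem h h') ε = B.pull (τ' * τ) (mul_mem h' h) ε := fun ε hε => by
        rw [B.pull_mul h h', B.pull_mul h' h, ht ε hε, ht' ε hε, H85.Shult.TwoShape.pull_mul_ch B,
          H85.Shult.TwoShape.pull_mul_ch B, ht' ε hε, ht ε hε, hc h' ht' χ (hev h (ht ε₀ hε₀)),
          hc h ht χ' (hev h' (ht' ε₀ hε₀)), mul_right_comm]
      have hk : ∀ ε, OddCh U Z ε → B.pull (τ * τ' * (τ' * τ)⁻¹)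
          (mul_mem (mul_mem h h') (inv_mem (mul_mem h' h))) ε = ε := fun ε hε => by
        rw [B.pull_mul (mul_mem h h') (inv_mem (mul_mem h' h)), hpull ε hε]
        exact H85.Shult.TwoShape.pull_inv B (mul_mem h' h) ε
      exact mul_inv_eq_one.mp (B.eq_one_of_two hinf hblk _ hε₀ he₁ hne₁ (hk ε₀ hε₀) (hk ε₁ he₁))
  -- each nontrivial translation fixes a line
  have hne_top : ∀ {φ : MulAut U}, φ ∈ act σ U → φ ≠ 1 → B.cfix φ ≠ ⊤ := fun hφ h1 e =>
    h1 (B.eq_one_of_trivial_mod hφ fun u => B.mem_cfix.mp (e ▸ mem_top u))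
  obtain ⟨u₀, hu₀⟩ : ∃ u : U, u ∉ Z.subgroupOf U := by
    by_contra hc
    push Not at hc
    rw [(eq_top_iff.mpr fun u _ => hc u : Z.subgroupOf U = ⊤), index_top] at hidx
    have := Nat.one_lt_two_pow (show 4 * m ≠ 0 by have := B.cfg.m_pos; omega)
    omega
  have hneZ : ∀ {τ : MulAut U}, τ ∈ act σ U → τ * τ = 1 → B.cfix τ ≠ Z.subgroupOf U := by
    intro τ h h2 e
    obtain ⟨v, -, hv, hvZ⟩ := B.cfix_ne h h2 (F := ⊤) (fun _ _ => mem_top _) (mem_top u₀) hu₀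
    exact hvZ (e ▸ hv)
  have hsame : ∀ {τ τ' : MulAut U} {χ χ' : (Z.subgroupOf U) →* ℤˣ}, IsTrl B τ χ → IsTrl B τ' χ' →
      τ ≠ 1 → τ' ≠ 1 → B.cfix τ = B.cfix τ' := by
    intro τ τ' χ χ' h h' h1 h1'
    obtain ⟨hf, -⟩ := id h
    obtain ⟨hf', -⟩ := id h'
    have hτ2 := (htrl2 h h).1
    have hτ2' := (htrl2 h' h').1
    have hcom := (htrl2 h h').2
    have hZ1 : ∃ u ∈ B.cfix τ, u ∉ Z.subgroupOf U := by
      by_contra hc
      push Not at hc
      exact hneZ hf hτ2 (le_antisymm hc (B.Z_le_cfix hf))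
    obtain ⟨w, hw, hwZ⟩ := hZ1
    obtain ⟨v, hv, hv', hvZ⟩ := B.cfix_ne hf' hτ2' (F := B.cfix τ) (fun u hu => by
      show τ (τ' u) * (τ' u)⁻¹ ∈ Z.subgroupOf U
      rw [show τ (τ' u) = τ' (τ u) from DFunLike.congr_fun hcom u, ← map_inv, ← map_mul]
      exact B.act_Z hf' (B.mem_cfix.mp hu)) hw hwZ
    set Y := B.cfix τ ⊓ B.cfix τ' with hY
    have hYi : ∀ u ∈ Y, restrict (show SInv σ U from B.cfg.invU) u ∈ Y := fun u hu =>
      ⟨B.cfix_inv hf u hu.1, B.cfix_inv hf' u hu.2⟩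
    obtain ⟨-, hmax⟩ := hline hYi (le_inf (B.Z_le_cfix hf) (B.Z_le_cfix hf'))
      (fun e => hvZ (e ▸ (⟨hv, hv'⟩ : v ∈ Y)))
      (fun e => hne_top hf h1 (eq_top_iff.mpr (e.ge.trans inf_le_left)))
    rcases hmax _ (B.cfix_inv hf) inf_le_left with e | e
    swap
    · exact absurd e (hne_top hf h1)
    rcases hmax _ (B.cfix_inv hf') inf_le_right with e' | e'
    swap
    · exact absurd e' (hne_top hf' h1')
    exact e.trans e'.symm
  obtain ⟨χ₁, hχ₁, hχ₁e⟩ : ∃ χ, χ ≠ 1 ∧ EvenCh U Z χ := ⟨ε₀ * ε₁, fun h => hne₁ (ch_eq h),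
    H85.Shult.TwoShape.even_mul_odd B hε₀ he₁⟩
  obtain ⟨τ₁, hτ₁, hT₁⟩ := hex χ₁ hχ₁ hχ₁e
  obtain ⟨hf₁, -⟩ := id hT₁
  set C := B.cfix τ₁ with hC
  have hCi := B.cfix_inv hf₁
  have hZC := B.Z_le_cfix hf₁
  have hCne : C ≠ Z.subgroupOf U := hneZ hf₁ (htrl2 hT₁ hT₁).1
  obtain ⟨hCidx, hCmax⟩ := hline hCi hZC hCne (hne_top hf₁ hτ₁)
  have htrl1 : ∀ {φ : MulAut U} {χ}, IsTrl B φ χ → C ≤ B.cfix φ := by
    intro φ χ h
    by_cases h1 : φ = 1
    · subst h1
      intro u _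
      show (1 : MulAut U) u * u⁻¹ ∈ Z.subgroupOf U
      simp
    · exact (hsame hT₁ h hτ₁ h1).le
  -- the induced group normalises the axis
  have hact : ∀ φ ∈ act σ U, ∀ u ∈ C, φ u ∈ C := by
    intro φ hφ u hu
    obtain ⟨ψ, hψ⟩ : ∃ ψ, ψ = φ⁻¹ * τ₁ * φ := ⟨_, rfl⟩
    have hψa : ψ ∈ act σ U := hψ ▸ mul_mem (mul_mem (inv_mem hφ) hf₁) hφ
    rcases hcls ψ hψa with ⟨χ, -, h⟩ | ⟨ε, hψa', hε, hfx⟩
    · have h1 : ψ u * u⁻¹ ∈ Z.subgroupOf U := htrl1 h hu
      have h2 := B.act_Z hφ h1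
      show τ₁ (φ u) * (φ u)⁻¹ ∈ Z.subgroupOf U
      have e : φ (ψ u) = τ₁ (φ u) := by
        rw [hψ, MulAut.mul_apply, MulAut.mul_apply]
        exact φ.apply_symm_apply _
      rwa [map_mul, map_inv, e] at h2
    · exfalso
      have hφ' := inv_mem hφ
      obtain ⟨hτa, hτe⟩ := id hT₁
      have e1 : B.pull ψ hψa ε = ε := hfx
      rw [B.pull_congr hψa (mul_mem (mul_mem hφ' hf₁) hφ) hψ, B.pull_mul (mul_mem hφ' hf₁) hφ,
        B.pull_mul hφ' hf₁, hτe _ (B.pull_odd hφ' hε)] at e1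
      have e2 := congrArg (B.pull φ⁻¹ hφ') e1
      rw [H85.Shult.TwoShape.pull_inv B hφ] at e2
      exact hχ₁ (mul_eq_left.mp e2)
  have hCR : ∀ ε, OddCh U Z ε → C ⊓ B.fd.rad ε = Z.subgroupOf U := by
    intro ε hε
    obtain ⟨η, hη, hne⟩ : ∃ η, OddCh U Z η ∧ ε ≠ η :=
      ⟨ε * χ₁, H85.Shult.TwoShape.odd_mul_even hε hχ₁e, fun e => hχ₁ (mul_eq_left.mp e.symm)⟩
    rcases B.fd.eq_or_eq_rad (hblk ε hε) (hblk η hη) (hrne ε η hε hη hne) (hinf ε η hε hη hne)
      (F := C ⊓ B.fd.rad ε) (fun u hu => ⟨hCi u hu.1, B.fd.sigma_rad hu.2⟩)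
      (le_inf hZC (B.fd.le_rad ε)) inf_le_right with h | h
    · exact h
    exfalso
    have hne' : ε ≠ ε * χ₁ := fun e => hχ₁ (mul_eq_left.mp e.symm)
    have hle : B.fd.rad ε ≤ B.fd.rad (ε * χ₁) := fun u hu =>
      B.trl_rad hT₁ hε hu ((inf_eq_right.mp h) hu)
    have hε' := H85.Shult.TwoShape.odd_mul_even hε hχ₁e
    exact hrne ε _ hε hε' hne'
      (eq_of_le_of_card_ge hle (B.fd.blk_card (hblk ε hε) (hblk _ hε')).ge)
  have hactX : ∀ φ ∈ act σ U, ∀ u ∈ C, φ u * u⁻¹ ∈ Z.subgroupOf U := by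
    intro φ hφ u hu
    rcases hcls φ hφ with ⟨χ, -, h⟩ | ⟨ε, hφ', hε, hfx⟩
    · exact htrl1 h hu
    · rw [← hCR ε hε]
      exact ⟨C.mul_mem (hact φ hφ u hu) (C.inv_mem hu), B.stab hφ' (hblk ε hε) hfx u⟩
  -- squares and commutators
  have hcen : ∀ w : Z.subgroupOf U,
      (∀ τ χ, IsTrl B τ χ → τ (w : U) = w) → ((w : U) : G) ∈ center G := by
    intro w hw
    refine B.central_of_even fun χ hχ he => ?_
    obtain ⟨τ, -, hτ⟩ := hex χ hχ he
    have h := B.trl_even hτ hε₀ w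
    rw [show (⟨τ w, B.act_Z hτ.choose w.2⟩ : Z.subgroupOf U) = w from Subtype.ext (hw τ χ hτ)] at h
    exact mul_eq_left.mp h.symm
  have hsq : ∀ q ∈ C, ((q * q : U) : G) ∈ center G := fun q hq =>
    hcen ⟨q * q, B.fd.sq q⟩ fun τ χ h => by
      show τ (q * q) = q * q
      obtain ⟨c, hc⟩ : ∃ c, c = τ q * q⁻¹ := ⟨_, rfl⟩
      have hcZ : c ∈ Z.subgroupOf U := hc ▸ htrl1 h hq
      rw [map_mul, show τ q = c * q by rw [hc]; group,
        show c * q * (c * q) = c * (q * c) * q by group, B.fd.cen c hcZ q,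
        show c * (c * q) * q = c * c * (q * q) by group, B.fd.sqZ c hcZ, one_mul]
  have hcomm : ∀ a ∈ C, ∀ b ∈ C, ((B.fd.cm a b : U) : G) ∈ center G := fun a ha b hb =>
    hcen (B.fd.cm a b) fun τ χ h => by
      obtain ⟨hτa, -⟩ := id h
      have e := congrArg (fun t : Z.subgroupOf U => (t : U)) (B.cm_act hτa a b)
      refine e.symm.trans ?_
      have ea : τ a = τ a * a⁻¹ * a := by group
      have eb : τ b = τ b * b⁻¹ * b := by group
      rw [ea, eb, B.fd.cm_mul_left, B.fd.cm_of_mem (htrl1 h ha), one_mul, B.fd.cm_mul_right,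
        B.fd.cm_comm a, B.fd.cm_of_mem (htrl1 h hb), one_mul]
  -- perpendicularity
  have hsurj : ∀ u : U, u ∉ C → ∀ z : Z.subgroupOf U, ∃ q ∈ C, B.fd.cm q u * z ∈ zc U Z := by
    intro u hu
    let M : Subgroup (Z.subgroupOf U) :=
      { carrier := {z | ∃ q ∈ C, B.fd.cm q u * z ∈ zc U Z}
        one_mem' := ⟨1, one_mem C, by rw [B.fd.cm_of_mem (one_mem _), one_mul]; exact one_mem _⟩
        mul_mem' := fun {a b} ⟨q, hq, ha⟩ ⟨q', hq', hb⟩ => ⟨q * q', mul_mem hq hq', by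
          have hc : ∀ x y : Z.subgroupOf U, x * y = y * x := fun x y =>
            Subtype.ext (B.fd.cen (y : U) y.2 (x : U))
          rw [B.fd.cm_mul_left, mul_assoc, ← mul_assoc (B.fd.cm q' u) a b, hc (B.fd.cm q' u) a,
            mul_assoc a, ← mul_assoc]
          exact mul_mem ha hb⟩
        inv_mem' := fun {a} ⟨q, hq, ha⟩ => ⟨q, hq, by
          rw [show a⁻¹ = a from Subtype.ext (B.fd.inv_eq a.2)]; exact ha⟩ }
    intro z
    by_contra hz
    obtain ⟨χ, hχz, hM⟩ := B.exists_sep M (z := z) hz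
    have hev : EvenCh U Z χ := fun w hw => hM w ⟨1, one_mem C, by
      rw [B.fd.cm_of_mem (one_mem _), one_mul]; exact hw⟩
    have hχ : χ ≠ 1 := fun e => hχz (by rw [e]; rfl)
    let H : Subgroup U :=
      { carrier := {v | ∀ q ∈ C, χ (B.fd.cm q v) = 1}
        one_mem' := fun q hq => by rw [B.fd.cm_comm, B.fd.cm_of_mem (one_mem _), map_one]
        mul_mem' := fun {a b} ha hb q hq => by
          rw [B.fd.cm_mul_right, map_mul, ha q hq, hb q hq, one_mul]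
        inv_mem' := fun {a} ha q hq => by
          have h1 := B.fd.cm_mul_right q a a⁻¹
          rw [mul_inv_cancel, B.fd.cm_comm q 1, B.fd.cm_of_mem (one_mem _)] at h1
          have h2 := congrArg χ h1
          rw [map_one, map_mul, ha q hq, one_mul] at h2
          exact h2.symm }
    have hHi : ∀ v ∈ H, restrict (show SInv σ U from B.cfg.invU) v ∈ H := by
      intro v hv q hq
      have hinj : Function.Injective
          fun x : C => (⟨restrict (show SInv σ U from B.cfg.invU) x.1, hCi x.1 x.2⟩ : C) :=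
        fun a b e => Subtype.ext ((restrict (show SInv σ U from B.cfg.invU)).injective
          (congrArg Subtype.val e))
      obtain ⟨⟨q', hq'⟩, e⟩ := Finite.injective_iff_surjective.mp hinj ⟨q, hq⟩
      rw [← show restrict (show SInv σ U from B.cfg.invU) q' = q from congrArg Subtype.val e,
        B.fd.cm_sigma]
      exact hv q' hq'
    have hCH : C ≤ H := fun v hv q hq => hev _ (hcomm q hq v hv)
    rcases hCmax H hHi hCH with h | h
    · suffices hmem : u ∈ H from hu (h.le hmem)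
      refine fun q hq => hM _ ⟨q, hq, ?_⟩
      rw [show B.fd.cm q u * B.fd.cm q u = 1 from Subtype.ext (B.fd.sqZ _ (B.fd.cm q u).2)]
      exact one_mem _
    · refine hCne (le_antisymm (fun q hq => ?_) hZC)
      rw [← hrad χ hχ hev]
      exact fun v => (h.ge (mem_top v) : v ∈ H) q hq
  -- the bound on `Z`
  obtain ⟨u, huC⟩ : ∃ u : U, u ∉ C := by
    by_contra hc
    push Not at hc
    exact hne_top hf₁ hτ₁ (eq_top_iff.mpr fun u _ => hc u)
  have hrel : (Z.subgroupOf U).relIndex C = 2 ^ (2 * m) := by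
    have h := relIndex_mul_index hZC
    rw [hidx, hCidx, show 4 * m = 2 * m + 2 * m by ring, pow_add] at h
    exact Nat.eq_of_mul_eq_mul_right (by positivity) h
  have hlt : (Z ⊓ center G).relIndex Z < 2 ^ (2 * m) := by
    haveI : (zc U Z).Normal := ⟨fun n hn g => by
      rwa [show g * n * g⁻¹ = n from Subtype.ext (by
        show (g : U) * n * (g : U)⁻¹ = n
        rw [B.fd.cen n n.2 g, mul_inv_cancel_right])]⟩
    let f : C →* (Z.subgroupOf U) ⧸ zc U Z :=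
      { toFun := fun q => QuotientGroup.mk (B.fd.cm q u)
        map_one' := by rw [OneMemClass.coe_one, B.fd.cm_of_mem (one_mem _)]; rfl
        map_mul' := fun a b => by rw [Subgroup.coe_mul, B.fd.cm_mul_left]; rfl }
    have hf : Function.Surjective f := by
      intro w
      obtain ⟨z, rfl⟩ := QuotientGroup.mk_surjective w
      obtain ⟨q, hq, h⟩ := hsurj u huC z
      refine ⟨⟨q, hq⟩, QuotientGroup.eq.mpr ?_⟩
      rwa [show (B.fd.cm q u)⁻¹ = B.fd.cm q u from Subtype.ext (B.fd.inv_eq (B.fd.cm q u).2)]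
    have hker : f.ker.index = (Z ⊓ center G).relIndex Z := by
      rw [index_ker, MonoidHom.range_eq_top.mpr hf, card_top, ← index, B.zc_index]
    obtain ⟨hτa, -⟩ := id hT₁
    obtain ⟨q, hq⟩ : ∃ q, q = τ₁ u * u⁻¹ := ⟨_, rfl⟩
    have hqC : q ∈ C := by
      have h2 : τ₁ (τ₁ u) = u := by rw [← MulAut.mul_apply, (htrl2 hT₁ hT₁).1]; rfl
      show τ₁ q * q⁻¹ ∈ Z.subgroupOf U
      rw [hq, map_mul, map_inv, h2, show u * (τ₁ u)⁻¹ * (τ₁ u * u⁻¹)⁻¹ =
        u * (τ₁ u)⁻¹ * (u * (τ₁ u)⁻¹) by group]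
      exact B.fd.sq _
    have hqu : (⟨q, hqC⟩ : C) ∈ f.ker := by
      refine MonoidHom.mem_ker.mpr ((QuotientGroup.eq_one_iff _).mpr ?_)
      show ((B.fd.cm q u : U) : G) ∈ center G
      have h1 := B.trl_central hT₁ ⟨u * u, B.fd.sq u⟩
      have h2 := hsq q hqC
      have e : τ₁ (u * u) * (u * u)⁻¹ = q * q * ((B.fd.cm q⁻¹ u : Z.subgroupOf U) : U) := by
        show τ₁ (u * u) * (u * u)⁻¹ = q * q * (q⁻¹ * u * q⁻¹⁻¹ * u⁻¹)
        rw [map_mul, show τ₁ u = q * u by rw [hq]; group]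
        group
      have h3 : ((τ₁ (u * u) : U) : G) * ((u * u : U) : G)⁻¹ =
          ((q * q : U) : G) * ((B.fd.cm q⁻¹ u : U) : G) := congrArg (fun t : U => (t : G)) e
      rw [h3] at h1
      have h4 := mul_mem (inv_mem h2) h1
      rw [inv_mul_cancel_left] at h4
      have h5 := B.fd.cm_mul_left q q⁻¹ u
      rw [mul_inv_cancel, B.fd.cm_of_mem (one_mem _)] at h5
      rw [eq_inv_of_mul_eq_one_right h5.symm, show (B.fd.cm q u)⁻¹ = B.fd.cm q u from
        Subtype.ext (B.fd.inv_eq (B.fd.cm q u).2)] at h4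
      exact h4
    have hqZ : q ∉ Z.subgroupOf U := fun h => huC (show τ₁ u * u⁻¹ ∈ Z.subgroupOf U from hq ▸ h)
    have hle : (Z.subgroupOf U).subgroupOf C < f.ker := by
      refine lt_of_le_of_ne (fun z hz => MonoidHom.mem_ker.mpr ?_) fun e => hqZ ?_
      · show QuotientGroup.mk (B.fd.cm z u) = _
        rw [B.fd.cm_of_mem (show (z : U) ∈ Z.subgroupOf U from hz)]; rfl
      · exact (e ▸ hqu : (⟨q, hqC⟩ : C) ∈ (Z.subgroupOf U).subgroupOf C)
    have h := relIndex_mul_index hle.le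
    rw [hker, show ((Z.subgroupOf U).subgroupOf C).index = 2 ^ (2 * m) from hrel] at h
    have h1 : ((Z.subgroupOf U).subgroupOf C).relIndex f.ker ≠ 1 := fun e =>
      not_le_of_gt hle (relIndex_eq_one.mp e)
    have h0 : ((Z.subgroupOf U).subgroupOf C).relIndex f.ker ≠ 0 := fun e => by
      rw [e, zero_mul] at h
      exact absurd h.symm (by positivity)
    have hB := B.h4
    calc (Z ⊓ center G).relIndex Z < 2 * (Z ⊓ center G).relIndex Z := by omega
      _ ≤ ((Z.subgroupOf U).subgroupOf C).relIndex f.ker * (Z ⊓ center G).relIndex Z :=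
          Nat.mul_le_mul_right _ (by omega)
      _ = _ := h
  -- assemble
  refine ⟨C.map U.subtype, ?_⟩
  have hmemX : ∀ {x : G}, x ∈ C.map U.subtype → ∃ hx : x ∈ U, (⟨x, hx⟩ : U) ∈ C := by
    rintro _ ⟨y, hy, rfl⟩
    exact ⟨y.2, hy⟩
  have hmemX' : ∀ {y : U}, (y : G) ∈ C.map U.subtype ↔ y ∈ C := fun {y} =>
    ⟨fun h => (hmemX h).2, fun h => ⟨y, h, rfl⟩⟩
  exact
  { le := fun z hz => ⟨⟨z, B.hZU hz⟩, hZC hz, rfl⟩
    leU := map_subtype_le C
    inv := fun x hx => by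
      obtain ⟨hxU, hxC⟩ := hmemX hx
      exact ⟨_, hCi _ hxC, rfl⟩
    sq := fun x hx => by
      obtain ⟨hxU, hxC⟩ := hmemX hx
      exact hsq _ hxC
    comm := fun a ha b hb => by
      obtain ⟨ha1, ha2⟩ := hmemX ha
      obtain ⟨hb1, hb2⟩ := hmemX hb
      exact hcomm _ ha2 _ hb2
    actX := fun φ hφ u hu => hactX φ hφ u (hmemX'.mp hu)
    free := fun φ hφ h1 u hu => by
      refine hmemX'.mpr ?_
      have hle : C ≤ B.cfix φ := fun v hv => hactX φ hφ v hv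
      rcases hCmax (B.cfix φ) (B.cfix_inv hφ) hle with e | e
      · exact e.le hu
      · exact absurd e (hne_top hφ h1)
    irred := fun Y hY hZY hYX => by
      have hYU : Y ≤ U := hYX.trans (map_subtype_le C)
      have hback : (Y.subgroupOf U).map U.subtype = Y := by
        rw [subgroupOf_map_subtype, inf_eq_left.mpr hYU]
      by_cases he : Y.subgroupOf U = Z.subgroupOf U
      · refine Or.inl (le_antisymm (fun y hy => ?_) hZY)
        exact (he ▸ (show (⟨y, hYU hy⟩ : U) ∈ Y.subgroupOf U from hy) :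
          (⟨y, hYU hy⟩ : U) ∈ Z.subgroupOf U)
      refine Or.inr ?_
      have hle : Y.subgroupOf U ≤ C := fun y hy => hmemX'.mp (hYX hy)
      obtain ⟨-, hmax⟩ := hline (F := Y.subgroupOf U) (fun y hy => hY _ hy) (fun z hz => hZY hz) he
        (fun e => hne_top hf₁ hτ₁ (eq_top_iff.mpr (e.ge.trans hle)))
      rcases hmax C hCi hle with e | e
      · rw [e, hback]
      · exact absurd e (hne_top hf₁ hτ₁)
    idx := by
      rw [← hrel]
      conv_lhs => rw [show Z = (Z.subgroupOf U).map U.subtype by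
        rw [subgroupOf_map_subtype, inf_eq_left.mpr B.hZU]]
      exact relIndex_map_map_of_injective _ _ (subtype_injective U)
    idxU := hidx
    proper := ⟨u, u.2, fun h => huC (hmemX'.mp h)⟩
    surj := fun w hw hwX z hz => by
      obtain ⟨q, hq, h⟩ := hsurj ⟨w, hw⟩ (fun h => hwX (hmemX'.mpr h)) (B.toZ hz)
      exact ⟨q, ⟨q, hq, rfl⟩, h⟩
    lt := hlt
    cenS := fun c hc hσc z hz => by
      obtain ⟨χ, -, h⟩ := hS c hc hσc
      exact B.trl_central h (B.toZ hz)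
    rad := fun χ hχ he => hrad χ hχ he
    hI := hI }

end Two

end H41.Shult
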