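import Cfsg.Agent.H3.Shult.Blocks
import Cfsg.Agent.H10.Shult.RankFacts
import Cfsg.Agent.H41.Shult.BigFusion

/-!
Shult's fixed point theorem, several radicals and `Z ∩ Z(G)` of order two: the setting, the
automorphisms of `U` induced by fixed elements, characters of `Z`, the structure of the maximal
invariant overgroup.
-/

set_option autoImplicit false
set_option linter.all false

open Subgroup

namespace H41.Shult

variable {G : Type*} [Group G]

/-- The centraliser of `x` modulo the centre. -/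
def ncen (x : G) : Subgroup G :=
  (centralizer ({QuotientGroup.mk' (center G) x} : Set (G ⧸ center G))).comap
    (QuotientGroup.mk' (center G))

theorem mem_ncen {x g : G} : g ∈ ncen x ↔ g * x * g⁻¹ * x⁻¹ ∈ center G := by
  rw [ncen, mem_comap, mem_centralizer_singleton_iff, ← commutatorElement_def,
    ← commutatorElement_eq_one_iff_mul_comm, ← map_commutatorElement, QuotientGroup.mk'_apply,
    QuotientGroup.eq_one_iff]

theorem self_mem_ncen (x : G) : x ∈ ncen x := mem_ncen.mpr (by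
  rw [mul_inv_cancel_right, mul_inv_cancel]; exact one_mem _)

theorem center_le_ncen (x : G) : center G ≤ ncen x := fun c hc => mem_ncen.mpr (by
  rw [← mem_center_iff.mp hc x, mul_inv_cancel_right, mul_inv_cancel]; exact one_mem _)

theorem ncen_symm {x g : G} (h : g ∈ ncen x) : x ∈ ncen g := mem_ncen.mpr (by
  have := inv_mem (mem_ncen.mp h)
  rwa [show (g * x * g⁻¹ * x⁻¹)⁻¹ = x * g * x⁻¹ * g⁻¹ by group] at this)

theorem conj_mem_ncen {x g c : G} (h : g ∈ ncen x) : c * g * c⁻¹ ∈ ncen (c * x * c⁻¹) :=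
  mem_ncen.mpr (by
    rw [show c * g * c⁻¹ * (c * x * c⁻¹) * (c * g * c⁻¹)⁻¹ * (c * x * c⁻¹)⁻¹
      = c * (g * x * g⁻¹ * x⁻¹) * c⁻¹ by group]
    exact (inferInstance : (center G).Normal).conj_mem _ (mem_ncen.mp h) c)

/-- The automorphisms of `U` induced by fixed elements. -/
def act (σ : MulAut G) (U : Subgroup G) : Subgroup (MulAut U) :=
  ((H85.Shult.fixed σ).subgroupOf (normalizer (U : Set G))).map U.normalizerMonoidHom

theorem mem_act {σ : MulAut G} {U : Subgroup G} {φ : MulAut U} :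
    φ ∈ act σ U ↔ ∃ n : G, σ n = n ∧ n ∈ normalizer (U : Set G) ∧
      ∀ u : U, (φ u : G) = n * u * n⁻¹ := by
  constructor
  · rintro ⟨⟨n, hn⟩, hfix, rfl⟩
    exact ⟨n, hfix, hn, fun u => rfl⟩
  · rintro ⟨n, hfix, hn, hu⟩
    exact ⟨⟨n, hn⟩, hfix, MulEquiv.ext fun u => Subtype.ext (hu u).symm⟩

/-- Commutators land in the centre. -/
def Iso (X : Subgroup G) : Prop := ∀ a ∈ X, ∀ b ∈ X, a * b * a⁻¹ * b⁻¹ ∈ center G

/-- A character nontrivial on the nontrivial central element. -/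
def OddCh (U Z : Subgroup G) (ε : (Z.subgroupOf U) →* ℤˣ) : Prop :=
  ∀ z : Z.subgroupOf U, ((z : U) : G) ∈ center G → z ≠ 1 → ε z ≠ 1

open H85.Shult (Top fixed disp Inv)

/-- The configuration with several radicals. -/
structure Two (σ : MulAut G) (r m p : ℕ) (S U Z H₀ : Subgroup G) : Prop where
  cfg : H85.Shult.Cfg σ r m p S U Z
  top : Top σ U Z H₀
  h4 : 4 ≤ (Z ⊓ center G).relIndex Z
  central : ∃ z ∈ Z, z ∈ center G ∧ z ≠ 1
  two : ∃ Z₁ R₁ Z₂ R₂ : Subgroup G,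
    H3.Shult.Block m U Z Z₁ R₁ ∧ H3.Shult.Block m U Z Z₂ R₂ ∧ R₁ ≠ R₂

variable [Finite G] {σ : MulAut G} {r m p : ℕ} {S U Z H₀ : Subgroup G}

namespace Two

variable (B : Two σ r m p S U Z H₀)
include B

theorem form : H3.Shult.Form σ r m U Z := H3.Shult.form_of_cfg B.cfg

theorem hUS : U ≤ S := B.cfg.U_le_S
theorem hZU : Z ≤ U := B.cfg.Z_le_U
theorem hZS : Z ≤ S := B.hZU.trans B.hUS
theorem hSM : S ≤ H₀ := B.cfg.S_le_normU.trans B.top.normU_le
theorem hUM : U ≤ H₀ := B.hUS.trans B.hSM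
theorem hZM : Z ≤ H₀ := B.hZU.trans B.hUM

theorem center_le : center G ≤ H₀ := fun z hz => B.top.normU_le (mem_normalizer_iff.mpr fun x => by
  rw [← mem_center_iff.mp hz x, mul_inv_cancel_right])

theorem fd : FormData (Z.subgroupOf U) (restrict (show SInv σ U from B.cfg.invU)) r m where
  hr := B.cfg.hr
  hrm := B.cfg.hrm
  m_pos := B.cfg.m_pos
  hσ := MulEquiv.ext fun u => Subtype.ext (by rw [restrict_pow, B.cfg.hσ]; rfl)
  sqZ := fun z hz => Subtype.ext (B.cfg.sqZ _ hz)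
  cen := fun z hz u => Subtype.ext (B.cfg.cenU _ u.2 _ hz)
  sq := fun u => B.cfg.sqU _ u.2
  comm := fun u v => B.cfg.comU _ u.2 _ v.2
  fix := fun u => Subtype.ext_iff.trans
    ⟨fun h => B.cfg.mem_Z u.2 h, fun h => B.cfg.fixZ h⟩

theorem two_center {a b : G} (ha : a ∈ Z) (ha' : a ∈ center G) (hb : b ∈ Z) (hb' : b ∈ center G)
    (ha1 : a ≠ 1) (hb1 : b ≠ 1) : a = b := by
  exact H10.Shult.Rank.two_center B.cfg ha ha' hb hb' ha1 hb1

theorem disp_U : disp σ U = U := H10.Shult.Rank.disp_U B.cfg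

theorem fixZ {z : G} (hz : z ∈ Z) : σ z = z := B.cfg.fixZ hz

theorem inv_eq {z : G} (hz : z ∈ Z) : z⁻¹ = z := inv_eq_of_mul_eq_one_right (B.cfg.sqZ z hz)

theorem pow_memU {u : G} (hu : u ∈ U) (k : ℕ) : (σ ^ k) u ∈ U := B.form.inv_pow hu k

theorem zS (z : Z.subgroupOf U) : ((z : U) : G) ∈ Z := z.2

/-- The element of `Z.subgroupOf U` given by an element of `Z`. -/
def toZ (B : Two σ r m p S U Z H₀) {z : G} (hz : z ∈ Z) : Z.subgroupOf U :=
  ⟨⟨z, B.cfg.Z_le_U hz⟩, hz⟩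

/-- Every block gives an odd character with the same radical. -/
theorem blk_of_block {Z₁ R₁ : Subgroup G} (K : H3.Shult.Block m U Z Z₁ R₁) :
    ∃ ε, OddCh U Z ε ∧ B.fd.Blk ε ∧ ∀ u : U, u ∈ B.fd.rad ε ↔ (u : G) ∈ R₁ := by
  classical
  let ε : (Z.subgroupOf U) →* ℤˣ :=
    { toFun := fun z => if ((z : U) : G) ∈ Z₁ then 1 else -1
      map_one' := by simp [Z₁.one_mem]
      map_mul' := fun a b => by
        have h := H3.Shult.Block.mul_mem_iff K (B.zS a) (B.zS b)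
        simp only [Subgroup.coe_mul]
        by_cases ha : ((a : U) : G) ∈ Z₁ <;> by_cases hb : ((b : U) : G) ∈ Z₁ <;>
          simp [h, ha, hb] }
  have hε : ∀ z : Z.subgroupOf U, ε z = 1 ↔ ((z : U) : G) ∈ Z₁ := fun z => by
    show (if ((z : U) : G) ∈ Z₁ then (1 : ℤˣ) else -1) = 1 ↔ _
    split <;> simp_all
  have hrad : ∀ u : U, u ∈ B.fd.rad ε ↔ (u : G) ∈ R₁ := fun u => by
    rw [K.rad]
    exact ⟨fun h => ⟨u.2, fun v hv => (hε _).mp (h ⟨v, hv⟩)⟩,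
      fun h v => (hε _).mpr (h.2 v v.2)⟩
  refine ⟨ε, fun z hz hz1 h => hz1 (Subtype.ext (Subtype.ext (K.avoid _ ((hε z).mp h) hz))),
    ⟨?_, fun H hH hle => ?_⟩, hrad⟩
  · rw [show B.fd.rad ε = R₁.subgroupOf U from Subgroup.ext fun u => (hrad u).trans mem_subgroupOf.symm,
      pow_mul']
    exact K.idx
  · have hmem : ∀ u : U, (u : G) ∈ H.map U.subtype ↔ u ∈ H := fun u =>
      ⟨fun ⟨w, hw, he⟩ => Subtype.ext he ▸ hw, fun h => ⟨u, h, rfl⟩⟩
    have hinv : ∀ x ∈ H.map U.subtype, σ x ∈ H.map U.subtype := by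
      rintro _ ⟨w, hw, rfl⟩
      exact ⟨_, hH w hw, rfl⟩
    have hR : R₁ ≤ H.map U.subtype := fun x hx =>
      (hmem ⟨x, K.R_le hx⟩).mpr (hle ((hrad _).mpr hx))
    rcases K.irred B.form hinv hR (map_subtype_le _) with h | h
    · left
      refine le_antisymm (fun u hu => (hrad u).mpr ?_) hle
      rw [← h]; exact (hmem u).mpr hu
    · right
      refine eq_top_iff.mpr fun u _ => (hmem u).mp ?_
      rw [h]; exact u.2

/-- The odd blocks separate `U` over `Z`. -/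
theorem exists_oblk {u : U} (hu : (u : G) ∉ Z) :
    ∃ ε, OddCh U Z ε ∧ B.fd.Blk ε ∧ u ∉ B.fd.rad ε := by
  obtain ⟨Z₁, R₁, K, hout⟩ := H3.Shult.exists_block B.cfg u.2 hu
  obtain ⟨ε, h1, h2, h3⟩ := B.blk_of_block K
  exact ⟨ε, h1, h2, fun h => hout ((h3 u).mp h)⟩

/-- Two odd blocks with distinct radicals. -/
theorem exists_two : ∃ ε η, OddCh U Z ε ∧ B.fd.Blk ε ∧ OddCh U Z η ∧ B.fd.Blk η ∧
    B.fd.rad ε ≠ B.fd.rad η := by
  obtain ⟨Z₁, R₁, Z₂, R₂, K₁, K₂, hne⟩ := B.two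
  obtain ⟨ε, e1, e2, e3⟩ := B.blk_of_block K₁
  obtain ⟨η, f1, f2, f3⟩ := B.blk_of_block K₂
  refine ⟨ε, η, e1, e2, f1, f2, fun h => hne (Subgroup.ext fun x => ⟨fun hx => ?_, fun hx => ?_⟩)⟩
  · exact (f3 ⟨x, K₁.R_le hx⟩).mp (h ▸ (e3 ⟨x, K₁.R_le hx⟩).mpr hx)
  · exact (e3 ⟨x, K₂.R_le hx⟩).mp (h ▸ (f3 ⟨x, K₂.R_le hx⟩).mpr hx)

/-- Two odd characters agree on the centre. -/
theorem odd_eq {ε η : (Z.subgroupOf U) →* ℤˣ} (hε : OddCh U Z ε) (hη : OddCh U Z η)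
    {z : Z.subgroupOf U} (hz : ((z : U) : G) ∈ center G) : ε z = η z := by
  by_cases hz1 : z = 1
  · rw [hz1, map_one, map_one]
  · rw [(Int.units_eq_one_or _).resolve_left (hε z hz hz1),
      (Int.units_eq_one_or _).resolve_left (hη z hz hz1)]

/-- A character trivial on all commutators is trivial. -/
theorem eq_one_of_rad_top {ε : (Z.subgroupOf U) →* ℤˣ} (h : ∀ u : U, u ∈ B.fd.rad ε) : ε = 1 := by
  classical
  let N : Subgroup G :=
    { carrier := {z | ∃ hz : z ∈ Z, ε (B.toZ hz) = 1}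
      one_mem' := ⟨one_mem Z, by rw [show B.toZ (one_mem Z) = 1 from rfl, map_one]⟩
      mul_mem' := fun {a b} ⟨ha, ha'⟩ ⟨hb, hb'⟩ => ⟨mul_mem ha hb, by
        rw [show B.toZ (mul_mem ha hb) = B.toZ ha * B.toZ hb from rfl, map_mul, ha', hb', one_mul]⟩
      inv_mem' := fun {a} ⟨ha, ha'⟩ => ⟨inv_mem ha, by
        rw [show B.toZ (inv_mem ha) = (B.toZ ha)⁻¹ from rfl, map_inv, ha', inv_one]⟩ }
  have hle : Z ≤ N := H10.Shult.Rank.Z_le_of_comm B.cfg (fun z hz => hz.1)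
    fun u hu v hv => ⟨B.cfg.comU u hu v hv, h ⟨u, hu⟩ ⟨v, hv⟩⟩
  exact MonoidHom.ext fun z => (hle z.2).2

/-- The commutator pairing modulo the centre has radical `Z`. -/
theorem mem_Z_of_comm_center {u : G} (hu : u ∈ U)
    (h : ∀ v ∈ U, u * v * u⁻¹ * v⁻¹ ∈ center G) : u ∈ Z := by
  obtain ⟨ε, η, hεo, hεb, hηo, hηb, hne⟩ := B.exists_two
  let F : Subgroup U :=
    { carrier := {x | ∀ v, ((B.fd.cm x v : U) : G) ∈ center G}
      one_mem' := fun v => by rw [B.fd.cm_of_mem (one_mem _)]; exact one_mem _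
      mul_mem' := fun {a b} ha hb v => by rw [B.fd.cm_mul_left]; exact mul_mem (ha v) (hb v)
      inv_mem' := fun {a} ha v => by
        have h1 := B.fd.cm_mul_left a a⁻¹ v
        rw [mul_inv_cancel, B.fd.cm_of_mem (one_mem _)] at h1
        rw [eq_inv_of_mul_eq_one_right h1.symm]
        exact inv_mem (ha v) }
  have hFinv : ∀ x ∈ F, restrict (show SInv σ U from B.cfg.invU) x ∈ F := fun x hx v => by
    rw [← (restrict (show SInv σ U from B.cfg.invU)).apply_symm_apply v, B.fd.cm_sigma]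
    exact hx _
  have hsame : ∀ x ∈ F, ∀ v, η (B.fd.cm x v) = ε (B.fd.cm x v) := fun x hx v =>
    B.odd_eq hηo hεo (hx v)
  by_contra huZ
  -- some member of `F` lies outside the radical of `η`
  have hout : ∃ x ∈ F, x ∉ B.fd.rad η := by
    by_contra hc
    push Not at hc
    obtain ⟨ζ, hζo, hζb, hζu⟩ := B.exists_oblk (u := ⟨u, hu⟩) huZ
    exact hζu fun v => by
      rw [B.odd_eq hζo hηo (h v v.2 : ((B.fd.cm ⟨u, hu⟩ v : U) : G) ∈ center G)]
      exact hc ⟨u, hu⟩ (fun w => h w w.2) v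
  obtain ⟨x, hx, hxη⟩ := hout
  haveI := B.fd.rad_normal η
  have htop : F ⊔ B.fd.rad η = ⊤ := by
    refine (hηb.2 _ (fun y hy => ?_) le_sup_right).resolve_left fun he =>
      hxη (he.le (mem_sup_left hx))
    obtain ⟨a, ha, b, hb, rfl⟩ := mem_sup_of_normal_right.mp hy
    rw [map_mul]
    exact mul_mem (mem_sup_left (hFinv a ha)) (mem_sup_right (B.fd.sigma_rad hb))
  refine hne (eq_of_le_of_card_ge (fun w hw v => ?_) (le_of_eq ?_))
  · obtain ⟨a, ha, b, hb, rfl⟩ := mem_sup_of_normal_right.mp (htop.ge (mem_top v))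
    rw [B.fd.cm_mul_right, map_mul, B.fd.cm_comm w b, hb w, mul_one, B.fd.cm_comm w a,
      hsame a ha w, B.fd.cm_comm a w]
    exact hw a
  · have h1 := (B.fd.rad ε).card_mul_index
    have h2 := (B.fd.rad η).card_mul_index
    rw [hεb.1] at h1
    rw [hηb.1] at h2
    exact Nat.eq_of_mul_eq_mul_right (by positivity) (h2.trans h1.symm)

/-- The moved part of an element of `U` outside `Z` is outside `Z`. -/
theorem mov_notMem {u : G} (hu : u ∈ U) (hZ : u ∉ Z) : u⁻¹ * σ u ∈ U ∧ u⁻¹ * σ u ∉ Z := by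
  refine ⟨mul_mem (inv_mem hu) (B.cfg.invU u hu), fun h => hZ ?_⟩
  refine H10.Shult.Rank.mem_Z_of_mov B.cfg hu ?_
  rw [show σ u * u⁻¹ = u * (u⁻¹ * σ u) * u⁻¹ by group, B.cfg.cenU u hu _ h, mul_inv_cancel_right]
  exact h

/-- Every element of `U` is a moved part modulo `Z`. -/
theorem exists_mov {u : G} (hu : u ∈ U) : ∃ a ∈ U, ∃ z ∈ Z, u = a⁻¹ * σ a * z := by
  classical
  haveI : (Z.subgroupOf U).Normal := ⟨fun z hz g => by
    show (g : G) * z * (g : G)⁻¹ ∈ Z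
    rw [B.cfg.cenU g g.2 (z : G) hz, mul_inv_cancel_right]; exact hz⟩
  let f : U ⧸ Z.subgroupOf U → U ⧸ Z.subgroupOf U := Quotient.lift
    (fun a : U => QuotientGroup.mk (⟨(a : G)⁻¹ * σ a,
      mul_mem (inv_mem a.2) (B.cfg.invU a a.2)⟩ : U)) fun a b hab => by
      have hz : (a : G)⁻¹ * b ∈ Z :=
        show a⁻¹ * b ∈ Z.subgroupOf U from QuotientGroup.leftRel_apply.mp hab
      refine QuotientGroup.eq.mpr ?_
      show ((a : G)⁻¹ * σ a)⁻¹ * ((b : G)⁻¹ * σ b) ∈ Z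
      obtain ⟨z, hz', e⟩ : ∃ z ∈ Z, (b : G) = a * z := ⟨_, hz, by group⟩
      rw [e, map_mul, B.fixZ hz',
        show ((a : G)⁻¹ * σ a)⁻¹ * (((a : G) * z)⁻¹ * (σ a * z))
          = ((a : G)⁻¹ * σ a)⁻¹ * (z⁻¹ * ((a : G)⁻¹ * σ a)) * z by group,
        ← B.cfg.cenU _ (mul_mem (inv_mem a.2) (B.cfg.invU a a.2)) _ (inv_mem hz'),
        inv_mul_cancel_left, inv_mul_cancel]
      exact one_mem Z
  have hinj : Function.Injective f := by
    intro q q' hqq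
    obtain ⟨a, rfl⟩ := QuotientGroup.mk_surjective q
    obtain ⟨b, rfl⟩ := QuotientGroup.mk_surjective q'
    have hz : ((a : G)⁻¹ * σ a)⁻¹ * ((b : G)⁻¹ * σ b) ∈ Z :=
      (QuotientGroup.eq.mp : _ → _ ∈ Z.subgroupOf U) (show (QuotientGroup.mk (⟨_, mul_mem (inv_mem a.2) (B.cfg.invU a a.2)⟩ : U) :
        U ⧸ Z.subgroupOf U) = QuotientGroup.mk (⟨_, mul_mem (inv_mem b.2) (B.cfg.invU b b.2)⟩ : U) from hqq)
    refine QuotientGroup.eq.mpr ?_
    show (a : G)⁻¹ * b ∈ Z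
    by_contra hne
    refine (B.mov_notMem (mul_mem (inv_mem a.2) b.2) hne).2 ?_
    obtain ⟨d, hd⟩ : ∃ d, d = (a : G)⁻¹ * b := ⟨_, rfl⟩
    obtain ⟨w, hw⟩ : ∃ w, w = (a : G)⁻¹ * σ a := ⟨_, rfl⟩
    have hwU : w ∈ U := hw ▸ mul_mem (inv_mem a.2) (B.cfg.invU a a.2)
    have hdU : d ∈ U := hd ▸ mul_mem (inv_mem a.2) b.2
    rw [← hd]
    have e : (b : G)⁻¹ * σ b = d⁻¹ * w * σ d := by rw [hd, hw, map_mul, map_inv]; group
    rw [e, ← hw] at hz
    have e2 : d⁻¹ * σ d = (d⁻¹ * w⁻¹ * d * w) * (w⁻¹ * (d⁻¹ * w * σ d)) := by group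
    rw [e2]
    refine mul_mem ?_ hz
    have := B.cfg.comU _ (inv_mem hdU) _ (inv_mem hwU)
    simpa using this
  obtain ⟨q, hq⟩ := (Finite.injective_iff_surjective.mp hinj) (QuotientGroup.mk (⟨u, hu⟩ : U))
  obtain ⟨a, rfl⟩ := QuotientGroup.mk_surjective q
  have hz : ((a : G)⁻¹ * σ a)⁻¹ * u ∈ Z :=
    (QuotientGroup.eq.mp : _ → _ ∈ Z.subgroupOf U) (show (QuotientGroup.mk (⟨_, mul_mem (inv_mem a.2) (B.cfg.invU a a.2)⟩ : U) :
      U ⧸ Z.subgroupOf U) = QuotientGroup.mk (⟨u, hu⟩ : U) from hq)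
  exact ⟨a, a.2, _, hz, by group⟩

/-- A fixed element commuting with `v ∈ U` modulo `Z` commutes with its moved part. -/
theorem comm_mov {x v : G} (hx : σ x = x) (hv : v ∈ U) (hxv : x * v * x⁻¹ * v⁻¹ ∈ Z) :
    x * (v⁻¹ * σ v) = v⁻¹ * σ v * x := by
  obtain ⟨z, hz⟩ : ∃ z, z = x * v * x⁻¹ * v⁻¹ := ⟨_, rfl⟩
  rw [← hz] at hxv
  have e1 : x * v = z * v * x := by rw [hz]; group
  have e2 : x * σ v = z * σ v * x := by
    have := congrArg σ e1
    rwa [map_mul, map_mul, map_mul, hx, B.fixZ hxv] at this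
  calc x * (v⁻¹ * σ v) = v⁻¹ * z⁻¹ * (z * v * x) * v⁻¹ * σ v := by group
    _ = v⁻¹ * z⁻¹ * (x * v) * v⁻¹ * σ v := by rw [e1]
    _ = v⁻¹ * z⁻¹ * (x * σ v) := by group
    _ = v⁻¹ * σ v * x := by rw [e2]; group

end Two

end H41.Shult
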