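import Cfsg.Agent.H41.Shult.TwoBasic
import Cfsg.Agent.H12.Shult.Basic

/-!
Shult's fixed point theorem, several radicals: the structure of the maximal invariant overgroup and
centralisers modulo the centre.
-/

set_option autoImplicit false
set_option linter.all false

open Subgroup

namespace H41.Shult

open H85.Shult (Top fixed disp Inv)

variable {G : Type*} [Group G] [Finite G] {σ : MulAut G} {r m p : ℕ} {S U Z H₀ : Subgroup G}

/-- The `p`-core of the maximal invariant overgroup. -/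
structure CoreSub (σ : MulAut G) (p : ℕ) (U H₀ K : Subgroup G) : Prop where
  le : K ≤ H₀
  pg : IsPGroup p K
  inv : Inv σ K
  norm : H₀ ≤ normalizer (K : Set G)
  disp_le : disp σ H₀ ≤ K ⊔ U

theorem inv_ncen {σ : MulAut G} {x : G} (hx : σ x = x) : Inv σ (ncen x) := fun g hg => by
  have h := mem_ncen.mp hg
  refine mem_ncen.mpr ?_
  have hc : ((center G).map σ.toMonoidHom) ≤ center G := by
    rintro _ ⟨z, hz, rfl⟩
    refine mem_center_iff.mpr fun y => ?_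
    obtain ⟨y, rfl⟩ := σ.surjective y
    show σ y * σ z = σ z * σ y
    rw [← map_mul, mem_center_iff.mp hz y, map_mul]
  have := hc ⟨_, h, rfl⟩
  simpa [hx] using this

/-- The Sylow 2-subgroup of an invariant normal subgroup of an overgroup of `S`. -/
theorem syl_inf {σ : MulAut G} {r : ℕ} (hr : r.Prime) (hσ : σ ^ r = 1) (hcop : ¬ r ∣ Nat.card G)
    {H N S : Subgroup G} (hS : IsSylTwo H S) (hSi : SInv σ S) (hNi : SInv σ N) (hN : N ≤ H)
    (hn : ∀ h ∈ H, ∀ x ∈ N, h * x * h⁻¹ ∈ N) : IsSylTwo N (S ⊓ N) := by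
  obtain ⟨P, hPi, hle, hP⟩ := exists_inv_syl_ge hr hσ hcop hNi (hSi.inf hNi) inf_le_right
    (hS.2.1.to_le inf_le_left)
  obtain ⟨h, hh, hc⟩ := hS.2.2 P (hP.1.trans hN) hP.2.1
  have hcard : Nat.card P ≤ Nat.card (S ⊓ N : Subgroup G) := Nat.card_le_card_of_injective
    (fun x : P => (⟨h * x * h⁻¹, hc x x.2, hn h hh x (hP.1 x.2)⟩ : (S ⊓ N : Subgroup G)))
    fun a b e => Subtype.ext (by simpa using congrArg Subtype.val e)
  rw [eq_of_le_of_card_ge hle hcard]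
  exact hP

namespace Two

variable (B : Two σ r m p S U Z H₀)
include B

theorem invS : SInv σ S := B.cfg.invS

theorem sylG : IsSylTwo ⊤ S := H10.Shult.Rank.syl B.cfg

theorem sylM : IsSylTwo H₀ S := by
  haveI : Fact (Nat.Prime 2) := ⟨Nat.prime_two⟩
  refine ⟨B.hSM, B.cfg.pS, fun T hT hT2 => ?_⟩
  obtain ⟨P1, hP1⟩ := (B.cfg.pS.of_equiv (subgroupOfEquivOfLe B.hSM).symm).exists_le_sylow
  obtain ⟨P2, hP2⟩ := (hT2.of_equiv (subgroupOfEquivOfLe hT).symm).exists_le_sylow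
  obtain ⟨h, hh⟩ := MulAction.exists_smul_eq H₀ P2 P1
  have hPS : (P1 : Subgroup H₀).map H₀.subtype = S := by
    have hle : S ≤ (P1 : Subgroup H₀).map H₀.subtype := fun s hs => ⟨⟨s, B.hSM hs⟩, hP1 hs, rfl⟩
    refine (eq_of_le_of_card_ge hle ?_).symm
    exact B.sylG.card_le le_top (P1.2.map _)
  refine ⟨h, h.2, fun t ht => ?_⟩
  rw [← hPS]
  refine ⟨h * ⟨t, hT ht⟩ * h⁻¹, ?_, rfl⟩
  rw [← hh]
  exact ⟨⟨t, hT ht⟩, hP2 ht, rfl⟩

/-- Invariant 2-subgroups of `H₀` are conjugate into `S` by fixed elements of `H₀`. -/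
theorem conj_into_S {T : Subgroup G} (hT : Inv σ T) (hTM : T ≤ H₀) (hT2 : IsPGroup 2 T) :
    ∃ c ∈ H₀, σ c = c ∧ ∀ t ∈ T, c * t * c⁻¹ ∈ S := by
  obtain ⟨c, hc, hσc, hle⟩ := H10.Shult.Rank.exists_fixed_conj_le B.cfg.hr B.cfg.hσ B.cfg.hcop
    B.top.inv B.cfg.invS B.sylM hT hTM hT2
  exact ⟨c, hc, hσc, fun t ht => hle ⟨t, ht, rfl⟩⟩

/-- Fixed elements conjugate any invariant 2-subgroup into `S`. -/
theorem conj_into_S_top {T : Subgroup G} (hT : Inv σ T) (hT2 : IsPGroup 2 T) :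
    ∃ c : G, σ c = c ∧ ∀ t ∈ T, c * t * c⁻¹ ∈ S := by
  obtain ⟨c, -, hσc, hle⟩ := H10.Shult.Rank.exists_fixed_conj_le B.cfg.hr B.cfg.hσ B.cfg.hcop
    (fun x _ => mem_top (σ x)) B.cfg.invS B.sylG hT le_top hT2
  exact ⟨c, hσc, fun t ht => hle ⟨t, ht, rfl⟩⟩

theorem exists_core : ∃ K, CoreSub σ p U H₀ K := by
  obtain ⟨K, hKle, hKp, hKi, hn, hpow⟩ := B.cfg.small H₀ B.top.inv B.top.ne_top
  refine ⟨K, hKle, hKp, hKi, hn, ?_⟩
  have hD : disp σ H₀ ≤ H₀ := H85.Shult.disp_le B.top.inv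
  have hDi : Inv σ (disp σ H₀) := H85.Shult.inv_disp B.top.inv
  have hdisp2 := H10.Shult.Rank.disp_disp B.cfg.hr B.cfg.hσ B.cfg.hcop B.top.inv
  have hP := syl_inf B.cfg.hr B.cfg.hσ B.cfg.hcop B.sylM B.invS hDi hD
    fun h hh x hx => (mem_normalizer_iff.mp (H85.Shult.le_normalizer_disp hh) x).mp hx
  have hUK : U ≤ normalizer (K : Set G) := B.hUM.trans hn
  rw [← hdisp2]
  show Subgroup.closure _ ≤ _
  rw [Subgroup.closure_le]
  rintro _ ⟨d, hd, rfl⟩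
  obtain ⟨k, hk, s, hs, rfl⟩ := H10.Shult.Rank.exists_decomp (hD.trans hn) hP hpow hd
  have hs' : σ s * s⁻¹ ∈ U := B.cfg.defU ▸ H85.Shult.subset_disp hs.1
  show σ (k * s) * (k * s)⁻¹ ∈ _
  rw [map_mul, show σ k * σ s * (k * s)⁻¹ = σ k * (σ s * s⁻¹) * k⁻¹ by group]
  exact mul_mem (mul_mem (mem_sup_left (hKi k hk)) (mem_sup_right hs')) (mem_sup_left (inv_mem hk))

theorem U_le_disp : U ≤ disp σ H₀ := by
  conv_lhs => rw [← B.disp_U]
  exact H85.Shult.disp_mono B.hUM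

variable {K : Subgroup G} (hK : CoreSub σ p U H₀ K)
include hK

theorem inv_KU : Inv σ (K ⊔ U) := H12.Shult.inv_sup hK.inv B.cfg.invU

theorem KU_le : K ⊔ U ≤ H₀ := sup_le hK.le B.hUM

theorem KU_norm {h x : G} (hh : h ∈ H₀) (hx : x ∈ K ⊔ U) : h * x * h⁻¹ ∈ K ⊔ U := by
  have hle : (K ⊔ U).map (MulAut.conj h).toMonoidHom ≤ K ⊔ U := by
    rw [Subgroup.map_sup]
    refine sup_le ?_ ?_
    · rintro _ ⟨k, hk, rfl⟩
      exact mem_sup_left ((mem_normalizer_iff.mp (hK.norm hh) k).mp hk)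
    · rintro _ ⟨u, hu, rfl⟩
      exact hK.disp_le ((mem_normalizer_iff.mp (H85.Shult.le_normalizer_disp hh) u).mp
        (B.U_le_disp hu))
  exact hle ⟨x, hx, rfl⟩

theorem exists_mul {x : G} (hx : x ∈ K ⊔ U) : ∃ k ∈ K, ∃ u ∈ U, x = k * u := by
  rw [sup_comm] at hx
  obtain ⟨u, hu, k, hk, rfl⟩ := H12.Shult.exists_mul_of_mem_sup' (B.hUM.trans hK.norm) hx
  exact ⟨u * k * u⁻¹, (mem_normalizer_iff.mp (hK.norm (B.hUM hu)) k).mp hk, u, hu, by group⟩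

theorem KS_one {x : G} (hxK : x ∈ K) (hxS : x ∈ S) : x = 1 :=
  eq_one_of_two_of_p B.cfg.hp B.cfg.hp2 hK.pg B.cfg.pS hxK hxS

theorem KS {x : G} (hx : x ∈ K ⊔ U) (hxS : x ∈ S) : x ∈ U := by
  obtain ⟨k, hk, u, hu, rfl⟩ := B.exists_mul hK hx
  rw [B.KS_one hK hk (by simpa using mul_mem hxS (inv_mem (B.hUS hu))), one_mul]
  exact hu

theorem mov_mem {x : G} (hx : x ∈ H₀) : x⁻¹ * σ x ∈ K ⊔ U := by
  have := B.KU_norm hK (inv_mem hx) (hK.disp_le (H85.Shult.subset_disp (σ := σ) hx))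
  simpa [mul_assoc] using this

/-- The factors of a fixed element of `K U` are fixed. -/
theorem exists_mul_fixed {x : G} (hx : x ∈ K ⊔ U) (hσ : σ x = x) :
    ∃ k ∈ K, σ k = k ∧ ∃ z ∈ Z, x = k * z := by
  obtain ⟨k, hk, u, hu, rfl⟩ := B.exists_mul hK hx
  rw [map_mul] at hσ
  have e : k⁻¹ * σ k = u * (σ u)⁻¹ := by
    rw [eq_mul_inv_iff_mul_eq, mul_assoc, hσ]; group
  have h1 : k⁻¹ * σ k = 1 := B.KS_one hK (mul_mem (inv_mem hk) (hK.inv k hk))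
    (e ▸ B.hUS (mul_mem hu (inv_mem (B.cfg.invU u hu))))
  refine ⟨k, hk, (inv_mul_eq_one.mp h1).symm, u, B.cfg.mem_Z hu ?_, rfl⟩
  rw [h1] at e
  exact (mul_inv_eq_one.mp e.symm).symm

theorem fixed_conj_Z' {n z : G} (hn : n ∈ H₀) (hσn : σ n = n) (hz : z ∈ Z)
    (h : n * z * n⁻¹ ∈ S) : n * z * n⁻¹ ∈ Z :=
  B.cfg.mem_Z (B.KS hK (B.KU_norm hK hn (mem_sup_right (B.hZU hz))) h)
    (by simp only [map_mul, map_inv, hσn, B.fixZ hz])

/-- Elements of `K` normalising `U` centralise it. -/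
theorem K_cent {k u : G} (hk : k ∈ K) (hkN : k ∈ normalizer (U : Set G)) (hu : u ∈ U) :
    k * u = u * k := by
  have h1 : k * u * k⁻¹ * u⁻¹ = 1 := B.KS_one hK
    (by
      rw [show k * u * k⁻¹ * u⁻¹ = k * (u * k⁻¹ * u⁻¹) by group]
      exact mul_mem hk ((mem_normalizer_iff.mp (hK.norm (B.hUM hu)) _).mp (inv_mem hk)))
    (mul_mem (B.hUS ((mem_normalizer_iff.mp hkN u).mp hu)) (inv_mem (B.hUS hu)))
  rwa [mul_inv_eq_one, mul_inv_eq_iff_eq_mul] at h1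

/-- A fixed element of `H₀` differs by the core from a fixed element normalising `U`. -/
theorem exists_normalising {n : G} (hn : n ∈ H₀) (hσn : σ n = n) :
    ∃ n' : G, σ n' = n' ∧ n' ∈ normalizer (U : Set G) ∧ n' * n⁻¹ ∈ K ∧
      ∀ y ∈ U, n * y * n⁻¹ ∈ U → n' * y * n'⁻¹ = n * y * n⁻¹ := by
  have hS := syl_inf B.cfg.hr B.cfg.hσ B.cfg.hcop B.sylM B.invS (B.inv_KU hK) (B.KU_le hK)
    fun h hh x hx => B.KU_norm hK hh hx
  have hU : S ⊓ (K ⊔ U) = U :=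
    le_antisymm (fun x hx => B.KS hK hx.2 hx.1) (le_inf B.hUS le_sup_right)
  rw [hU] at hS
  set P := U.map (MulAut.conj n).toMonoidHom with hP
  have hPinv : SInv σ P := by
    rintro _ ⟨u, hu, rfl⟩
    exact ⟨σ u, B.cfg.invU u hu, by simp [hσn]⟩
  have hPK : P ≤ K ⊔ U := by
    rintro _ ⟨u, hu, rfl⟩
    exact B.KU_norm hK hn (mem_sup_right hu)
  obtain ⟨k, hk, hc⟩ := hS.2.2 P hPK (B.form.pU.map _)
  obtain ⟨c, hcK, hσc, hcU⟩ := exists_fixed_conj B.cfg.hr B.cfg.hσ B.cfg.hcop (B.inv_KU hK) hPinv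
    B.cfg.invU (card_map_of_injective (MulAut.conj n).injective) hk hc
  obtain ⟨ρ, hρ, hσρ, z, hz, rfl⟩ := B.exists_mul_fixed hK hcK hσc
  obtain ⟨ρ', hρ'⟩ : ∃ y, y = z⁻¹ * ρ * z := ⟨_, rfl⟩
  have hρ'K : ρ' ∈ K := by
    have := (mem_normalizer_iff.mp (hK.norm (inv_mem (B.hZM hz))) ρ).mp hρ
    simpa [hρ', mul_assoc] using this
  have hσρ' : σ ρ' = ρ' := by rw [hρ', map_mul, map_mul, map_inv, B.fixZ hz, hσρ]
  have hN : ρ' * n ∈ normalizer (U : Set G) := by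
    refine H10.Shult.Rank.mem_normalizer_of_conj fun u hu => ?_
    have h1 : ρ * z * (n * u * n⁻¹) * (ρ * z)⁻¹ ∈ U := hcU _ ⟨u, hu, rfl⟩
    rw [show ρ' * n * u * (ρ' * n)⁻¹ = z⁻¹ * (ρ * z * (n * u * n⁻¹) * (ρ * z)⁻¹) * z by
      rw [hρ']; group]
    exact mul_mem (mul_mem (inv_mem (B.hZU hz)) h1) (B.hZU hz)
  refine ⟨ρ' * n, by rw [map_mul, hσρ', hσn], hN, by rwa [mul_inv_cancel_right], fun y hy hny => ?_⟩
  have h2 : ρ' * (n * y * n⁻¹) * ρ'⁻¹ * (n * y * n⁻¹)⁻¹ = 1 := B.KS_one hK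
    (by
      rw [show ρ' * (n * y * n⁻¹) * ρ'⁻¹ * (n * y * n⁻¹)⁻¹
        = ρ' * ((n * y * n⁻¹) * ρ'⁻¹ * (n * y * n⁻¹)⁻¹) by group]
      exact mul_mem hρ'K ((mem_normalizer_iff.mp (hK.norm (B.hUM hny)) _).mp (inv_mem hρ'K)))
    (by
      refine mul_mem (B.hUS ?_) (inv_mem (B.hUS hny))
      have := (mem_normalizer_iff.mp hN y).mp hy
      simpa [mul_assoc] using this)
  rw [mul_inv_eq_one] at h2
  rw [← h2]; group

omit hK

/-- A fixed element of `H₀` carrying an element of `Z` into `S` carries it into `Z`. -/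
theorem fixed_conj_Z {n z : G} (hn : n ∈ H₀) (hσn : σ n = n) (hz : z ∈ Z)
    (h : n * z * n⁻¹ ∈ S) : n * z * n⁻¹ ∈ Z := by
  obtain ⟨K, hK⟩ := B.exists_core
  exact B.fixed_conj_Z' hK hn hσn hz h

theorem ncen_ne_top {x : G} (hx : x ∉ center G) : ncen x ≠ ⊤ := fun h => hx
  (H10.Shult.Rank.mem_center_of_comm B.cfg.perfect fun g =>
    mem_ncen.mp (ncen_symm (by rw [h]; exact mem_top g)))

/-- The centraliser modulo the centre of a noncentral element of `Z` lies in `H₀`. -/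
theorem ncen_le {e : G} (he : e ∈ Z) (hne : e ∉ center G) : ncen e ≤ H₀ :=
  B.top.max _ (inv_ncen (B.fixZ he)) (B.ncen_ne_top hne) fun u hu => mem_ncen.mpr (by
    rw [B.cfg.cenU u hu e he, mul_inv_cancel_right, mul_inv_cancel]
    exact one_mem _)

theorem U_not_le_center : ¬ U ≤ center G := fun h => H10.Shult.Rank.not_U_le_center B.cfg h

theorem normalizer_top_le : normalizer (H₀ : Set G) ≤ H₀ := by
  refine B.top.max _ (H12.Shult.inv_normalizer B.top.inv) (fun h => B.U_not_le_center ?_)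
    (B.hUM.trans le_normalizer)
  haveI : H₀.Normal := normalizer_eq_top_iff.mp h
  exact B.hUM.trans (B.cfg.normal_le H₀ inferInstance B.top.inv B.top.ne_top)

/-- A fixed element carrying `U` into `H₀` lies in `H₀`. -/
theorem mem_of_conjU {g : G} (hg : σ g = g) (h : ∀ u ∈ U, g * u * g⁻¹ ∈ H₀) : g ∈ H₀ := by
  set H := H₀.comap (MulAut.conj g).toMonoidHom with hH
  have hHinv : Inv σ H := by
    intro x hx
    show g * σ x * g⁻¹ ∈ H₀
    have := B.top.inv _ hx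
    simp only [MulEquiv.coe_toMonoidHom, MulAut.conj_apply, map_mul, map_inv, hg] at this
    exact this
  have hHne : H ≠ ⊤ := by
    intro e
    refine B.top.ne_top (eq_top_iff.mpr fun x _ => ?_)
    have : g⁻¹ * x * g ∈ H := by rw [e]; trivial
    have h2 : g * (g⁻¹ * x * g) * g⁻¹ ∈ H₀ := this
    simpa [mul_assoc] using h2
  have hle : H ≤ H₀ := B.top.max H hHinv hHne h
  have hi : g⁻¹ ∈ normalizer (H₀ : Set G) := H10.Shult.Rank.mem_normalizer_of_conj fun x hx => hle (by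
    show g * (g⁻¹ * x * g⁻¹⁻¹) * g⁻¹ ∈ H₀
    simpa [mul_assoc] using hx)
  simpa using inv_mem (B.normalizer_top_le hi)

end Two

end H41.Shult
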