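import Cfsg.Agent.H41.Shult.TwoAssembly
import Cfsg.Agent.H41.Shult.TwoAxisMake
import Cfsg.Agent.H10.Shult.TwoInvolution
import Cfsg.Agent.H12.Shult.TwoEmbedded
import Cfsg.Agent.H12.Shult.TwoFinal
import Cfsg.Agent.H12.Shult.AxisFinal
import Cfsg.Agent.H89.Shult.TwoClosure
import Cfsg.Agent.H89.Shult.AxisClosure

/-!
Shult's fixed point theorem, several radicals: contradiction, given that the induced group has odd
order or fixes no odd character while all of them are blocks.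
-/

set_option autoImplicit false
set_option linter.all false

open Subgroup

namespace H41.Shult

open H85.Shult (Top fixed disp Inv)

variable {G : Type*} [Group G] [Finite G] {σ : MulAut G} {r m p : ℕ} {S U Z H₀ : Subgroup G}

namespace Two

variable (B : Two σ r m p S U Z H₀)
include B

/-- The odd case. -/
theorem false_of_odd {h : G} (hh : σ h = h) (hhM : h ∉ H₀)
    (hI : ∀ x ∈ S, σ x = x → x * x ∈ center G → ∃ z ∈ Z, z⁻¹ * x ∈ center G)
    {D : Subgroup (MulAut U)} (hD : D ≤ act σ U)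
    (htr : ∀ a : U, (a : G) ∈ Z → (a : G) ∉ center G → ∀ b : U, (b : G) ∈ Z →
      (b : G) ∉ center G → ∃ φ ∈ D, ((φ a : U) : G)⁻¹ * b ∈ center G)
    {ε₀ : (Z.subgroupOf U) →* ℤˣ} (hε₀ : OddCh U Z ε₀)
    (hblk : ∀ ε, OddCh U Z ε → ε ≠ ε₀ → B.fd.Blk ε)
    (hodd : Odd (Nat.card (act σ U))) : False := by
  have hT : ∀ v : U, (v : G) ∉ Z → (∀ φ ∈ act σ U, φ v * v⁻¹ ∈ Z.subgroupOf U) → False :=
    fun v hv hvf => H83.Shult.Transfer.false_of_fixed_vec B hodd hv hvf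
  have hP := B.planeFacts hh hhM hodd hε₀ hblk
    (fun hN ε η e1 e2 f1 f2 hne => H85.Shult.TwoShape.rad_inf B hD htr hblk hN e1 e2 f1 f2 hne) hT
  have hclosed : ∀ g e : G, e ∈ Z → e ∉ center G → g * e * g⁻¹ ∈ H₀ → g ∈ H₀ :=
    fun g e he hne hg => H89.Shult.mem_of_conj' B hodd hP.idx hP.rad hI
      (fun {v} hv hvf => hT v hv hvf) he hne hg
  obtain ⟨y, hy, hyZ, hy2⟩ := B.exists_singular hP
  exact H12.Shult.false_of_closure B hodd hI hP.nofix hclosed hy hyZ hy2 hh hhM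

/-- Several radicals leave no fixed element outside `H₀`. -/
theorem false_of_flip {h : G} (hh : σ h = h) (hhM : h ∉ H₀)
    (hF : ∀ x ∈ S, σ x = x → x * x ∈ center G → (Z ⊓ center G).relIndex Z = 4 →
      ∀ z ∈ Z, z ∉ ncen x → False)
    (hflip : (∀ x ∈ S, σ x = x → x * x ∈ center G → ∃ z ∈ Z, z⁻¹ * x ∈ center G) →
      ∀ (D : Subgroup (MulAut U)) (hD : D ≤ act σ U),
      (∀ a : U, (a : G) ∈ Z → (a : G) ∉ center G → ∀ b : U, (b : G) ∈ Z → (b : G) ∉ center G →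
        ∃ φ ∈ D, ((φ a : U) : G)⁻¹ * b ∈ center G) → Odd (Nat.card D) →
      ∀ ε₀, OddCh U Z ε₀ → (∀ φ, ∀ hφ : φ ∈ D, B.pull φ (hD hφ) ε₀ = ε₀) →
      (∀ ε, OddCh U Z ε → ε ≠ ε₀ → B.fd.Blk ε) →
      Odd (Nat.card (act σ U)) ∨ ((∀ ε, OddCh U Z ε → B.fd.Blk ε) ∧
        ∀ ε, OddCh U Z ε → ∃ φ, ∃ hφ : φ ∈ act σ U, B.pull φ hφ ε ≠ ε)) : False := by
  have hI : ∀ x ∈ S, σ x = x → x * x ∈ center G → ∃ z ∈ Z, z⁻¹ * x ∈ center G :=
    fun x h1 h2 h3 => H10.Shult.TwoInv.fixed_invol_mem B hh hhM hF h1 h2 h3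
  obtain ⟨D, hD, hoddD, htr⟩ := H12.Shult.exists_transitive_odd B hI
    (fun g e hg he hne h => B.mem_of_conjZ hg he hne h) hh hhM
  obtain ⟨ε₀, hε₀, hfix₀, hblk⟩ := H85.Shult.TwoShape.shape B hD htr hoddD
  rcases hflip hI D hD htr hoddD ε₀ hε₀ hfix₀ hblk with hodd | ⟨hall, hmove⟩
  · exact B.false_of_odd hh hhM hI hD htr hε₀ hblk hodd
  · obtain ⟨X, A⟩ := B.exists_axis hI D hD hoddD htr hε₀ hfix₀ hall hmove
    exact H12.Shult.Axis.false_of_closed A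
      (fun g e he hne hg => H89.Shult.Axis.closed A he hne hg) hh hhM

end Two

end H41.Shult
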