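import Cfsg.Agent.H41.Shult.TwoAxisBuild
import Cfsg.Agent.H12.Shult.TwoFinal
import Mathlib.GroupTheory.Transfer
import Mathlib.GroupTheory.SpecificGroups.Alternating

/-!
Shult's fixed point theorem, several radicals and `|Z : Z ∩ Z(G)| = 4`: a fixed element of `S` that
is an involution modulo the centre commutes with `Z` modulo the centre. The sign of the permutation
of the three blocks is a character of `H₀`; its transfer to the perfect group `G` is evaluated.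
-/

set_option autoImplicit false
set_option linter.all false

open Subgroup

namespace H41.Shult.Two

open H85.Shult (Top fixed disp Inv)
open H85.Shult.TwoShape (EvenCh zc ch_sq ch_eq)

variable {G : Type*} [Group G] [Finite G] {σ : MulAut G} {r m p : ℕ} {S U Z H₀ : Subgroup G}
variable (B : Two σ r m p S U Z H₀)
include B

theorem card_classes : Nat.card (Z.map (QuotientGroup.mk' (center G))) =
    (Z ⊓ center G).relIndex Z := by
  have h := Subgroup.index_ker ((QuotientGroup.mk' (center G)).comp Z.subtype)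
  rw [MonoidHom.range_comp, Subgroup.range_subtype, ← MonoidHom.comap_ker, QuotientGroup.ker_mk'] at h
  rw [← h, inf_relIndex_left]
  rfl

/-- An odd order group of induced automorphisms, transitive on the three classes of `Z`. -/
theorem exists_three {h : G} (hh : σ h = h) (hhM : h ∉ H₀)
    (hN : (Z ⊓ center G).relIndex Z = 4) {φ : MulAut U} (hφ : φ ∈ act σ U) (hφ2 : φ * φ = 1)
    {z : U} (hz : (z : G) ∈ Z) (hδ : ((φ z : U) : G) * (z : G) ∉ center G) :
    ∃ D : Subgroup (MulAut U), D ≤ act σ U ∧ Odd (Nat.card D) ∧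
      ∀ a : U, (a : G) ∈ Z → (a : G) ∉ center G → ∀ b : U, (b : G) ∈ Z → (b : G) ∉ center G →
        ∃ φ ∈ D, ((φ a : U) : G)⁻¹ * b ∈ center G := by
  classical
  haveI : Finite (MulAut U) := Finite.of_injective (fun e => (e : U → U)) DFunLike.coe_injective
  set π := QuotientGroup.mk' (center G) with hπ
  have hπ1 : ∀ {y : G}, π y = 1 ↔ y ∈ center G := QuotientGroup.eq_one_iff _
  let cl : U → G ⧸ center G := fun u => π u
  have hsq : ∀ {u : U}, (u : G) ∈ Z → cl u * cl u = 1 := fun {u} hu => by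
    show π u * π u = 1
    rw [← map_mul, B.cfg.sqZ _ hu, map_one]
  have hZ : ∀ {ψ : MulAut U}, ψ ∈ act σ U → ∀ {u : U}, (u : G) ∈ Z → ((ψ u : U) : G) ∈ Z :=
    fun {ψ} hψ {u} hu => B.act_Z hψ (z := u) hu
  have hcl : ∀ {ψ : MulAut U}, ψ ∈ act σ U → ∀ {u v : U}, cl u = cl v → cl (ψ u) = cl (ψ v) := by
    intro ψ hψ u v he
    obtain ⟨n, -, -, hn⟩ := mem_act.mp hψ
    show π _ = π _
    rw [hn, hn, map_mul, map_mul, map_mul, map_mul, show π (u : G) = π (v : G) from he]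
  have hinj : ∀ {ψ : MulAut U}, ψ ∈ act σ U → ∀ {u v : U}, cl (ψ u) = cl (ψ v) → cl u = cl v := by
    intro ψ hψ u v he
    obtain ⟨n, -, -, hn⟩ := mem_act.mp hψ
    have he' : π ((ψ u : U) : G) = π ((ψ v : U) : G) := he
    rw [hn, hn, map_mul, map_mul, map_mul, map_mul] at he'
    exact mul_left_cancel (mul_right_cancel he')
  obtain ⟨a, ha⟩ : ∃ a : U, a = φ z * z := ⟨_, rfl⟩
  obtain ⟨c, hc⟩ : ∃ c : U, c = φ z := ⟨_, rfl⟩
  have hcZ : (c : G) ∈ Z := hc ▸ hZ hφ hz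
  have haZ : (a : G) ∈ Z := by rw [ha]; exact mul_mem (hZ hφ hz) hz
  have hac : cl a = cl c * cl z := by rw [ha, hc]; exact map_mul π _ _
  have ha1 : cl a ≠ 1 := fun e => hδ (by
    have := hπ1.mp e
    rw [ha] at this
    exact this)
  have hb1 : cl z ≠ 1 := fun e => ha1 (by
    rw [hac, e, mul_one, hc]
    have h1 := hcl hφ (u := z) (v := 1) (by rw [e]; exact (map_one π).symm)
    rw [h1]; show π ((φ 1 : U) : G) = 1
    rw [map_one φ]; exact map_one π)
  have hc1 : cl c ≠ 1 := fun e => hb1 (by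
    rw [hc] at e
    refine hinj hφ (v := 1) (e.trans ?_) |>.trans (map_one π)
    show 1 = π ((φ 1 : U) : G)
    rw [map_one φ]; exact (map_one π).symm)
  have hbc : cl z ≠ cl c := fun e => ha1 (by rw [hac, ← e, hsq hz])
  have hab : cl a ≠ cl z := fun e => hc1 (by rw [hac] at e; exact mul_eq_right.mp e)
  have hac' : cl a ≠ cl c := fun e => hb1 (by rw [hac] at e; exact mul_eq_left.mp e)
  have hclass : ∀ u : U, (u : G) ∈ Z → cl u ≠ 1 → cl u = cl a ∨ cl u = cl z ∨ cl u = cl c := by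
    intro u hu hu1
    by_contra hno
    push Not at hno
    have hm : ∀ v : U, (v : G) ∈ Z → cl v ∈ Z.map π := fun v hv => ⟨v, hv, rfl⟩
    haveI : Fintype (Z.map π) := Fintype.ofFinite _
    have h5 := Finset.card_le_univ
      ({1, ⟨_, hm a haZ⟩, ⟨_, hm z hz⟩, ⟨_, hm c hcZ⟩, ⟨_, hm u hu⟩} : Finset (Z.map π))
    rw [← Nat.card_eq_fintype_card, B.card_classes, hN] at h5
    simp [Finset.card_insert_of_notMem, Subtype.ext_iff, ha1.symm, hb1.symm, hc1.symm, hu1.symm, hab,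
      hac', hbc, hno.1.symm, hno.2.1.symm, hno.2.2.symm] at h5
  have him : ∀ {ψ : MulAut U}, ψ ∈ act σ U → ∀ u : U, (u : G) ∈ Z → cl u ≠ 1 →
      cl (ψ u) = cl a ∨ cl (ψ u) = cl z ∨ cl (ψ u) = cl c := fun {ψ} hψ u hu hu1 =>
    hclass _ (hZ hψ hu) fun e => hu1 (by
      refine (hinj hψ (v := 1) (e.trans ?_)).trans (map_one π)
      show 1 = π ((ψ 1 : U) : G)
      rw [map_one ψ]; exact (map_one π).symm)
  have hφc : cl (φ c) = cl z := by rw [hc, ← MulAut.mul_apply, hφ2]; rfl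
  have hφz : cl (φ z) = cl c := by rw [hc]
  have hφa : cl (φ a) = cl a := by
    rcases him hφ a haZ ha1 with e | e | e
    · exact e
    · exact absurd (hinj hφ (e.trans hφc.symm)) hac'
    · exact absurd (hinj hφ (e.trans hφz.symm)) hab
  -- a three-cycle
  obtain ⟨ψ, hψ, hψ3⟩ : ∃ ψ, ψ ∈ act σ U ∧ ((cl (ψ a) = cl z ∧ cl (ψ z) = cl c ∧ cl (ψ c) = cl a) ∨
      (cl (ψ a) = cl c ∧ cl (ψ c) = cl z ∧ cl (ψ z) = cl a)) := by
    obtain ⟨ψ, hψ, he⟩ := B.exists_act hh hhM (a := (a : G)) haZ (fun e => ha1 (hπ1.mpr e))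
      (b := (z : G)) hz fun e => hb1 (hπ1.mpr e)
    have ea : cl (ψ a) = cl z := QuotientGroup.eq.mpr he
    rcases him hψ z hz hb1 with e | e | e
    · -- a transposition
      have ec : cl (ψ c) = cl c := by
        rcases him hψ c hcZ hc1 with e' | e' | e'
        · exact absurd (hinj hψ (e'.trans e.symm)) hbc.symm
        · exact absurd (hinj hψ (e'.trans ea.symm)) hac'.symm
        · exact e'
      refine ⟨φ * ψ, mul_mem hφ hψ, Or.inr ⟨?_, ?_, ?_⟩⟩
      · rw [MulAut.mul_apply, hcl hφ ea, hφz]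
      · rw [MulAut.mul_apply, hcl hφ ec, hφc]
      · rw [MulAut.mul_apply, hcl hφ e, hφa]
    · exact absurd (hinj hψ (e.trans ea.symm)) hab.symm
    · refine ⟨ψ, hψ, Or.inl ⟨ea, e, ?_⟩⟩
      rcases him hψ c hcZ hc1 with e' | e' | e'
      · exact e'
      · exact absurd (hinj hψ (e'.trans ea.symm)) hac'.symm
      · exact absurd (hinj hψ (e'.trans e.symm)) hbc.symm
  obtain ⟨s, o, ho, hso⟩ := Nat.exists_eq_two_pow_mul_odd (orderOf_pos ψ).ne'
  have hoddD : Odd (Nat.card (zpowers (ψ ^ 2 ^ s))) := by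
    rw [Nat.card_zpowers]
    refine ho.of_dvd_nat (orderOf_dvd_of_pow_eq_one ?_)
    rw [← pow_mul, ← hso, pow_orderOf_eq_one]
  have hper : ∀ u : U, (u : G) ∈ Z → cl u ≠ 1 →
      cl (ψ (ψ (ψ u))) = cl u ∧ ∀ v : U, (v : G) ∈ Z → cl v ≠ 1 →
        cl u = cl v ∨ cl (ψ u) = cl v ∨ cl (ψ (ψ u)) = cl v := by
    intro u hu hu1
    rcases hψ3 with ⟨e1, e2, e3⟩ | ⟨e1, e2, e3⟩ <;>
      rcases hclass u hu hu1 with e | e | e <;>
      (have f1 := hcl hψ e
       have f2 := hcl hψ (hcl hψ e)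
       have g1 := hcl hψ e1
       have g2 := hcl hψ e2
       have g3 := hcl hψ e3
       refine ⟨?_, fun v hv hv1 => ?_⟩
       · have f3 := hcl hψ f2
         simp only [e, f1, f2, f3, e1, e2, e3, g1, g2, g3, hcl hψ g1, hcl hψ g2, hcl hψ g3]
       · rcases hclass v hv hv1 with q | q | q <;>
           simp [e, f1, f2, e1, e2, e3, g1, g2, g3, q])
  have hiter : ∀ k, ∀ u : U, (u : G) ∈ Z → cl u ≠ 1 → cl ((ψ ^ (3 * k)) u) = cl u := by
    intro k
    induction k with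
    | zero => intro u _ _; rfl
    | succ k ih =>
      intro u hu hu1
      rw [show 3 * (k + 1) = 1 + (1 + (1 + 3 * k)) by ring, pow_add, pow_add, pow_add, pow_one,
        MulAut.mul_apply, MulAut.mul_apply, MulAut.mul_apply, hcl hψ (hcl hψ (hcl hψ (ih u hu hu1)))]
      exact (hper u hu hu1).1
  refine ⟨zpowers (ψ ^ 2 ^ s), zpowers_le.mpr (pow_mem hψ _), hoddD, fun u hu hun v hv hvn => ?_⟩
  have hu1 : cl u ≠ 1 := fun e => hun (hπ1.mp e)
  obtain ⟨j, hj⟩ : ∃ j : ℕ, cl ((ψ ^ j) u) = cl v := by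
    rcases (hper u hu hu1).2 v hv fun e => hvn (hπ1.mp e) with e | e | e
    · exact ⟨0, e⟩
    · exact ⟨1, by rw [pow_one]; exact e⟩
    · exact ⟨2, by rw [pow_two, MulAut.mul_apply]; exact e⟩
  refine ⟨(ψ ^ 2 ^ s) ^ (j * 2 ^ s), npow_mem_zpowers _ _, QuotientGroup.eq.mp ?_⟩
  show cl _ = cl v
  obtain ⟨q, hq⟩ : ∃ q, 2 ^ s * (j * 2 ^ s) = j + 3 * q := by
    have h1 : 2 ^ s * (j * 2 ^ s) = j * 4 ^ s := by
      rw [show (4 : ℕ) = 2 * 2 from rfl, mul_pow]; ring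
    have h4 : 4 ^ s % 3 = 1 := by rw [Nat.pow_mod]; norm_num
    refine ⟨j * (4 ^ s / 3), ?_⟩
    rw [h1]
    conv_lhs => rw [← Nat.div_add_mod (4 ^ s) 3, h4]
    ring
  rw [← pow_mul, hq, pow_add, MulAut.mul_apply, hcl (pow_mem hψ j) (hiter q u hu hu1)]
  exact hj

/-- An element fixing every block is trivial. -/
theorem eq_one_of_blocks {φ : MulAut U} (hφ : φ ∈ act σ U)
    (h : ∀ ε, OddCh U Z ε → B.fd.Blk ε → B.pull φ hφ ε = ε) : φ = 1 :=
  B.eq_one_of_trivial_mod hφ fun u => by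
    by_contra hu
    obtain ⟨ε, h1, h2, h3⟩ := B.exists_oblk (u := φ u * u⁻¹) hu
    exact h3 (B.stab hφ h2 (h ε h1 h2) u)

/-- The induced automorphism of an element of `H₀`. -/
theorem exists_push : ∃ Ψ : H₀ →* act σ U, ∀ (g : H₀) (n : G) (hn : n ∈ normalizer (U : Set G)),
    σ n = n → (∃ w ∈ U, (g : G) = n * w) →
    (Ψ g : MulAut U) = U.normalizerMonoidHom ⟨n, hn⟩ := by
  obtain ⟨K, hK⟩ := B.exists_core
  have huniq : ∀ {K' : Subgroup G}, CoreSub σ p U H₀ K' →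
      ∀ (n : G) (hn : n ∈ normalizer (U : Set G)), σ n = n → n ∈ K' ⊔ U →
      U.normalizerMonoidHom ⟨n, hn⟩ = 1 := by
    intro K' hK' n hn hσn hnK
    obtain ⟨k, hk, hσk, z, hz, rfl⟩ := B.exists_mul_fixed hK' hnK hσn
    have hkN : k ∈ normalizer (U : Set G) := by
      have := mul_mem hn (inv_mem (le_normalizer (B.hZU hz)))
      rwa [mul_inv_cancel_right] at this
    refine MulEquiv.ext fun u => Subtype.ext ?_
    show k * z * u * (k * z)⁻¹ = u
    rw [show k * z * (u : G) * (k * z)⁻¹ = k * (z * u) * z⁻¹ * k⁻¹ by group,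
      ← B.cfg.cenU u u.2 z hz, show k * ((u : G) * z) * z⁻¹ * k⁻¹ = k * u * k⁻¹ by group,
      B.K_cent hK' hk hkN u.2, mul_inv_cancel_right]
  have hdec : ∀ g : H₀, ∃ n : G, σ n = n ∧ n ∈ normalizer (U : Set G) ∧ n⁻¹ * g ∈ K ⊔ U := by
    intro g
    obtain ⟨n, hσn, hnN, -, ρ, hρ, u, hu, he⟩ := H12.Shult.exists_normalising_mul B hK g.2
    exact ⟨n, hσn, hnN, by
      rw [he, inv_mul_cancel_left]; exact mul_mem (mem_sup_left hρ) (mem_sup_right hu)⟩
  choose n hσn hnN hn using hdec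
  have hmem : ∀ g : H₀, U.normalizerMonoidHom ⟨n g, hnN g⟩ ∈ act σ U := fun g =>
    mem_act.mpr ⟨n g, hσn g, hnN g, fun u => rfl⟩
  have hval : ∀ (g : H₀) (k : G) (hk : k ∈ normalizer (U : Set G)), σ k = k →
      k⁻¹ * g ∈ K ⊔ U → U.normalizerMonoidHom ⟨n g, hnN g⟩ = U.normalizerMonoidHom ⟨k, hk⟩ := by
    intro g k hk hσk hkw
    refine (mul_inv_eq_one.mp ?_)
    rw [← map_inv, ← map_mul]
    have hgK := mul_mem (hn g) (inv_mem hkw)
    rw [mul_inv_rev, inv_inv, ← mul_assoc, mul_inv_cancel_right] at hgK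
    have hx : n g * k⁻¹ ∈ K ⊔ U := by
      have := B.KU_norm hK (B.top.normU_le (hnN g)) (inv_mem hgK)
      rwa [mul_inv_rev, inv_inv, show n g * (k⁻¹ * n g) * (n g)⁻¹ = n g * k⁻¹ by group] at this
    exact huniq hK _ _ (by simp [hσn g, hσk]) hx
  refine ⟨MonoidHom.mk' (fun g => ⟨_, hmem g⟩) (fun a b => Subtype.ext ?_), fun g k hk hσk ⟨w, hw, he⟩ => ?_⟩
  · show U.normalizerMonoidHom ⟨n (a * b), hnN _⟩ = _ * U.normalizerMonoidHom ⟨n b, hnN b⟩
    rw [hval (a * b) (n a * n b) (mul_mem (hnN a) (hnN b))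
      (by rw [map_mul, hσn a, hσn b]) ?_]
    · exact map_mul U.normalizerMonoidHom (⟨n a, hnN a⟩ : normalizer (U : Set G)) ⟨n b, hnN b⟩
    · have h1 := B.KU_norm hK (inv_mem (B.top.normU_le (hnN b))) (hn a)
      have h2 := mul_mem h1 (hn b)
      convert h2 using 1
      rw [Subgroup.coe_mul]; group
  · show U.normalizerMonoidHom ⟨n g, hnN g⟩ = _
    exact hval g k hk hσk (by rw [he, inv_mul_cancel_left]; exact mem_sup_right hw)

/-- With four classes an involution moving `Z` fixes one block and moves the others. -/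
theorem exists_blocks (hN : (Z ⊓ center G).relIndex Z = 4) {D : Subgroup (MulAut U)}
    (hD : D ≤ act σ U) (hodd : Odd (Nat.card D))
    (htr : ∀ a : U, (a : G) ∈ Z → (a : G) ∉ center G → ∀ b : U, (b : G) ∈ Z →
      (b : G) ∉ center G → ∃ φ ∈ D, ((φ a : U) : G)⁻¹ * b ∈ center G)
    {φ : MulAut U} (hφ : φ ∈ act σ U) (hφ2 : φ * φ = 1) (hφ1 : φ ≠ 1)
    {z : Z.subgroupOf U} (hz : ((φ z : U) : G) * ((z : U) : G) ∉ center G) :
    Nat.card {ε : (Z.subgroupOf U) →* ℤˣ // OddCh U Z ε ∧ B.fd.Blk ε} = 3 ∧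
      ∃ ε η θ, OddCh U Z ε ∧ B.fd.Blk ε ∧ OddCh U Z η ∧ B.fd.Blk η ∧ OddCh U Z θ ∧ B.fd.Blk θ ∧
        B.pull φ hφ ε = η ∧ B.pull φ hφ θ = θ ∧ B.fd.rad ε ≠ B.fd.rad η := by
  classical
  obtain ⟨ε₀, hε₀, -, hblk⟩ := H85.Shult.TwoShape.shape B hD htr hodd
  haveI : Finite ((Z.subgroupOf U) →* ℤˣ) := Finite.of_injective _ DFunLike.coe_injective
  have hinv2 : ∀ χ, B.pull φ hφ (B.pull φ hφ χ) = χ := fun χ => by
    rw [← B.pull_mul hφ hφ, B.pull_congr (mul_mem hφ hφ) (one_mem _) hφ2, B.pull_one]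
  have cE : Nat.card {χ : (Z.subgroupOf U) →* ℤˣ // EvenCh U Z χ} = 4 := by
    rw [← hN, ← H85.Shult.TwoShape.card_oddCh B]
    exact Nat.card_congr
      { toFun := fun v => ⟨ε₀ * v.1, H85.Shult.TwoShape.odd_mul_even hε₀ v.2⟩
        invFun := fun x => ⟨ε₀ * x.1, H85.Shult.TwoShape.even_mul_odd B hε₀ x.2⟩
        left_inv := fun v => Subtype.ext (show ε₀ * (ε₀ * v.1) = v.1 by
          rw [← mul_assoc, ch_sq, one_mul])
        right_inv := fun x => Subtype.ext (show ε₀ * (ε₀ * x.1) = x.1 by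
          rw [← mul_assoc, ch_sq, one_mul]) }
  -- the exceptional character is no block
  have hnb : ¬ B.fd.Blk ε₀ := by
    intro hb
    have hall : ∀ ε, OddCh U Z ε → B.fd.Blk ε := fun ε he => by
      by_cases h : ε = ε₀
      · exact h ▸ hb
      · exact hblk ε he h
    have hinf : ∀ ε η, OddCh U Z ε → OddCh U Z η → ε ≠ η →
        B.fd.rad ε ⊓ B.fd.rad η = Z.subgroupOf U := fun ε η h1 h2 hne =>
      H85.Shult.TwoShape.rad_inf B hD htr hblk (Or.inr hb) h1 (hall ε h1) h2 (hall η h2) hne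
    obtain ⟨χ, hχ1, hχe, hχm⟩ : ∃ χ, χ ≠ 1 ∧ EvenCh U Z χ ∧ B.pull φ hφ χ ≠ χ := by
      by_contra hno
      push Not at hno
      refine hz ?_
      have h := B.central_of_even (z := ⟨φ z, B.act_Z hφ z.2⟩ * z) fun χ h1 h2 => by
        rw [map_mul, ← B.pull_apply hφ, hno χ h1 h2, Int.units_mul_self]
      exact h
    obtain ⟨χ', hχ'⟩ : ∃ c, c = B.pull φ hφ χ := ⟨_, rfl⟩
    have hχ'e : EvenCh U Z χ' := hχ' ▸ H85.Shult.TwoShape.pull_even B hφ hχe
    have hχ'1 : χ' ≠ 1 := fun e => hχ1 (by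
      rw [← hinv2 χ, ← hχ', e]
      exact MonoidHom.ext fun _ => rfl)
    have hne : χ' ≠ χ := hχ' ▸ hχm
    have hp : χ * χ' ≠ 1 := fun e => hne (ch_eq e).symm
    obtain ⟨w, hw⟩ : ∃ w, w = ε₀ * B.pull φ hφ ε₀ := ⟨_, rfl⟩
    have hwe : EvenCh U Z w := hw ▸ H85.Shult.TwoShape.even_mul_odd B hε₀ (B.pull_odd hφ hε₀)
    have hpw : B.pull φ hφ ε₀ = ε₀ * w := by rw [hw, ← mul_assoc, ch_sq, one_mul]
    have hfix : B.pull φ hφ w = w := by
      rw [hw, H85.Shult.TwoShape.pull_mul_ch B, hinv2, mul_comm]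
    have hpp : B.pull φ hφ (χ * χ') = χ * χ' := by
      rw [hχ', H85.Shult.TwoShape.pull_mul_ch B, hinv2, mul_comm]
    have hcases : w = 1 ∨ w = χ * χ' := by
      by_contra hno
      push Not at hno
      have hwχ : w ≠ χ := fun e => hχm (e ▸ hfix)
      have hwχ' : w ≠ χ' := fun e => hne (by
        have h1 : B.pull φ hφ χ' = χ' := e ▸ hfix
        rwa [hχ', hinv2, ← hχ', eq_comm] at h1)
      haveI : Fintype {χ : (Z.subgroupOf U) →* ℤˣ // EvenCh U Z χ} := Fintype.ofFinite _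
      have he1 : EvenCh U Z 1 := fun _ _ => rfl
      have he2 : EvenCh U Z (χ * χ') := fun z hz => by
        rw [MonoidHom.mul_apply, hχe z hz, hχ'e z hz, one_mul]
      have h5 := Finset.card_le_univ ({⟨1, he1⟩, ⟨χ, hχe⟩, ⟨χ', hχ'e⟩, ⟨χ * χ', he2⟩, ⟨w, hwe⟩} :
        Finset {χ : (Z.subgroupOf U) →* ℤˣ // EvenCh U Z χ})
      rw [← Nat.card_eq_fintype_card, cE] at h5
      simp [Finset.card_insert_of_notMem, hχ1.symm, hχ'1.symm, hp.symm, hno.1.symm, hno.2.symm,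
        hwχ.symm, hwχ'.symm, hne.symm, hχ1, hχ'1] at h5
    rcases hcases with h | h
    · rw [h, mul_one] at hpw
      refine hφ1 (B.eq_one_of_two hinf hall hφ hε₀ (H85.Shult.TwoShape.odd_mul_even hε₀ (fun z hz => by
        rw [MonoidHom.mul_apply, hχe z hz, hχ'e z hz, one_mul]) : OddCh U Z (ε₀ * (χ * χ')))
        (fun e => hp (mul_eq_left.mp e.symm)) hpw ?_)
      rw [H85.Shult.TwoShape.pull_mul_ch B, hpw, hpp]
    · rw [h] at hpw
      refine hφ1 (B.eq_one_of_two hinf hall hφ (H85.Shult.TwoShape.odd_mul_even hε₀ hχe)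
        (H85.Shult.TwoShape.odd_mul_even hε₀ hχ'e) (fun e => hne (mul_left_cancel e).symm) ?_ ?_)
      · rw [H85.Shult.TwoShape.pull_mul_ch B, hpw, ← hχ', mul_assoc, mul_assoc, ch_sq, mul_one]
      · rw [H85.Shult.TwoShape.pull_mul_ch B, hpw,
          show B.pull φ hφ χ' = χ by rw [hχ', hinv2], mul_comm χ χ', mul_assoc, mul_assoc, ch_sq,
          mul_one]
  have c3 : Nat.card {ε : (Z.subgroupOf U) →* ℤˣ // OddCh U Z ε ∧ B.fd.Blk ε} = 3 := by
    have h4 := H85.Shult.TwoShape.card_oddCh B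
    rw [hN] at h4
    let f : Option {ε : (Z.subgroupOf U) →* ℤˣ // OddCh U Z ε ∧ B.fd.Blk ε} →
        {ε : (Z.subgroupOf U) →* ℤˣ // OddCh U Z ε} :=
      fun x => x.elim ⟨ε₀, hε₀⟩ fun ε => ⟨ε.1, ε.2.1⟩
    have hb : Function.Bijective f := by
      constructor
      · rintro (_ | a) (_ | b) e
        · rfl
        · have h : ε₀ = b.1 := congrArg Subtype.val e
          exact absurd (h ▸ b.2.2) hnb
        · have h : a.1 = ε₀ := congrArg Subtype.val e
          exact absurd (h ▸ a.2.2) hnb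
        · have h : a.1 = b.1 := congrArg (fun t : {ε : (Z.subgroupOf U) →* ℤˣ // OddCh U Z ε} => t.1) e
          exact congrArg some (Subtype.ext h)
      · intro x
        by_cases hx : x.1 = ε₀
        · exact ⟨none, Subtype.ext hx.symm⟩
        · exact ⟨some ⟨x.1, x.2, hblk _ x.2 hx⟩, rfl⟩
    have h5 := Nat.card_congr (Equiv.ofBijective f hb)
    rw [Finite.card_option, h4] at h5
    omega
  refine ⟨c3, ?_⟩
  let P3 := {ε : (Z.subgroupOf U) →* ℤˣ // OddCh U Z ε ∧ B.fd.Blk ε}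
  haveI : Fintype P3 := Fintype.ofFinite _
  let e3 : Equiv.Perm P3 :=
    Function.Involutive.toPerm (fun x => ⟨B.pull φ hφ x.1, B.pull_odd hφ x.2.1, B.pull_blk hφ x.2.2⟩)
      fun x => Subtype.ext (hinv2 x.1)
  haveI : Fact (Nat.Prime 2) := ⟨Nat.prime_two⟩
  obtain ⟨θ, hθ⟩ := Equiv.Perm.exists_fixed_point_of_prime (p := 2) (n := 1) (σ := e3)
    (by rw [← Nat.card_eq_fintype_card, c3]; norm_num)
    (Equiv.ext fun x => by
      rw [pow_one, pow_two, Equiv.Perm.mul_apply]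
      exact Subtype.ext (hinv2 x.1))
  obtain ⟨ε, hεo, hεb, hεm⟩ : ∃ ε, OddCh U Z ε ∧ B.fd.Blk ε ∧ B.pull φ hφ ε ≠ ε := by
    by_contra hno
    push Not at hno
    exact hφ1 (B.eq_one_of_blocks hφ hno)
  exact ⟨ε, _, θ.1, hεo, hεb, B.pull_odd hφ hεo, B.pull_blk hφ hεb, θ.2.1, θ.2.2, rfl,
    congrArg Subtype.val hθ, H85.Shult.TwoShape.rad_ne B hD htr hεo hεb (B.pull_odd hφ hεo) hεm.symm⟩

/-- The centraliser in `U` of a moving involution has a noncentral square. -/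
theorem exists_sq_noncentral {x : G} (hxN : x ∈ normalizer (U : Set G)) (hx : σ x = x)
    (hx2 : x * x ∈ center G) (hφ : U.normalizerMonoidHom ⟨x, hxN⟩ ∈ act σ U)
    {ε η θ : (Z.subgroupOf U) →* ℤˣ} (hεo : OddCh U Z ε) (hε : B.fd.Blk ε) (hη : B.fd.Blk η)
    (hηo : OddCh U Z η) (hθo : OddCh U Z θ) (hθ : B.fd.Blk θ)
    (he : B.pull _ hφ ε = η) (hf : B.pull _ hφ θ = θ) (hne : B.fd.rad ε ≠ B.fd.rad η) :
    ∃ q ∈ U ⊓ ncen x, q * q ∉ center G := by
  by_contra hno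
  push Not at hno
  set φ := U.normalizerMonoidHom ⟨x, hxN⟩ with hφd
  have hφ2 : ∀ u : U, φ (φ u) = u := fun u => Subtype.ext (by
    show x * (x * u * x⁻¹) * x⁻¹ = u
    rw [show x * (x * (u : G) * x⁻¹) * x⁻¹ = x * x * u * (x * x)⁻¹ by group,
      ← mem_center_iff.mp hx2 u, mul_inv_cancel_right])
  -- centralised commutators are central
  have hiso : ∀ a ∈ U ⊓ ncen x, ∀ b ∈ U ⊓ ncen x, a * b * a⁻¹ * b⁻¹ ∈ center G := by
    intro a ha b hb
    have h := mul_mem (mul_mem (hno (a * b) (mul_mem ha hb)) (inv_mem (hno b hb))) (inv_mem (hno a ha))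
    obtain ⟨w, hw⟩ : ∃ w, w = a * b * a⁻¹ * b⁻¹ := ⟨_, rfl⟩
    have hwU : w ∈ Z := hw ▸ B.cfg.comU a ha.1 b hb.1
    have e : a * b * (a * b) * (b * b)⁻¹ * (a * a)⁻¹ = a * (b * a * b⁻¹ * a⁻¹) * a⁻¹ := by group
    rw [e, show b * a * b⁻¹ * a⁻¹ = w⁻¹ by rw [hw]; group, B.inv_eq hwU, B.cfg.cenU a ha.1 w hwU,
      mul_inv_cancel_right] at h
    exact hw ▸ h
  haveI := B.fd.rad_normal ε
  haveI := B.fd.rad_normal η
  haveI := B.fd.rad_normal θ
  -- images of the radical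
  have hmap : ∀ u ∈ B.fd.rad η, φ u ∈ B.fd.rad ε := fun u hu v => by
    have h := hu (φ v)
    rw [← he, B.pull_apply, ← B.cm_act hφ, hφ2] at h
    exact h
  have htop := H85.Shult.TwoShape.sup_top B hε hη hne
  have hmov : ∀ u : U, ∃ w : G, w ∈ U ⊓ ncen x ∧ ∃ hw : w ∈ U, (⟨w, hw⟩ : U) ∈ B.fd.rad θ ∧
      (⟨w, hw⟩ : U)⁻¹ * ⟨(u : G)⁻¹ * σ u, mul_mem (inv_mem u.2) (B.cfg.invU u u.2)⟩ ∈ B.fd.rad ε := by
    intro u
    obtain ⟨a, ha, b, hb, rfl⟩ := mem_sup_of_normal_right.mp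
      ((sup_comm _ _).trans htop ▸ mem_top u : u ∈ B.fd.rad η ⊔ B.fd.rad ε)
    obtain ⟨w, hw⟩ : ∃ w : U, w = a * φ a := ⟨_, rfl⟩
    have hxw : x * (w : G) * x⁻¹ * (w : G)⁻¹ ∈ Z := by
      have e : φ w = φ a * a := by rw [hw, map_mul, hφ2]
      have h2 : φ w * w⁻¹ ∈ Z.subgroupOf U := by
        rw [e, hw, mul_inv_rev, ← mul_assoc]
        exact B.fd.comm (φ a) a
      exact h2
    have hwθ : w ∈ B.fd.rad θ := by
      rw [hw, show a * φ a = a * (φ a * a⁻¹) * a⁻¹ * (a * a) by group]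
      exact mul_mem ((inferInstance : (B.fd.rad θ).Normal).conj_mem _ (B.stab hφ hθ hf a) a)
        (B.fd.le_rad θ (B.fd.sq a))
    have hm : (w : G)⁻¹ * σ w ∈ U := mul_mem (inv_mem w.2) (B.cfg.invU w w.2)
    refine ⟨(w : G)⁻¹ * σ w, ⟨hm, mem_ncen.mpr ?_⟩, hm, ?_, ?_⟩
    · refine ?_
      have h := B.comm_mov hx w.2 hxw
      exact mem_ncen.mp (ncen_symm (mem_ncen.mpr (by
        rw [h, mul_inv_cancel_right, mul_inv_cancel]; exact one_mem _)))
    · exact mul_mem (inv_mem hwθ) (B.fd.sigma_rad hwθ)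
    · obtain ⟨d, hd⟩ : ∃ d : U, d = w⁻¹ * (a * b) := ⟨_, rfl⟩
      have hdR : d ∈ B.fd.rad ε := by
        rw [hd, hw, mul_inv_rev, mul_assoc, ← mul_assoc a⁻¹, inv_mul_cancel, one_mul]
        exact mul_mem (inv_mem (hmap a ha)) hb
      have hab : a * b = w * d := by rw [hd]; group
      rw [hab]
      obtain ⟨s, hs⟩ : ∃ s, s = restrict (show SInv σ U from B.cfg.invU) := ⟨_, rfl⟩
      have e : (⟨(w : G)⁻¹ * σ w, hm⟩ : U)⁻¹ * ⟨((w * d : U) : G)⁻¹ * σ ((w * d : U) : G),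
          mul_mem (inv_mem (w * d).2) (B.cfg.invU _ (w * d).2)⟩ =
          (w⁻¹ * s w)⁻¹ * d⁻¹ * (w⁻¹ * s w) * s d := by
        subst hs
        refine Subtype.ext ?_
        show ((w : G)⁻¹ * σ w)⁻¹ * ((w * d : G)⁻¹ * σ (w * d : G)) =
          ((w : G)⁻¹ * σ w)⁻¹ * (d : G)⁻¹ * ((w : G)⁻¹ * σ w) * σ (d : G)
        rw [map_mul]; group
      rw [e]
      refine mul_mem ?_ (hs ▸ B.fd.sigma_rad hdR)
      have := (inferInstance : (B.fd.rad ε).Normal).conj_mem _ (inv_mem hdR) (w⁻¹ * s w)⁻¹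
      rwa [inv_inv] at this
  -- the pairing of the block vanishes on moved parts
  have hpair : ∀ u v : U, ε (B.fd.cm
      ⟨(u : G)⁻¹ * σ u, mul_mem (inv_mem u.2) (B.cfg.invU u u.2)⟩
      ⟨(v : G)⁻¹ * σ v, mul_mem (inv_mem v.2) (B.cfg.invU v v.2)⟩) = 1 := by
    intro u v
    obtain ⟨a, ha, haU, haθ, har⟩ := hmov u
    obtain ⟨b, hb, hbU, hbθ, hbr⟩ := hmov v
    obtain ⟨r1, hr1⟩ : ∃ r, r = (⟨a, haU⟩ : U)⁻¹ *
      ⟨(u : G)⁻¹ * σ u, mul_mem (inv_mem u.2) (B.cfg.invU u u.2)⟩ := ⟨_, rfl⟩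
    obtain ⟨r2, hr2⟩ : ∃ r, r = (⟨b, hbU⟩ : U)⁻¹ *
      ⟨(v : G)⁻¹ * σ v, mul_mem (inv_mem v.2) (B.cfg.invU v v.2)⟩ := ⟨_, rfl⟩
    rw [← hr1] at har
    rw [← hr2] at hbr
    rw [show (⟨(u : G)⁻¹ * σ u, mul_mem (inv_mem u.2) (B.cfg.invU u u.2)⟩ : U) = ⟨a, haU⟩ * r1 by
        rw [hr1, mul_inv_cancel_left],
      show (⟨(v : G)⁻¹ * σ v, mul_mem (inv_mem v.2) (B.cfg.invU v v.2)⟩ : U) = ⟨b, hbU⟩ * r2 by
        rw [hr2, mul_inv_cancel_left],
      B.fd.cm_mul_left, map_mul, har _, mul_one, B.fd.cm_mul_right, map_mul,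
      B.fd.cm_comm _ r2, hbr _, mul_one]
    have hc : (((B.fd.cm ⟨a, haU⟩ ⟨b, hbU⟩ : Z.subgroupOf U) : U) : G) ∈ center G :=
      hiso a ha b hb
    rw [B.odd_eq hεo hθo hc]
    exact haθ _
  -- hence everywhere
  refine B.fd.blk_ne_top hε (eq_top_iff.mpr fun u _ v => ?_)
  obtain ⟨a, ha, z, hz, hu⟩ := B.exists_mov u.2
  obtain ⟨b, hb, z', hz', hv⟩ := B.exists_mov v.2
  rw [show u = ⟨a⁻¹ * σ a, mul_mem (inv_mem ha) (B.cfg.invU a ha)⟩ * ⟨z, B.hZU hz⟩ from
      Subtype.ext hu,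
    show v = ⟨b⁻¹ * σ b, mul_mem (inv_mem hb) (B.cfg.invU b hb)⟩ * ⟨z', B.hZU hz'⟩ from
      Subtype.ext hv,
    B.fd.cm_mul_left, B.fd.cm_of_mem (show (⟨z, B.hZU hz⟩ : U) ∈ Z.subgroupOf U from hz), mul_one,
    B.fd.cm_mul_right, B.fd.cm_comm _ ⟨z', B.hZU hz'⟩,
    B.fd.cm_of_mem (show (⟨z', B.hZU hz'⟩ : U) ∈ Z.subgroupOf U from hz'), mul_one]
  exact hpair ⟨a, ha⟩ ⟨b, hb⟩

open MulAction in
/-- A fixed element of `S` that is an involution modulo the centre commutes with `Z` modulo it. -/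
theorem false_of_moving_four {h : G} (hh : σ h = h) (hhM : h ∉ H₀) {x : G} (hxS : x ∈ S)
    (hx : σ x = x) (hx2 : x * x ∈ center G) (hN : (Z ⊓ center G).relIndex Z = 4) {z : G}
    (hz : z ∈ Z) (hzx : z ∉ ncen x) : False := by
  classical
  haveI : Fact (Nat.Prime 2) := ⟨Nat.prime_two⟩
  have hxN : x ∈ normalizer (U : Set G) := B.cfg.S_le_normU hxS
  have hxM : x ∈ H₀ := B.hSM hxS
  obtain ⟨φ, hφd⟩ : ∃ φ, φ = U.normalizerMonoidHom ⟨x, hxN⟩ := ⟨_, rfl⟩
  have hφ : φ ∈ act σ U := hφd ▸ mem_act.mpr ⟨x, hx, hxN, fun u => rfl⟩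
  have hφ2 : φ * φ = 1 := MulEquiv.ext fun u => Subtype.ext (by
    subst hφd
    show x * (x * u * x⁻¹) * x⁻¹ = u
    rw [show x * (x * (u : G) * x⁻¹) * x⁻¹ = x * x * u * (x * x)⁻¹ by group,
      ← mem_center_iff.mp hx2 u, mul_inv_cancel_right])
  have hδ : ((φ ⟨z, B.hZU hz⟩ : U) : G) * z ∉ center G := by
    intro hc
    refine hzx (mem_ncen.mpr ?_)
    subst hφd
    have h1 : (x * z * x⁻¹ * z)⁻¹ ∈ center G := inv_mem hc
    rw [show (x * z * x⁻¹ * z)⁻¹ = z⁻¹ * x * z⁻¹ * x⁻¹ by group] at h1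
    have hzi := B.inv_eq hz
    rw [hzi] at h1 ⊢
    exact h1
  have hφ1 : φ ≠ 1 := fun e => hδ (by
    rw [e]; show z * z ∈ center G
    rw [B.cfg.sqZ z hz]; exact one_mem _)
  obtain ⟨D, hD, hodd, htr⟩ := B.exists_three hh hhM hN hφ hφ2 (z := ⟨z, B.hZU hz⟩) hz hδ
  obtain ⟨c3, ε, η, θ, hεo, hε, hηo, hη, hθo, hθ, he, hf, hne⟩ :=
    B.exists_blocks hN hD hodd htr hφ hφ2 hφ1 (z := B.toZ hz) hδ
  subst hφd
  obtain ⟨q₀, hq₀, hq₀c⟩ := B.exists_sq_noncentral hxN hx hx2 hφ hεo hε hη hηo hθo hθ he hf hne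
  -- the sign
  let P3 := {ε : (Z.subgroupOf U) →* ℤˣ // OddCh U Z ε ∧ B.fd.Blk ε}
  haveI : Finite ((Z.subgroupOf U) →* ℤˣ) := Finite.of_injective _ DFunLike.coe_injective
  haveI : Fintype P3 := Fintype.ofFinite _
  let mv : act σ U → P3 → P3 := fun ψ e =>
    ⟨B.pull ψ.1 ψ.2 e.1, B.pull_odd ψ.2 e.2.1, B.pull_blk ψ.2 e.2.2⟩
  have hmv : ∀ a b e, mv (a * b) e = mv b (mv a e) := fun a b e =>
    Subtype.ext (B.pull_mul a.2 b.2 e.1)
  have hmv1 : ∀ e, mv 1 e = e := fun e => Subtype.ext (B.pull_one e.1)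
  let ρ : act σ U →* Equiv.Perm P3 :=
    { toFun := fun ψ =>
        { toFun := mv ψ⁻¹
          invFun := mv ψ
          left_inv := fun e => by rw [← hmv, inv_mul_cancel, hmv1]
          right_inv := fun e => by rw [← hmv, mul_inv_cancel, hmv1] }
      map_one' := Equiv.ext fun e => by
        show mv 1⁻¹ e = e
        rw [inv_one, hmv1]
      map_mul' := fun a b => Equiv.ext fun e => by
        show mv (a * b)⁻¹ e = mv a⁻¹ (mv b⁻¹ e)
        rw [mul_inv_rev, hmv] }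
  obtain ⟨Ψ, hΨ⟩ := B.exists_push
  let f : H₀ →* ℤˣ := Equiv.Perm.sign.comp (ρ.comp Ψ)
  have hker : ∀ ψ : act σ U, (∃ k, ψ ^ 2 ^ k = 1) → Equiv.Perm.sign (ρ ψ) = 1 → ψ = 1 := by
    rintro ψ ⟨k, hk⟩ hs
    haveI : Nontrivial P3 := by
      rw [← Finite.one_lt_card_iff_nontrivial, show Nat.card P3 = 3 from c3]; norm_num
    have h1 : orderOf (ρ ψ) ∣ Nat.card (alternatingGroup P3) :=
      Subgroup.orderOf_dvd_natCard _ (Equiv.Perm.mem_alternatingGroup.mpr hs)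
    rw [nat_card_alternatingGroup, show Nat.card P3 = 3 from c3] at h1
    have h2 : orderOf (ρ ψ) ∣ 2 ^ k := orderOf_dvd_of_pow_eq_one (by rw [← map_pow, hk, map_one])
    have h3 : ρ ψ = 1 := orderOf_eq_one_iff.mp (Nat.eq_one_of_dvd_coprimes
      (Nat.Coprime.pow_left k (by norm_num)) h2 h1)
    have h4 : ∀ e, mv ψ⁻¹ e = e := fun e => DFunLike.congr_fun h3 e
    refine inv_eq_one.mp (Subtype.ext (B.eq_one_of_blocks (ψ⁻¹).2 fun e h5 h6 => ?_))
    exact congrArg Subtype.val (h4 ⟨e, h5, h6⟩)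
  have htwo : ∀ c, ∀ hc : c ∈ S, ∀ hσc : σ c = c,
      ∃ k, (⟨U.normalizerMonoidHom ⟨c, B.cfg.S_le_normU hc⟩,
        mem_act.mpr ⟨c, hσc, B.cfg.S_le_normU hc, fun u => rfl⟩⟩ : act σ U) ^ 2 ^ k = 1 := by
    intro c hc hσc
    obtain ⟨k, hk⟩ := B.cfg.pS ⟨c, hc⟩
    refine ⟨k, Subtype.ext ?_⟩
    show (U.normalizerMonoidHom ⟨c, B.cfg.S_le_normU hc⟩) ^ 2 ^ k = 1
    rw [← map_pow, show (⟨c, B.cfg.S_le_normU hc⟩ : normalizer (U : Set G)) ^ 2 ^ k = 1 from
      Subtype.ext (by simpa using congrArg Subtype.val hk), map_one]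
  have hfx : f ⟨x, hxM⟩ = -1 := by
    refine (Int.units_eq_one_or _).resolve_left fun hs => hφ1 ?_
    have hΨx : Ψ ⟨x, hxM⟩ = ⟨_, hφ⟩ := Subtype.ext (hΨ ⟨x, hxM⟩ x hxN hx ⟨1, one_mem U, by simp⟩)
    have h2 := hker ⟨_, hφ⟩ (htwo x hxS hx) (hΨx ▸ hs)
    exact congrArg Subtype.val h2
  have hfc : ∀ d, ∀ hd : d ∈ center G, f ⟨d, B.center_le hd⟩ = 1 := by
    intro d hd
    have hdN : d ∈ normalizer (U : Set G) := mem_normalizer_iff.mpr fun y => by
      rw [← mem_center_iff.mp hd y, mul_inv_cancel_right]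
    have h1 : Ψ ⟨d, B.center_le hd⟩ = 1 := Subtype.ext (by
      rw [hΨ _ d hdN (B.cfg.center_fix d hd) ⟨1, one_mem U, by simp⟩]
      exact MulEquiv.ext fun u => Subtype.ext (by
        show d * u * d⁻¹ = u
        rw [← mem_center_iff.mp hd u, mul_inv_cancel_right]))
    show Equiv.Perm.sign (ρ (Ψ _)) = 1
    rw [h1, map_one, map_one]
  have hfs : ∀ s, ∀ hs : s ∈ S, f ⟨s, B.hSM hs⟩ = 1 → σ (s * s) = s * s := by
    intro s hs hf1
    obtain ⟨u, hu, c, hc, hσc, rfl⟩ := H10.Shult.Rank.exists_US B.cfg hs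
    have hcN := B.cfg.S_le_normU hc
    have hw : c⁻¹ * u * c ∈ U := by
      have := (mem_normalizer_iff.mp (inv_mem hcN) u).mp hu
      rwa [inv_inv] at this
    have h1 : Ψ ⟨u * c, B.hSM hs⟩ = ⟨U.normalizerMonoidHom ⟨c, hcN⟩,
        mem_act.mpr ⟨c, hσc, hcN, fun u => rfl⟩⟩ :=
      Subtype.ext (hΨ _ c hcN hσc ⟨c⁻¹ * u * c, hw, by show u * c = _; group⟩)
    have h2 := hker _ (htwo c hc hσc) (h1 ▸ hf1)
    have h3 : c * u * c⁻¹ = u :=
      congrArg (fun t : act σ U => ((t.1 ⟨u, hu⟩ : U) : G)) h2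
    have e : u * c * (u * c) = u * u * (c * c) := by
      rw [show u * c * (u * c) = u * (c * u * c⁻¹) * (c * c) by group, h3]
    rw [e, map_mul, B.fixZ (B.cfg.sqU u hu), map_mul σ c c, hσc]
  -- values at fixed cosets
  let val : G → ℤˣ := fun g =>
    if hg : g⁻¹ * x * g ∈ H₀ then f ⟨_, hg⟩ else 1
  have hval : ∀ g k : G, k ∈ H₀ → g⁻¹ * x * g ∈ H₀ → val (g * k) = val g := by
    intro g k hk hg
    have e : (g * k)⁻¹ * x * (g * k) = k⁻¹ * (g⁻¹ * x * g) * k := by group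
    have hg' : (g * k)⁻¹ * x * (g * k) ∈ H₀ := by
      rw [e]; exact mul_mem (mul_mem (inv_mem hk) hg) hk
    simp only [val, dif_pos hg, dif_pos hg']
    rw [show (⟨_, hg'⟩ : H₀) = ⟨k, hk⟩⁻¹ * ⟨_, hg⟩ * ⟨k, hk⟩ from Subtype.ext e, map_mul, map_mul,
      map_inv, mul_comm (f ⟨k, hk⟩)⁻¹, inv_mul_cancel_right]
  have hfix_iff : ∀ g : G, x • (g : G ⧸ H₀) = g ↔ g⁻¹ * x * g ∈ H₀ := fun g => by
    rw [Quotient.smul_coe, smul_eq_mul, eq_comm, QuotientGroup.eq, ← mul_assoc]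
  set o : G ⧸ H₀ := ((1 : G) : G ⧸ H₀) with ho
  have ho_iff : ∀ g : G, (g : G ⧸ H₀) = o ↔ g ∈ H₀ := fun g => by
    rw [ho, QuotientGroup.eq, mul_one, inv_mem_iff]
  let E : Subgroup G := U ⊓ ncen x
  have hE2 : IsPGroup 2 E := B.form.pU.to_le inf_le_left
  let Minus := {a : G ⧸ H₀ // x • a = a ∧ val a.out = -1}
  have hmove : ∀ e : E, ∀ a : G ⧸ H₀, x • a = a → val a.out = -1 →
      x • ((e : G) • a) = (e : G) • a ∧ val ((e : G) • a).out = -1 := by
    intro e a ha hv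
    obtain ⟨g, hg⟩ : ∃ g, g = a.out := ⟨_, rfl⟩
    have hga : (g : G ⧸ H₀) = a := by rw [hg]; exact QuotientGroup.out_eq' a
    have hgH : g⁻¹ * x * g ∈ H₀ := (hfix_iff g).mp (by rw [hga]; exact ha)
    obtain ⟨d, hd⟩ : ∃ d, d = x * (e : G) * x⁻¹ * (e : G)⁻¹ := ⟨_, rfl⟩
    have hdc : d ∈ center G := hd ▸ mem_ncen.mp (ncen_symm e.2.2)
    have hexg : ((e : G) * g)⁻¹ * x * ((e : G) * g) = g⁻¹ * x * g * d := by
      calc ((e : G) * g)⁻¹ * x * ((e : G) * g) = g⁻¹ * ((e : G)⁻¹ * d * e) * x * g := by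
            rw [hd]; group
        _ = g⁻¹ * x * g * d := by
            rw [show (e : G)⁻¹ * d * e = d by
              rw [mul_assoc, ← mem_center_iff.mp hdc (e : G), inv_mul_cancel_left],
              mul_assoc g⁻¹ d x, ← mem_center_iff.mp hdc x,
              show g⁻¹ * (x * d) * g = g⁻¹ * x * (d * g) by group, ← mem_center_iff.mp hdc g]
            group
    have hmem : ((e : G) * g)⁻¹ * x * ((e : G) * g) ∈ H₀ := by
      rw [hexg]; exact mul_mem hgH (B.center_le hdc)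
    have hea : (((e : G) * g : G) : G ⧸ H₀) = (e : G) • a := by
      rw [← hga, Quotient.smul_coe, smul_eq_mul]
    refine ⟨by rw [← hea]; exact (hfix_iff _).mpr hmem, ?_⟩
    obtain ⟨k, hk, hke⟩ : ∃ k ∈ H₀, ((e : G) • a).out = (e : G) * g * k := by
      refine ⟨((e : G) * g)⁻¹ * ((e : G) • a).out, QuotientGroup.eq.mp ?_, by group⟩
      rw [QuotientGroup.out_eq', hea]
    rw [hke, hval _ k hk hmem]
    rw [← hg] at hv
    simp only [val, dif_pos hgH, dif_pos hmem] at hv ⊢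
    rw [show (⟨_, hmem⟩ : H₀) = ⟨_, hgH⟩ * ⟨d, B.center_le hdc⟩ from Subtype.ext hexg, map_mul,
      hfc d hdc, mul_one]
    exact hv
  letI : MulAction E Minus :=
    { smul := fun e a => ⟨(e : G) • a.1, hmove e a.1 a.2.1 a.2.2⟩
      one_smul := fun a => Subtype.ext (one_smul G a.1)
      mul_smul := fun e e' a => Subtype.ext (mul_smul (e : G) (e' : G) a.1) }
  -- the only common fixed point is the identity coset
  have honly : ∀ g : G, (∀ q ∈ E, g⁻¹ * q * g ∈ H₀) → g ∈ H₀ := by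
    intro g hg
    by_contra hgM
    let l : E →* ℤˣ :=
      { toFun := fun q => f ⟨g⁻¹ * q * g, hg q q.2⟩
        map_one' := by
          rw [← map_one f]; congr 1; apply Subtype.ext; show g⁻¹ * 1 * g = 1; group
        map_mul' := fun a b => by
          rw [← map_mul f]; congr 1; apply Subtype.ext
          show g⁻¹ * ((a : G) * b) * g = g⁻¹ * a * g * (g⁻¹ * b * g); group }
    have hneg : ∀ q : E, (q : G) * q ∉ center G → l q = -1 := by
      intro q hqc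
      refine (Int.units_eq_one_or _).resolve_left fun h1 => hgM ?_
      have hP : IsPGroup 2 (zpowers (g⁻¹ * (q : G) * g)) := by
        have h2 : IsPGroup 2 (zpowers (q : G)) := B.form.pU.to_le (zpowers_le.mpr q.2.1)
        have h3 := h2.map (MulAut.conj g⁻¹).toMonoidHom
        rwa [MonoidHom.map_zpowers, MulEquiv.coe_toMonoidHom, MulAut.conj_apply, inv_inv] at h3
      obtain ⟨k, hk, hks⟩ := B.sylM.2.2 _ (zpowers_le.mpr (hg q q.2)) hP
      have hs := hks _ (mem_zpowers _)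
      have hfs1 : f ⟨_, B.hSM hs⟩ = 1 := by
        rw [show (⟨_, B.hSM hs⟩ : H₀) = ⟨k, hk⟩ * ⟨_, hg q q.2⟩ * ⟨k, hk⟩⁻¹ from Subtype.ext rfl,
          map_mul, map_mul, map_inv, show f ⟨_, hg q q.2⟩ = 1 from h1, mul_one, mul_inv_cancel]
      have e : (k * g⁻¹) * ((q : G) * q) * (k * g⁻¹)⁻¹ =
          (k * (g⁻¹ * q * g) * k⁻¹) * (k * (g⁻¹ * q * g) * k⁻¹) := by group
      have hkg : k * g⁻¹ ∈ H₀ := B.mem_of_fixed_image (B.cfg.sqU q q.2.1) hqc
        (by rw [e]; exact hfs _ hs hfs1) (by rw [e]; exact B.hSM (mul_mem hs hs))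
      simpa using inv_mem (mul_mem (inv_mem hk) hkg)
    have hEi : ∀ q ∈ E, σ q ∈ E := fun q hq => ⟨B.cfg.invU q hq.1, inv_ncen hx q hq.2⟩
    let sE : E → E := fun q => ⟨σ q, hEi q q.2⟩
    let q : E := ⟨q₀, hq₀⟩
    let M : ℕ → E := fun k => ((List.range k).map fun i => sE^[i] q).prod
    have hit : ∀ i, ((sE^[i] q : E) : G) = (σ ^ i) q₀ := by
      intro i
      induction i with
      | zero => rfl
      | succ i ih =>
        rw [Function.iterate_succ', Function.comp_apply, pow_succ', MulAut.mul_apply]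
        exact congrArg σ ih
    have hM : ∀ k, M (k + 1) = M k * sE^[k] q := fun k => by
      simp only [M, List.range_succ, List.map_append, List.map_cons, List.map_nil, List.prod_append,
        List.prod_cons, List.prod_nil, mul_one]
    have hMσ : ∀ k, q₀ * σ (M k : G) = (M (k + 1) : G) := by
      intro k
      induction k with
      | zero => simp [M, q]
      | succ k ih =>
        rw [hM (k + 1), hM k, Subgroup.coe_mul, Subgroup.coe_mul, map_mul, ← mul_assoc, ih, hM k,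
          Subgroup.coe_mul, hit, hit, pow_succ', MulAut.mul_apply]
    have hl : ∀ k, l (M k) = (-1) ^ k := by
      intro k
      induction k with
      | zero => simp [M]
      | succ k ih =>
        rw [hM, map_mul, ih, pow_succ, hneg _ ?_]
        rw [hit, ← map_mul, H10.Shult.Rank.pow_fixed (B.fixZ (B.cfg.sqU q₀ hq₀.1)) k]
        exact hq₀c
    have hMZ : (M r : G) ∈ Z := by
      refine H10.Shult.Rank.mem_Z_of_mov B.cfg (M r).2.1 ?_
      have h1 := hMσ r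
      rw [hM, Subgroup.coe_mul, hit, B.cfg.hσ, MulAut.one_apply] at h1
      rw [show σ (M r : G) = q₀⁻¹ * ((M r : G) * q₀) by rw [← h1, inv_mul_cancel_left],
        show q₀⁻¹ * ((M r : G) * q₀) * (M r : G)⁻¹ = q₀⁻¹ * (M r : G) * q₀⁻¹⁻¹ * (M r : G)⁻¹ by group]
      exact B.cfg.comU _ (inv_mem hq₀.1) _ (M r).2.1
    have hsq : ((q * M r : E) : G) * ((q * M r : E) : G) = q₀ * q₀ := by
      show q₀ * (M r : G) * (q₀ * (M r : G)) = q₀ * q₀
      rw [B.cfg.cenU q₀ hq₀.1 _ hMZ, show (M r : G) * q₀ * ((M r : G) * q₀) =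
        (M r : G) * (q₀ * (M r : G)) * q₀ by group, B.cfg.cenU q₀ hq₀.1 _ hMZ,
        show (M r : G) * ((M r : G) * q₀) * q₀ = (M r : G) * (M r : G) * (q₀ * q₀) by group,
        B.cfg.sqZ _ hMZ, one_mul]
    have h1 := hneg (q * M r) (by rw [hsq]; exact hq₀c)
    have hrodd : Odd r := by
      rw [B.cfg.hrm]; exact ((even_two.pow_of_ne_zero B.cfg.m_pos.ne').add_one)
    rw [map_mul, hneg q hq₀c, hl, hrodd.neg_one_pow] at h1
    exact absurd h1 (by decide)
  have hoM : x • o = o ∧ val o.out = -1 := by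
    refine ⟨by rw [ho]; exact (hfix_iff 1).mpr (by simpa using hxM), ?_⟩
    have hk : o.out ∈ H₀ := (ho_iff _).mp (QuotientGroup.out_eq' o)
    have h1 : val (1 * o.out) = val 1 := hval 1 _ hk (by simpa using hxM)
    rw [one_mul] at h1
    rw [h1]
    have h2 : (1 : G)⁻¹ * x * 1 ∈ H₀ := by simpa using hxM
    simp only [val, dif_pos h2]
    rw [← hfx]; congr 1; apply Subtype.ext; show (1 : G)⁻¹ * x * 1 = x; group
  haveI : Finite Minus := Subtype.finite
  have hmod := hE2.card_modEq_card_fixedPoints (α := Minus)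
  have hfp : Nat.card (fixedPoints E Minus) = 1 := by
    rw [Nat.card_eq_one_iff_unique]
    refine ⟨⟨fun a b => ?_⟩, ⟨⟨⟨o, hoM⟩, fun e => Subtype.ext ?_⟩⟩⟩
    · have key : ∀ a : fixedPoints E Minus, a.1.1 = o := by
        intro a
        rw [← QuotientGroup.out_eq' a.1.1]
        refine (ho_iff _).mpr (honly _ fun q hq => ?_)
        have h1 : (q : G) • a.1.1 = a.1.1 := congrArg Subtype.val (a.2 ⟨q, hq⟩)
        conv at h1 => rw [← QuotientGroup.out_eq' a.1.1, Quotient.smul_coe, smul_eq_mul, eq_comm,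
          QuotientGroup.eq, ← mul_assoc]
        exact h1
      exact Subtype.ext (Subtype.ext ((key a).trans (key b).symm))
    · show (e : G) • o = o
      rw [ho, Quotient.smul_coe, smul_eq_mul, mul_one]
      exact (ho_iff _).mpr (B.hUM e.2.1)
  rw [hfp] at hmod
  -- the transfer
  haveI : H₀.FiniteIndex := inferInstance
  haveI : Fintype (Quotient (orbitRel (zpowers x) (G ⧸ H₀))) := Fintype.ofFinite _
  have hT : MonoidHom.transfer f x = 1 :=
    MonoidHom.mem_ker.mp (Abelianization.commutator_subset_ker (MonoidHom.transfer f)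
      (B.cfg.perfect.ge (mem_top x)))
  rw [MonoidHom.transfer_eq_prod_quotient_orbitRel_zpowers_quot] at hT
  set F : Quotient (orbitRel (zpowers x) (G ⧸ H₀)) → ℤˣ := fun q =>
    f ⟨q.out.out⁻¹ * x ^ Function.minimalPeriod (x • ·) q.out * q.out.out,
      QuotientGroup.out_conj_pow_minimalPeriod_mem H₀ x q.out⟩ with hF
  have hx2a : ∀ a : G ⧸ H₀, x • x • a = a := by
    intro a
    rw [← mul_smul, ← QuotientGroup.out_eq' a, Quotient.smul_coe, smul_eq_mul, QuotientGroup.eq,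
      show (x * x * a.out)⁻¹ * a.out = a.out⁻¹ * (x * x)⁻¹ * a.out by group,
      mul_assoc, ← mem_center_iff.mp (inv_mem hx2) a.out, ← mul_assoc, inv_mul_cancel, one_mul]
    exact B.center_le (inv_mem hx2)
  have hFq : ∀ q, (x • q.out = q.out → F q = val q.out.out) ∧ (x • q.out ≠ q.out → F q = 1) := by
    intro q
    constructor
    · intro hfix
      have hp : Function.minimalPeriod (x • ·) q.out = 1 :=
        Function.minimalPeriod_eq_one_iff_isFixedPt.mpr hfix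
      have hg : q.out.out⁻¹ * x * q.out.out ∈ H₀ :=
        (hfix_iff _).mp (by rw [QuotientGroup.out_eq']; exact hfix)
      simp only [hF, val, dif_pos hg]
      congr 1
      apply Subtype.ext
      show q.out.out⁻¹ * x ^ Function.minimalPeriod (x • ·) q.out * q.out.out = _
      rw [hp, pow_one]
    · intro hnfix
      have hp : Function.minimalPeriod (x • ·) q.out = 2 := by
        have h2 : Function.IsPeriodicPt (x • ·) 2 q.out := hx2a q.out
        rcases (Nat.dvd_prime Nat.prime_two).mp h2.minimalPeriod_dvd with h | h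
        · exact absurd (Function.minimalPeriod_eq_one_iff_isFixedPt.mp h) hnfix
        · exact h
      simp only [hF]
      refine Eq.trans (congrArg f (Subtype.ext ?_)) (hfc (x * x) hx2)
      show q.out.out⁻¹ * x ^ Function.minimalPeriod (x • ·) q.out * q.out.out = x * x
      rw [hp, pow_two, mul_assoc, ← mem_center_iff.mp hx2 q.out.out, ← mul_assoc, inv_mul_cancel,
        one_mul]
  have hsingle : ∀ a : G ⧸ H₀, x • a = a →
      (Quotient.mk'' a : Quotient (orbitRel (zpowers x) (G ⧸ H₀))).out = a := by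
    intro a ha
    have hr : orbitRel (zpowers x) (G ⧸ H₀)
        (Quotient.mk'' a : Quotient (orbitRel (zpowers x) (G ⧸ H₀))).out a :=
      Quotient.exact' (Quotient.out_eq' _)
    obtain ⟨⟨k, hk⟩, hka⟩ := hr
    rw [← hka]
    obtain ⟨i, rfl⟩ := mem_zpowers_iff.mp hk
    exact (mem_stabilizer_iff.mp (zpow_mem (mem_stabilizer_iff.mpr ha : x ∈ stabilizer G a) i))
  let eQ : {q // F q = -1} ≃ Minus :=
    { toFun := fun q => ⟨q.1.out, by
        have hfix : x • q.1.out = q.1.out := by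
          by_contra hn
          have := q.2
          rw [(hFq q.1).2 hn] at this
          exact absurd this (by decide)
        exact ⟨hfix, ((hFq q.1).1 hfix).symm.trans q.2⟩⟩
      invFun := fun a => ⟨Quotient.mk'' a.1, by
        have h1 := (hFq (Quotient.mk'' a.1)).1 (by rw [hsingle a.1 a.2.1]; exact a.2.1)
        rw [hsingle a.1 a.2.1] at h1
        exact h1.trans a.2.2⟩
      left_inv := fun q => Subtype.ext (Quotient.out_eq' q.1)
      right_inv := fun a => Subtype.ext (hsingle a.1 a.2.1) }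
  have hprod : ∏ q, F q = (-1) ^ Nat.card {q // F q = -1} := by
    rw [Nat.card_eq_fintype_card, Fintype.card_subtype, ← Finset.prod_const,
      ← Finset.prod_filter_mul_prod_filter_not Finset.univ (fun q => F q = -1) F,
      Finset.prod_eq_one (s := Finset.univ.filter fun q => ¬ F q = -1)
        (fun q hq => (Int.units_eq_one_or _).resolve_right (Finset.mem_filter.mp hq).2), mul_one]
    exact Finset.prod_congr rfl fun q hq => (Finset.mem_filter.mp hq).2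
  rw [hprod, Nat.card_congr eQ, (Nat.odd_iff.mpr hmod).neg_one_pow] at hT
  exact absurd hT (by decide)

end H41.Shult.Two
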