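import Cfsg.Agent.H41.Shult.TwoClosed

/-!
Shult's fixed point theorem, several radicals: fusion of noncentral elements of `Z` under fixed
elements of the maximal invariant overgroup, inside any invariant subgroup containing them and a
fixed element outside.
-/

set_option autoImplicit false
set_option linter.all false

open Subgroup

namespace H41.Shult

open H85.Shult (Top fixed disp Inv)

variable {G : Type*} [Group G] [Finite G] {σ : MulAut G} {r m p : ℕ} {S U Z H₀ : Subgroup G}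

namespace Two

variable (B : Two σ r m p S U Z H₀)
include B

theorem central_mem_S {c : G} (hc : c ∈ center G) (hc2 : c * c = 1) : c ∈ S := by
  obtain ⟨g, -, hg⟩ := B.sylG.2.2 (zpowers c) le_top (isPGroup_zpowers_of_sq hc2)
  have := hg c (mem_zpowers c)
  rwa [mem_center_iff.mp hc g, mul_inv_cancel_right] at this

/-- Noncentral elements of `Z` fuse inside `L ∩ H₀`. -/
theorem exists_fuse (L : Subgroup G) {g a b : G} (hgL : g ∈ L) (hg : σ g = g) (hgM : g ∉ H₀)
    (ha : a ∈ Z) (haL : a ∈ L) (han : a ∉ center G) (hb : b ∈ Z) (hbL : b ∈ L)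
    (hbn : b ∉ center G) :
    ∃ n ∈ L, n ∈ H₀ ∧ σ n = n ∧ n * a * n⁻¹ ∈ Z ∧ n * a * n⁻¹ * b⁻¹ ∈ center G := by
  haveI : Fact (Nat.Prime 2) := ⟨Nat.prime_two⟩
  obtain ⟨a', ha'⟩ : ∃ y, y = g * a * g⁻¹ := ⟨_, rfl⟩
  have hσa : σ a' = a' := by rw [ha']; simp only [map_mul, map_inv, hg, B.fixZ ha]
  have ha2 : a' * a' = 1 := by
    rw [ha', show g * a * g⁻¹ * (g * a * g⁻¹) = g * (a * a) * g⁻¹ by group, B.cfg.sqZ a ha]; group
  have hai : a'⁻¹ = a' := inv_eq_of_mul_eq_one_right ha2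
  have hbi : b⁻¹ = b := B.inv_eq hb
  set D := closure ({a', b} : Set G) with hD
  have hDfix : D ≤ fixed σ := by
    rw [hD, closure_le]
    rintro x (rfl | rfl)
    · exact hσa
    · exact B.fixZ hb
  have hDL : D ≤ L := by
    rw [hD, closure_le]
    rintro x (rfl | rfl)
    · exact ha' ▸ mul_mem (mul_mem hgL haL) (inv_mem hgL)
    · exact hbL
  have hDi : SInv σ D := fun x hx => by rw [show σ x = x from hDfix hx]; exact hx
  have haD : a' ∈ D := subset_closure (Or.inl rfl)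
  have hbD : b ∈ D := subset_closure (Or.inr rfl)
  obtain ⟨P, hPi, hbP, hP⟩ := exists_inv_syl_ge B.cfg.hr B.cfg.hσ B.cfg.hcop hDi
    (sInv_zpowers (B.fixZ hb)) (zpowers_le.mpr hbD) (isPGroup_zpowers_of_sq (B.cfg.sqZ b hb))
  have hPH : P ≤ H₀ := B.two_le hPi hP.2.1 (hbP (mem_zpowers b)) hb hbn
  obtain ⟨k, hkD, hk⟩ := hP.2.2 (zpowers a') (zpowers_le.mpr haD) (isPGroup_zpowers_of_sq ha2)
  have hσk : σ k = k := hDfix hkD
  have hk' : k * a' * k⁻¹ ∈ P := hk a' (mem_zpowers a')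
  have hn : k * g ∈ H₀ := B.mem_of_conjZ (by rw [map_mul, hσk, hg]) ha han (by
    rw [show k * g * a * (k * g)⁻¹ = k * a' * k⁻¹ by rw [ha']; group]
    exact hPH hk')
  obtain ⟨c, hc, hσc, hcS⟩ := B.conj_into_S hPi hPH hP.2.1
  have hz₂ : c * b * c⁻¹ ∈ Z := B.fixed_conj_Z hc hσc hb (hcS b (hbP (mem_zpowers b)))
  have hz₁ : c * (k * a' * k⁻¹) * c⁻¹ ∈ Z := by
    have := B.fixed_conj_Z (n := c * (k * g)) (mul_mem hc hn)
      (by rw [map_mul, map_mul, hσc, hσk, hg]) ha (by
        rw [show c * (k * g) * a * (c * (k * g))⁻¹ = c * (k * a' * k⁻¹) * c⁻¹ by rw [ha']; group]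
        exact hcS _ hk')
    rwa [show c * (k * g) * a * (c * (k * g))⁻¹ = c * (k * a' * k⁻¹) * c⁻¹ by rw [ha']; group] at this
  have hdc : k * a' * k⁻¹ * b ∈ center G := by
    by_contra hd
    obtain ⟨t, ht⟩ : ∃ t, t = a' * b := ⟨_, rfl⟩
    -- conjugates of `a'` differ from it by a power of `t`
    have key : ∀ y ∈ D, y ∈ normalizer (zpowers t : Set G) ∧ y * a' * y⁻¹ * a'⁻¹ ∈ zpowers t := by
      have hinvol : ∀ y : G, y * t * y⁻¹ = t⁻¹ → y ∈ normalizer (zpowers t : Set G) := fun y hy => by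
        rw [mem_normalizer_iff_map_conj_eq, MonoidHom.map_zpowers]
        show zpowers (y * t * y⁻¹) = zpowers t
        rw [hy, zpowers_inv]
      intro y hy
      rw [hD] at hy
      induction hy using closure_induction with
      | mem x hx =>
        rcases hx with rfl | rfl
        · refine ⟨hinvol _ ?_, ?_⟩
          · rw [ht, mul_inv_rev, hbi, hai, ← mul_assoc x x, ha2, one_mul]
          · rw [show x * x * x⁻¹ * x⁻¹ = 1 by group]; exact one_mem _
        · refine ⟨hinvol _ ?_, ?_⟩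
          · rw [ht, mul_inv_rev, hbi, hai, show x * (a' * x) * x = x * a' * (x * x) by group,
              B.cfg.sqZ x hb, mul_one]
          · rw [hbi, hai]
            have : (x * a') * (x * a') = (t⁻¹) ^ 2 := by rw [ht, pow_two, mul_inv_rev, hbi, hai]
            rw [mul_assoc, this]
            exact pow_mem (inv_mem (mem_zpowers t)) 2
      | one => exact ⟨one_mem _, by simp⟩
      | mul u v _ _ hu hv =>
        refine ⟨mul_mem hu.1 hv.1, ?_⟩
        have := mul_mem ((mem_normalizer_iff.mp hu.1 _).mp hv.2) hu.2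
        convert this using 1
        group
      | inv u _ hu =>
        refine ⟨inv_mem hu.1, ?_⟩
        have := (mem_normalizer_iff.mp (inv_mem hu.1) _).mp (inv_mem hu.2)
        convert this using 1
        group
    have hdt : k * a' * k⁻¹ * b ∈ zpowers t := by
      have := mul_mem (key k hkD).2 (mem_zpowers t)
      convert this using 1
      rw [ht]; group
    obtain ⟨d, hdd⟩ : ∃ d, d = k * a' * k⁻¹ * b := ⟨_, rfl⟩
    rw [← hdd] at hdt hd
    obtain ⟨i, hi⟩ := mem_zpowers_iff.mp hdt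
    have hdtc : Commute d t := by rw [← hi]; exact (Commute.refl t).zpow_left i
    have hz : c * d * c⁻¹ = c * (k * a' * k⁻¹) * c⁻¹ * (c * b * c⁻¹) := by rw [hdd]; group
    have hdb : Commute d b := by
      have h1 := B.cfg.cenU _ (B.hZU (mul_mem hz₁ hz₂)) _ hz₂
      rw [← hz, show c * d * c⁻¹ * (c * b * c⁻¹) = c * (d * b) * c⁻¹ by group,
        show c * b * c⁻¹ * (c * d * c⁻¹) = c * (b * d) * c⁻¹ by group] at h1
      exact mul_left_cancel (mul_right_cancel h1)
    have hda : Commute d a' := by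
      have : a' = t * b := by rw [ht, mul_assoc, B.cfg.sqZ b hb, mul_one]
      rw [this]; exact hdtc.mul_right hdb
    have hzn : c * d * c⁻¹ ∉ center G := fun h => hd (by
      have := (inferInstance : (center G).Normal).conj_mem _ h c⁻¹
      rwa [show c⁻¹ * (c * d * c⁻¹) * c⁻¹⁻¹ = d by group] at this)
    have haH : c * a' * c⁻¹ ∈ H₀ := B.ncen_le (hz ▸ mul_mem hz₁ hz₂) hzn (conj_mem_ncen
      (mem_ncen.mpr (by rw [← hda.eq, mul_inv_cancel_right, mul_inv_cancel]; exact one_mem _)))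
    have : a' ∈ H₀ := by
      have h1 := mul_mem (mul_mem (inv_mem hc) haH) hc
      convert h1 using 1
      group
    exact hgM (B.mem_of_conjZ hg ha han (ha' ▸ this))
  have e : k * g * a * (k * g)⁻¹ = k * a' * k⁻¹ * b * b := by
    rw [mul_assoc _ b b, B.cfg.sqZ b hb, mul_one, ha']; group
  have hσn : σ (k * g) = k * g := by rw [map_mul, hσk, hg]
  have hC2 : k * a' * k⁻¹ * b * (k * a' * k⁻¹ * b) = 1 := by
    have hcomm : b * (k * a' * k⁻¹ * b) = k * a' * k⁻¹ * b * b := mem_center_iff.mp hdc b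
    rw [mul_assoc (k * a' * k⁻¹) b, hcomm,
      show k * a' * k⁻¹ * (k * a' * k⁻¹ * b * b) = k * (a' * a') * k⁻¹ * (b * b) by group, ha2,
      B.cfg.sqZ b hb]
    group
  have hS : k * g * a * (k * g)⁻¹ ∈ S := by
    rw [e]; exact mul_mem (B.central_mem_S hdc hC2) (B.hZS hb)
  refine ⟨k * g, mul_mem (hDL hkD) hgL, hn, hσn, B.fixed_conj_Z hn hσn ha hS, ?_⟩
  rw [e, hbi, mul_assoc _ b b, B.cfg.sqZ b hb, mul_one]
  exact hdc

/-- The induced automorphisms are transitive on `Z` modulo the centre. -/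
theorem exists_act {h a b : G} (hh : σ h = h) (hhM : h ∉ H₀) (ha : a ∈ Z) (han : a ∉ center G)
    (hb : b ∈ Z) (hbn : b ∉ center G) :
    ∃ φ ∈ act σ U, ((φ ⟨a, B.hZU ha⟩ : U) : G)⁻¹ * b ∈ center G := by
  obtain ⟨n, -, hn, hσn, hnZ, hnb⟩ := B.exists_fuse ⊤ (mem_top h) hh hhM ha (mem_top a) han hb
    (mem_top b) hbn
  obtain ⟨K, hK⟩ := B.exists_core
  obtain ⟨n', hσn', hn'N, -, hn'e⟩ := B.exists_normalising hK hn hσn
  refine ⟨U.normalizerMonoidHom ⟨n', hn'N⟩, mem_act.mpr ⟨n', hσn', hn'N, fun u => rfl⟩, ?_⟩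
  show (n' * a * n'⁻¹)⁻¹ * b ∈ center G
  rw [hn'e a (B.hZU ha) (B.hZU hnZ)]
  have := inv_mem hnb
  rw [mul_inv_rev, inv_inv] at this
  rwa [B.cfg.cenU b (B.hZU hb) _ (inv_mem hnZ)] at this

end Two

end H41.Shult
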