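import Cfsg.Agent.H41.Shult.TwoPlaneForms
import Cfsg.Agent.H41.Shult.TwoFuse

/-!
Shult's fixed point theorem, several radicals: if the induced group has odd order and fixes no
vector of `U / Z`, then `U / Z` is a plane on which it acts freely, all even characters being
nondegenerate.
-/

set_option autoImplicit false
set_option linter.all false

open Subgroup

namespace H41.Shult

open H85.Shult (Top fixed disp Inv)

variable {G : Type*} [Group G] [Finite G] {σ : MulAut G} {r m p : ℕ} {S U Z H₀ : Subgroup G}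

/-- The plane configuration. -/
structure PlaneFacts (B : Two σ r m p S U Z H₀) : Prop where
  idx : (Z.subgroupOf U).index = 2 ^ (4 * m)
  rad : ∀ χ : (Z.subgroupOf U) →* ℤˣ, χ ≠ 1 →
    (∀ z : Z.subgroupOf U, ((z : U) : G) ∈ center G → χ z = 1) → B.fd.rad χ = Z.subgroupOf U
  nofix : ∀ φ ∈ act σ U, φ ≠ 1 → ∀ v : U, φ v * v⁻¹ ∈ Z.subgroupOf U → (v : G) ∈ Z

namespace Two

variable (B : Two σ r m p S U Z H₀)
include B

/-- The central element of `Z`. -/
theorem odd_iff : ∃ z₀ : Z.subgroupOf U, ((z₀ : U) : G) ∈ center G ∧ z₀ ≠ 1 ∧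
    ∀ ε : (Z.subgroupOf U) →* ℤˣ, OddCh U Z ε ↔ ε z₀ ≠ 1 := by
  obtain ⟨z, hz, hzc, hz1⟩ := B.central
  refine ⟨B.toZ hz, hzc, fun h => hz1 (congrArg (fun t : Z.subgroupOf U => ((t : U) : G)) h),
    fun ε => ⟨fun h => h _ hzc (fun e => hz1 (congrArg (fun t : Z.subgroupOf U => ((t : U) : G)) e)),
      fun h y hyc hy1 => ?_⟩⟩
  have : y = B.toZ hz := Subtype.ext (Subtype.ext (B.two_center y.2 hyc hz hzc
    (fun e => hy1 (Subtype.ext (Subtype.ext e))) hz1))
  rwa [this]

theorem odd_mul_odd {ε η : (Z.subgroupOf U) →* ℤˣ} (hε : OddCh U Z ε) (hη : OddCh U Z η) :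
    ∀ z : Z.subgroupOf U, ((z : U) : G) ∈ center G → (ε * η) z = 1 := fun z hz => by
  rw [MonoidHom.mul_apply, B.odd_eq hε hη hz, Int.units_mul_self]

theorem odd_mul_even {ε χ : (Z.subgroupOf U) →* ℤˣ} (hε : OddCh U Z ε)
    (hχ : ∀ z : Z.subgroupOf U, ((z : U) : G) ∈ center G → χ z = 1) : OddCh U Z (ε * χ) := by
  intro z hz hz1
  rw [MonoidHom.mul_apply, hχ z hz, mul_one]
  exact hε z hz hz1

omit B in
theorem mul_self_char (ε : (Z.subgroupOf U) →* ℤˣ) : ε * ε = 1 :=
  MonoidHom.ext fun z => Int.units_mul_self _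

omit B in
theorem eq_of_mul_eq_one {ε η : (Z.subgroupOf U) →* ℤˣ} (h : ε * η = 1) : ε = η :=
  calc ε = ε * (η * η) := by rw [mul_self_char, mul_one]
    _ = η := by rw [← mul_assoc, h, one_mul]

/-- The odd characters number `|Z : Z ∩ Z(G)|`. -/
theorem card_odd : Nat.card {ε : (Z.subgroupOf U) →* ℤˣ // OddCh U Z ε} =
    (Z ⊓ center G).relIndex Z := by
  classical
  haveI : Finite ((Z.subgroupOf U) →* ℤˣ) := Finite.of_injective _ DFunLike.coe_injective
  obtain ⟨z₀, hz₀c, hz₀1, hodd⟩ := B.odd_iff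
  obtain ⟨ε, η, hεo, -, -⟩ := B.exists_two
  let ev : ((Z.subgroupOf U) →* ℤˣ) →* ℤˣ :=
    { toFun := fun χ => χ z₀
      map_one' := rfl
      map_mul' := fun _ _ => rfl }
  have hsurj : Function.Surjective ev := by
    intro u
    rcases Int.units_eq_one_or u with rfl | rfl
    · exact ⟨1, rfl⟩
    · exact ⟨ε, (Int.units_eq_one_or _).resolve_left ((hodd ε).mp hεo)⟩
  have e : {χ : (Z.subgroupOf U) →* ℤˣ // OddCh U Z χ} ≃ ev.ker :=
    { toFun := fun χ => ⟨ε * χ.1, MonoidHom.mem_ker.mpr (B.odd_mul_odd hεo χ.2 z₀ hz₀c)⟩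
      invFun := fun χ => ⟨ε * χ.1, (hodd _).mpr (by
        show ε z₀ * χ.1 z₀ ≠ 1
        rw [show χ.1 z₀ = 1 from χ.2, mul_one]
        exact (hodd ε).mp hεo)⟩
      left_inv := fun χ => Subtype.ext (by
        show ε * (ε * χ.1) = χ.1
        rw [← mul_assoc, mul_self_char, one_mul])
      right_inv := fun χ => Subtype.ext (by
        show ε * (ε * χ.1) = χ.1
        rw [← mul_assoc, mul_self_char, one_mul]) }
  rw [Nat.card_congr e]
  have h1 := ev.ker.card_mul_index
  rw [Subgroup.index_ker, MonoidHom.range_eq_top.mpr hsurj, B.fd.card_dual,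
    Nat.card_congr (subgroupOfEquivOfLe B.hZU).toEquiv, card_top] at h1
  have h2 : Nat.card ((Z ⊓ center G).subgroupOf Z) * (Z ⊓ center G).relIndex Z = Nat.card Z :=
    card_mul_index _
  rw [Nat.card_congr (subgroupOfEquivOfLe inf_le_left).toEquiv] at h2
  have h3 : Nat.card ↥(Z ⊓ center G) = 2 := by
    obtain ⟨z, hz, hzc, hz1⟩ := B.central
    haveI : Nontrivial ↥(Z ⊓ center G) :=
      ⟨⟨⟨z, hz, hzc⟩, 1, fun h => hz1 (congrArg Subtype.val h)⟩⟩
    have := B.cfg.centre_two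
    have : 1 < Nat.card ↥(Z ⊓ center G) := Finite.one_lt_card
    omega
  rw [h3] at h2
  have : Nat.card ℤˣ = 2 := by rw [Nat.card_eq_fintype_card, Fintype.card_units_int]
  rw [this] at h1
  omega

/-- A vector of `U / Z` fixed by the induced group, from one whose translates are known modulo a
larger subgroup. -/
theorem exists_fixed_vec (hodd : Odd (Nat.card (act σ U))) (N : Subgroup U)
    (hZN : Z.subgroupOf U ≤ N) {u : U} (hu : u ∉ N)
    (hN : (∀ φ ∈ act σ U, φ u * u⁻¹ ∈ N) ∨ ∀ φ ∈ act σ U, φ ≠ 1 → φ u ∈ N) :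
    ∃ v : U, (v : G) ∉ Z ∧ ∀ φ ∈ act σ U, φ v * v⁻¹ ∈ Z.subgroupOf U := by
  classical
  haveI := B.fd.normal_of_le (le_refl (Z.subgroupOf U))
  haveI := B.fd.normal_of_le hZN
  letI : CommGroup (U ⧸ Z.subgroupOf U) :=
    { (inferInstance : Group (U ⧸ Z.subgroupOf U)) with
      mul_comm := fun a b => by
        obtain ⟨a, rfl⟩ := QuotientGroup.mk_surjective a
        obtain ⟨b, rfl⟩ := QuotientGroup.mk_surjective b
        rw [← QuotientGroup.mk_mul, ← QuotientGroup.mk_mul, QuotientGroup.eq,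
          show (a * b)⁻¹ * (b * a) = b⁻¹ * a⁻¹ * b⁻¹⁻¹ * a⁻¹⁻¹ by group]
        exact B.fd.comm b⁻¹ a⁻¹ }
  letI : CommGroup (U ⧸ N) :=
    { (inferInstance : Group (U ⧸ N)) with
      mul_comm := fun a b => by
        obtain ⟨a, rfl⟩ := QuotientGroup.mk_surjective a
        obtain ⟨b, rfl⟩ := QuotientGroup.mk_surjective b
        rw [← QuotientGroup.mk_mul, ← QuotientGroup.mk_mul, QuotientGroup.eq,
          show (a * b)⁻¹ * (b * a) = b⁻¹ * a⁻¹ * b⁻¹⁻¹ * a⁻¹⁻¹ by group]
        exact hZN (B.fd.comm b⁻¹ a⁻¹) }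
  haveI : Finite (MulAut U) := Finite.of_injective _ DFunLike.coe_injective
  haveI : Fintype (act σ U) := Fintype.ofFinite _
  obtain ⟨v, hv⟩ := QuotientGroup.mk_surjective
    (∏ φ : act σ U, (QuotientGroup.mk ((φ : MulAut U) u) : U ⧸ Z.subgroupOf U))
  let q : (U ⧸ Z.subgroupOf U) →* U ⧸ N := QuotientGroup.map _ _ (MonoidHom.id U) hZN
  have hqv : (QuotientGroup.mk v : U ⧸ N) = QuotientGroup.mk u := by
    have h1 : (QuotientGroup.mk v : U ⧸ N) =
        ∏ φ : act σ U, (QuotientGroup.mk ((φ : MulAut U) u) : U ⧸ N) := by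
      have := congrArg q hv
      rw [map_prod] at this
      exact this
    rw [h1]
    rcases hN with hN | hN
    · have e : ∀ φ : act σ U, (QuotientGroup.mk ((φ : MulAut U) u) : U ⧸ N) = QuotientGroup.mk u :=
        fun φ => by
          rw [QuotientGroup.eq]
          have h2 := inv_mem (hN _ φ.2)
          rw [mul_inv_rev, inv_inv] at h2
          have h3 := (inferInstance : N.Normal).conj_mem _ h2 u⁻¹
          convert inv_mem (inv_mem h3) using 1
          group
      rw [Finset.prod_congr rfl fun φ _ => e φ, Finset.prod_const, Finset.card_univ,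
        ← Nat.card_eq_fintype_card]
      obtain ⟨k, hk⟩ := hodd
      have h2 : (QuotientGroup.mk u : U ⧸ N) ^ 2 = 1 := by
        rw [← QuotientGroup.mk_pow, QuotientGroup.eq_one_iff, pow_two]
        exact hZN (B.fd.sq u)
      rw [hk, pow_succ, pow_mul, h2, one_pow, one_mul]
    · rw [Finset.prod_eq_single (1 : act σ U) (fun φ _ hφ =>
        (QuotientGroup.eq_one_iff _).mpr (hN _ φ.2 fun e => hφ (Subtype.ext e)))
        (fun h => absurd (Finset.mem_univ _) h)]
      rfl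
  refine ⟨v, fun hvZ => hu ?_, fun ψ hψ => ?_⟩
  · rw [← QuotientGroup.eq_one_iff, ← hqv, QuotientGroup.eq_one_iff]
    exact hZN hvZ
  · have hψN : Z.subgroupOf U ≤ (Z.subgroupOf U).comap ψ.toMonoidHom := fun z hz => B.act_Z hψ hz
    let f : (U ⧸ Z.subgroupOf U) →* U ⧸ Z.subgroupOf U := QuotientGroup.map _ _ ψ.toMonoidHom hψN
    have h1 : (QuotientGroup.mk (ψ v) : U ⧸ Z.subgroupOf U) = QuotientGroup.mk v := by
      have := congrArg f hv
      rw [map_prod] at this
      rw [hv]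
      refine (this.trans ?_)
      exact Fintype.prod_equiv (Equiv.mulLeft (⟨ψ, hψ⟩ : act σ U)) _ _ fun φ => rfl
    rw [← QuotientGroup.eq_one_iff, QuotientGroup.mk_mul, QuotientGroup.mk_inv, h1, mul_inv_cancel]

/-- An odd character fixed by the induced group. -/
theorem exists_fixed_odd (hodd : Odd (Nat.card (act σ U))) :
    ∃ ε, OddCh U Z ε ∧ ∀ φ (hφ : φ ∈ act σ U), B.pull φ hφ ε = ε := by
  classical
  haveI : Finite (MulAut U) := Finite.of_injective _ DFunLike.coe_injective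
  haveI : Fintype (act σ U) := Fintype.ofFinite _
  obtain ⟨ε, -, hεo, -⟩ := B.exists_two
  obtain ⟨z₀, hz₀c, -, hiff⟩ := B.odd_iff
  refine ⟨∏ φ : act σ U, B.pull φ.1 φ.2 ε, (hiff _).mpr ?_, fun ψ hψ => ?_⟩
  · rw [MonoidHom.finsetProd_apply, Finset.prod_congr rfl fun φ _ =>
      (Int.units_eq_one_or _).resolve_left ((hiff _).mp (B.pull_odd φ.2 hεo)),
      Finset.prod_const, Finset.card_univ, ← Nat.card_eq_fintype_card, hodd.neg_one_pow]
    decide
  · refine MonoidHom.ext fun z => ?_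
    rw [B.pull_apply, MonoidHom.finsetProd_apply, MonoidHom.finsetProd_apply]
    exact Fintype.prod_equiv (Equiv.mulRight (⟨ψ, hψ⟩ : act σ U)) _ _ fun φ => rfl

/-- The plane, from the shape of the blocks and the absence of fixed vectors. -/
theorem planeFacts {h : G} (hh : σ h = h) (hhM : h ∉ H₀) (hodd : Odd (Nat.card (act σ U)))
    {ε₀ : (Z.subgroupOf U) →* ℤˣ} (hε₀ : OddCh U Z ε₀)
    (hblk : ∀ ε, OddCh U Z ε → ε ≠ ε₀ → B.fd.Blk ε)
    (hinf8 : (8 ≤ (Z ⊓ center G).relIndex Z ∨ B.fd.Blk ε₀) → ∀ ε η, OddCh U Z ε → B.fd.Blk ε →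
      OddCh U Z η → B.fd.Blk η → ε ≠ η → B.fd.rad ε ⊓ B.fd.rad η = Z.subgroupOf U)
    (hT : ∀ v : U, (v : G) ∉ Z → (∀ φ ∈ act σ U, φ v * v⁻¹ ∈ Z.subgroupOf U) → False) :
    PlaneFacts B := by
  classical
  haveI : Finite ((Z.subgroupOf U) →* ℤˣ) := Finite.of_injective _ DFunLike.coe_injective
  haveI : Fintype {ε : (Z.subgroupOf U) →* ℤˣ // OddCh U Z ε} := Fintype.ofFinite _
  -- the fixed odd character is the exceptional one
  obtain ⟨ε₁, hε₁, hε₁fix⟩ := B.exists_fixed_odd hodd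
  have hnb₁ : ¬ B.fd.Blk ε₁ := fun hb => by
    obtain ⟨u, -, hu⟩ := SetLike.exists_of_lt
      (lt_top_iff_ne_top.mpr (B.fd.blk_ne_top hb))
    obtain ⟨v, hv, hvfix⟩ := B.exists_fixed_vec hodd _ (B.fd.le_rad ε₁) hu
      (Or.inl fun φ hφ => B.stab hφ hb (hε₁fix φ hφ) u)
    exact hT v hv hvfix
  have he : ε₁ = ε₀ := by
    by_contra hne
    exact hnb₁ (hblk ε₁ hε₁ hne)
  subst he
  have hthird : ∀ η : (Z.subgroupOf U) →* ℤˣ, ∃ ζ, OddCh U Z ζ ∧ ζ ≠ ε₁ ∧ ζ ≠ η := by
    intro η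
    by_contra hno
    push Not at hno
    have hle : Nat.card {ε : (Z.subgroupOf U) →* ℤˣ // OddCh U Z ε} ≤ Nat.card Bool := by
      refine Nat.card_le_card_of_injective (fun ζ => decide (ζ.1 = ε₁)) fun a b hab => Subtype.ext ?_
      rw [decide_eq_decide] at hab
      by_cases h1 : a.1 = ε₁
      · rw [h1, hab.mp h1]
      · rw [hno _ a.2 h1, hno _ b.2 fun q => h1 (hab.mpr q)]
    rw [B.card_odd, Nat.card_eq_fintype_card, Fintype.card_bool] at hle
    have := B.h4
    omega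
  have hinf : ∀ ε η, OddCh U Z ε → B.fd.Blk ε → OddCh U Z η → B.fd.Blk η → ε ≠ η →
      B.fd.rad ε ⊓ B.fd.rad η = Z.subgroupOf U := by
    by_cases h8 : 8 ≤ (Z ⊓ center G).relIndex Z
    · exact hinf8 (Or.inl h8)
    intro ε η hεo hεb hηo hηb hne
    have hN4 : (Z ⊓ center G).relIndex Z = 4 := by
      haveI : Fact (Nat.Prime 2) := ⟨Nat.prime_two⟩
      obtain ⟨j, hj⟩ := IsPGroup.iff_card.mp (B.cfg.pU.to_le B.cfg.Z_le_U)
      have hd : (Z ⊓ center G).relIndex Z ∣ 2 ^ j := hj ▸ Subgroup.index_dvd_card _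
      obtain ⟨i, -, hi⟩ := (Nat.dvd_prime_pow Nat.prime_two).mp hd
      have h4 := B.h4
      rw [hi] at h8 h4 ⊢
      rcases i with - | - | - | i
      · simp at h4
      · norm_num at h4
      · norm_num
      · exfalso
        refine h8 ?_
        rw [show i + 1 + 1 + 1 = i + 3 by omega, pow_add]
        have := Nat.one_le_two_pow (n := i)
        omega
    -- the third block
    have hεne : ε ≠ ε₁ := fun e => hnb₁ (e ▸ hεb)
    have hηne : η ≠ ε₁ := fun e => hnb₁ (e ▸ hηb)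
    obtain ⟨ζ, hζo, hζne, hζε, hζη⟩ : ∃ ζ, OddCh U Z ζ ∧ ζ ≠ ε₁ ∧ ζ ≠ ε ∧ ζ ≠ η := by
      by_contra hno
      push Not at hno
      have hle : (Finset.univ : Finset {ε : (Z.subgroupOf U) →* ℤˣ // OddCh U Z ε}).card ≤
          ({⟨ε₁, hε₁⟩, ⟨ε, hεo⟩, ⟨η, hηo⟩} :
            Finset {ε : (Z.subgroupOf U) →* ℤˣ // OddCh U Z ε}).card := by
        refine Finset.card_le_card fun x _ => ?_
        simp only [Finset.mem_insert, Finset.mem_singleton]
        by_cases h1 : x.1 = ε₁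
        · exact Or.inl (Subtype.ext h1)
        by_cases h2 : x.1 = ε
        · exact Or.inr (Or.inl (Subtype.ext h2))
        exact Or.inr (Or.inr (Subtype.ext (hno x.1 x.2 h1 h2)))
      rw [Finset.card_univ, ← Nat.card_eq_fintype_card, B.card_odd, hN4] at hle
      have := hle.trans Finset.card_le_three
      omega
    have hlist : ∀ χ, OddCh U Z χ → χ ≠ ε₁ → χ = ε ∨ χ = η ∨ χ = ζ := by
      intro χ hχ hχ1
      by_contra hno
      push Not at hno
      have h5 := Finset.card_le_univ ({⟨ε₁, hε₁⟩, ⟨ε, hεo⟩, ⟨η, hηo⟩, ⟨ζ, hζo⟩, ⟨χ, hχ⟩} :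
        Finset {ε : (Z.subgroupOf U) →* ℤˣ // OddCh U Z ε})
      rw [← Nat.card_eq_fintype_card, B.card_odd, hN4] at h5
      simp [Finset.card_insert_of_notMem, hεne.symm, hηne.symm, hζne.symm, hχ1.symm, hne,
        hζε.symm, hno.1.symm, hζη.symm, hno.2.1.symm, hno.2.2.symm] at h5
    have hthree : ∀ x : U, x ∈ B.fd.rad ε → x ∈ B.fd.rad η → x ∈ B.fd.rad ζ →
        x ∈ Z.subgroupOf U := by
      intro x h1 h2 h3
      by_contra hx
      obtain ⟨χ, hχo, hχb, hout⟩ := B.exists_oblk (u := x) hx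
      rcases hlist χ hχo (fun e => hnb₁ (e ▸ hχb)) with rfl | rfl | rfl
      exacts [hout h1, hout h2, hout h3]
    refine le_antisymm ?_ (le_inf (B.fd.le_rad ε) (B.fd.le_rad η))
    intro u hu
    by_contra huZ
    have huζ : u ∉ B.fd.rad ζ := fun h => huZ (hthree u hu.1 hu.2 h)
    suffices hmoved : ∀ φ ∈ act σ U, φ ≠ 1 → φ u ∈ B.fd.rad ζ by
      obtain ⟨v, hv, hvfix⟩ := B.exists_fixed_vec hodd _ (B.fd.le_rad ζ) huζ (Or.inr hmoved)
      exact hT v hv hvfix
    intro φ hφ hφ1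
    -- the three blocks are moved cyclically
    have hblk' : ∀ χ, χ = ε ∨ χ = η ∨ χ = ζ → B.fd.Blk χ := by
      rintro χ (rfl | rfl | rfl)
      exacts [hεb, hηb, hblk _ hζo hζne]
    have hmem : B.pull φ hφ ζ = ε ∨ B.pull φ hφ ζ = η ∨ B.pull φ hφ ζ = ζ := by
      refine hlist _ (B.pull_odd hφ hζo) fun e => hnb₁ ?_
      rw [← e]; exact B.pull_blk hφ (hblk _ hζo hζne)
    have hnot : B.pull φ hφ ζ ≠ ζ := by
      intro e
      -- `φ²` fixes all three
      have hinj : ∀ a b, B.pull φ hφ a = B.pull φ hφ b → a = b := fun a b hab => by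
        refine MonoidHom.ext fun z => ?_
        have hsurj : Function.Surjective (B.zmap φ hφ) := Finite.injective_iff_surjective.mp
          fun x y hxy => Subtype.ext (φ.injective (congrArg Subtype.val hxy))
        obtain ⟨y, rfl⟩ := hsurj z
        exact DFunLike.congr_fun hab y
      have hfix2 : ∀ a, a = ε ∨ a = η ∨ a = ζ →
          B.pull φ hφ (B.pull φ hφ a) = a := by
        have hperm : ∀ a, a = ε ∨ a = η → B.pull φ hφ a = ε ∨ B.pull φ hφ a = η := by
          intro a ha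
          have hao : OddCh U Z a ∧ B.fd.Blk a ∧ a ≠ ζ := by
            rcases ha with rfl | rfl
            exacts [⟨hεo, hεb, hζε.symm⟩, ⟨hηo, hηb, hζη.symm⟩]
          rcases hlist _ (B.pull_odd hφ hao.1) (fun e' => hnb₁ (e' ▸ B.pull_blk hφ hao.2.1)) with
            h | h | h
          · exact Or.inl h
          · exact Or.inr h
          · exact absurd (hinj a ζ (h.trans e.symm)) hao.2.2
        rintro a (rfl | rfl | rfl)
        · rcases hperm a (Or.inl rfl) with h | h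
          · rw [h, h]
          · rw [h]
            rcases hperm η (Or.inr rfl) with h' | h'
            · exact h'
            · exact absurd (hinj _ _ (h.trans h'.symm)) hne
        · rcases hperm a (Or.inr rfl) with h | h
          · rw [h]
            rcases hperm ε (Or.inl rfl) with h' | h'
            · exact absurd (hinj _ _ (h.trans h'.symm)) hne.symm
            · exact h'
          · rw [h, h]
        · rw [e, e]
      have hφ2 : φ * φ = 1 := by
        refine B.eq_one_of_trivial_mod (mul_mem hφ hφ) fun x => ?_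
        have hs : ∀ a, a = ε ∨ a = η ∨ a = ζ → (φ * φ) x * x⁻¹ ∈ B.fd.rad a := fun a ha =>
          B.stab (mul_mem hφ hφ) (hblk' a ha)
            (by rw [B.pull_mul hφ hφ]; exact hfix2 a ha) x
        exact hthree _ (hs ε (Or.inl rfl)) (hs η (Or.inr (Or.inl rfl))) (hs ζ (Or.inr (Or.inr rfl)))
      refine hφ1 ?_
      have hord : Odd (orderOf φ) := hodd.of_dvd_nat (Subgroup.orderOf_dvd_natCard _ hφ)
      obtain ⟨k, hk⟩ := hord
      have := pow_orderOf_eq_one φ
      rwa [hk, pow_succ, pow_mul, pow_two, hφ2, one_pow, one_mul] at this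
    have hmov : ∀ a, B.pull φ hφ ζ = a → u ∈ B.fd.rad a → φ u ∈ B.fd.rad ζ := by
      intro a ha hua v
      obtain ⟨w, rfl⟩ := φ.surjective v
      rw [B.cm_act hφ, ← B.pull_apply hφ, ha]
      exact hua w
    rcases hmem with h | h | h
    · exact hmov ε h hu.1
    · exact hmov η h hu.2
    · exact absurd h hnot
  -- two blocks
  obtain ⟨ε, η, hεo, hεb, hηo, hηb, hradne⟩ := B.exists_two
  have hεη : ε ≠ η := fun e => hradne (e ▸ rfl)
  have hεinf := hinf ε η hεo hεb hηo hηb hεη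
  have hradne' : ∀ a b, OddCh U Z a → B.fd.Blk a → OddCh U Z b → B.fd.Blk b → a ≠ b →
      B.fd.rad a ≠ B.fd.rad b := by
    intro a b hao hab hbo hbb hab' e
    have h1 := hinf a b hao hab hbo hbb hab'
    rw [← e, inf_idem] at h1
    have h2 := hab.1
    rw [h1, B.fd.index_plane hεb hηb hradne hεinf] at h2
    have := B.cfg.m_pos
    have := Nat.pow_right_injective (le_refl 2) h2
    omega
  -- the exceptional character is nondegenerate
  have hrad₁ : B.fd.rad ε₁ = Z.subgroupOf U := by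
    by_contra hne1
    have htop : B.fd.rad ε₁ ≠ ⊤ := fun e => by
      have h1 : ε₁ = 1 := B.eq_one_of_rad_top fun u => by rw [e]; exact mem_top u
      obtain ⟨z₀, -, -, hiff⟩ := B.odd_iff
      exact (hiff _).mp hε₁ (by rw [h1]; rfl)
    exact hnb₁ (B.fd.line hεb hηb hradne hεinf (fun u hu => B.fd.sigma_rad hu) (B.fd.le_rad _)
      hne1 htop)
  refine ⟨B.fd.index_plane hεb hηb hradne hεinf, fun χ hχ1 hχ => ?_, fun φ hφ hφ1 v hv => ?_⟩
  · have hνo : OddCh U Z (ε₁ * χ) := B.odd_mul_even hε₁ hχ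
    have hν1 : ε₁ * χ ≠ ε₁ := fun e => hχ1 (mul_left_cancel (e.trans (mul_one ε₁).symm))
    obtain ⟨a, hao, ha1, haν⟩ := hthird (ε₁ * χ)
    have hbo : OddCh U Z (a * χ) := B.odd_mul_even hao hχ
    have hb1 : a * χ ≠ ε₁ := fun e => haν (by rw [← e, mul_assoc, mul_self_char, mul_one])
    have hab : a ≠ a * χ := fun e => hχ1 (mul_left_cancel (e.symm.trans (mul_one a).symm))
    have := B.fd.rad_mul (hblk a hao ha1) (hblk _ hbo hb1)
      (hradne' _ _ hao (hblk a hao ha1) hbo (hblk _ hbo hb1) hab)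
      (hinf _ _ hao (hblk a hao ha1) hbo (hblk _ hbo hb1) hab)
    rwa [← mul_assoc, mul_self_char, one_mul] at this
  · by_contra hvZ
    refine hφ1 (B.eq_one_of_trivial_mod hφ ?_)
    refine B.fd.isometry_fixed hεb hηb hradne hεinf hrad₁ φ (fun u => B.act_sigma hφ u)
      (B.act_cop hφ) (hodd.of_dvd_nat (Subgroup.orderOf_dvd_natCard _ hφ)) (fun x y => ?_)
      (v := v) hvZ hv
    conv_rhs => rw [← hε₁fix φ hφ]
    rw [B.pull_apply, B.cm_act hφ]

end Two

end H41.Shult
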